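/-
Permutation matrices in the special unitary group, and even permutations with prescribed values.
-/
import Cfsg.Agent.Lib.Chev.CT.Phan.Basic

set_option autoImplicit false

namespace CfsgLib.Presentations.SUPres

open Matrix Cfsg CfsgLib.Chev.CT.Phan Equiv Equiv.Perm

universe u

section Moves

variable {N : ℕ}

/-- The permutation sends the position `k` to the position `l`. -/
def Moves (σ : Perm (Fin N)) (k l : ℕ) : Prop := ∃ (hk : k < N) (hl : l < N), σ ⟨k, hk⟩ = ⟨l, hl⟩

theorem moves_iff {σ : Perm (Fin N)} {k l : ℕ} (hk : k < N) :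
    Moves σ k l ↔ (σ ⟨k, hk⟩ : ℕ) = l :=
  ⟨fun ⟨_, _, h⟩ => congrArg Fin.val h, fun h => ⟨hk, h ▸ (σ ⟨k, hk⟩).isLt, Fin.ext h⟩⟩

theorem Moves.one {k : ℕ} (hk : k < N) : Moves (1 : Perm (Fin N)) k k := ⟨hk, hk, rfl⟩

theorem Moves.mul {σ τ : Perm (Fin N)} {k l m : ℕ} (hσ : Moves σ l m) (hτ : Moves τ k l) :
    Moves (σ * τ) k m := by
  obtain ⟨hk, hl, e⟩ := hτ
  obtain ⟨_, hm, e'⟩ := hσ
  exact ⟨hk, hm, by rw [Perm.mul_apply, e, e']⟩

theorem Moves.inv {σ : Perm (Fin N)} {k l : ℕ} (h : Moves σ k l) : Moves σ⁻¹ l k := by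
  obtain ⟨hk, hl, e⟩ := h
  exact ⟨hl, hk, by rw [Perm.inv_eq_iff_eq, e]⟩

/-- A permutation with prescribed values and, if two points are spare, with either sign. -/
theorem exists_moves {k : ℕ} (a b : Fin k → ℕ) (ha : Function.Injective a) (hb : Function.Injective b)
    (haN : ∀ i, a i < N) (hbN : ∀ i, b i < N) (hk : k + 2 ≤ N) (s : ℤˣ) :
    ∃ σ : Perm (Fin N), sign σ = s ∧ ∀ i, Moves σ (a i) (b i) := by
  classical
  let a' : Fin k → Fin N := fun i => ⟨a i, haN i⟩
  let b' : Fin k → Fin N := fun i => ⟨b i, hbN i⟩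
  have ha' : Function.Injective a' := fun i j h => ha (congrArg Fin.val h)
  have hb' : Function.Injective b' := fun i j h => hb (congrArg Fin.val h)
  obtain ⟨π, hπ⟩ := Equiv.Perm.exists_extending_pair a' b' ha' hb'
  obtain ⟨x, hx, y, hy, hxy⟩ : ∃ x ∈ (Finset.univ.image a')ᶜ, ∃ y ∈ (Finset.univ.image a')ᶜ, x ≠ y := by
    refine Finset.one_lt_card.1 ?_
    rw [Finset.card_compl, Finset.card_image_of_injective _ ha', Finset.card_univ, Fintype.card_fin,
      Fintype.card_fin]
    omega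
  simp only [Finset.mem_compl, Finset.mem_image, Finset.mem_univ, true_and, not_exists] at hx hy
  by_cases hs : sign π = s
  · exact ⟨π, hs, fun i => ⟨haN i, hbN i, hπ i⟩⟩
  refine ⟨π * swap x y, ?_, fun i => ⟨haN i, hbN i, ?_⟩⟩
  · rw [map_mul, sign_swap hxy]
    rcases Int.units_eq_one_or (sign π) with h | h <;> rcases Int.units_eq_one_or s with h' | h' <;>
      simp_all
  · rw [Perm.mul_apply, show swap x y ⟨a i, haN i⟩ = ⟨a i, haN i⟩ from
      swap_apply_of_ne_of_ne (hx i) (hy i)]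
    exact hπ i

/-- The cyclic shift by `d`. -/
theorem moves_shift [NeZero N] (d : ℕ) {k : ℕ} (h : k + d < N) :
    Moves (finRotate N ^ d) k (k + d) := by
  induction d with
  | zero => exact Moves.one (by omega)
  | succ d ih =>
    rw [pow_succ']
    refine Moves.mul ?_ (ih (by omega))
    rw [moves_iff (by omega)]
    rw [finRotate_apply]
    simp [Fin.val_add, Nat.mod_eq_of_lt (show 1 < N by omega), add_assoc, Nat.mod_eq_of_lt h]

end Moves

variable {F : Type u} [Field F] {q N : ℕ}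

/-- The matrix of a permutation as an element of the special unitary group. -/
def pmEl (σ : Perm (Fin N)) (h : ((sign σ : ℤ) : F) = 1) : SU N F q :=
  ⟨⟨(σ⁻¹ : Perm (Fin N)).permMatrix F, by
      rw [Matrix.det_permutation, Perm.sign_inv]; exact h⟩, fun u v => by
    show hermForm N F q ((σ⁻¹ : Perm (Fin N)).permMatrix F *ᵥ u)
      ((σ⁻¹ : Perm (Fin N)).permMatrix F *ᵥ v) = hermForm N F q u v
    simp only [hermForm, Matrix.permMatrix_mulVec, Function.comp_apply]
    exact Equiv.sum_comp (σ⁻¹ : Perm (Fin N)) fun i => u i * v i ^ q⟩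

theorem act_pmEl (σ : Perm (Fin N)) (h : ((sign σ : ℤ) : F) = 1) (v : Fin N → F) :
    act (pmEl (q := q) σ h) v = v ∘ (σ⁻¹ : Perm (Fin N)) := by
  simp [act, pmEl, Matrix.permMatrix_mulVec]

theorem act_inj {g g' : SU N F q} (h : ∀ v, act g v = act g' v) : g = g' :=
  su_ext fun _ _ => h _

/-- The permutation matrices of a group of permutations of sign one in the field. -/
def pm (S : Subgroup (Perm (Fin N))) (hS : ∀ σ ∈ S, ((sign σ : ℤ) : F) = 1) : S →* SU N F q where
  toFun σ := pmEl σ.1 (hS σ.1 σ.2)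
  map_one' := act_inj fun v => by rw [act_pmEl, act_one]; rfl
  map_mul' σ τ := act_inj fun v => by
    simp only [act_mul, act_pmEl]
    funext i
    simp [Function.comp_apply]

theorem act_pm (S : Subgroup (Perm (Fin N))) (hS : ∀ σ ∈ S, ((sign σ : ℤ) : F) = 1) (σ : S)
    (v : Fin N → F) : act (pm (q := q) S hS σ) v = v ∘ ((σ : Perm (Fin N))⁻¹ : Perm (Fin N)) :=
  act_pmEl σ.1 (hS σ.1 σ.2) v

theorem alt_sign : ∀ σ ∈ alternatingGroup (Fin N), ((sign σ : ℤ) : F) = 1 := fun σ h => by
  rw [Equiv.Perm.mem_alternatingGroup] at h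
  rw [h]; simp

theorem top_sign (h2 : (2 : F) = 0) : ∀ σ ∈ (⊤ : Subgroup (Perm (Fin N))), ((sign σ : ℤ) : F) = 1 :=
  fun σ _ => by
    rcases Int.units_eq_one_or (sign σ) with h | h <;> rw [h]
    · simp
    · simp only [Units.val_neg, Units.val_one, Int.cast_neg, Int.cast_one]
      linear_combination -h2

section Conj

variable (U : UF F q) {m o o' : ℕ} (ho : o + m ≤ N) (ho' : o' + m ≤ N)

/-- A permutation matrix carries a window to a window. -/
theorem pm_emb (S : Subgroup (Perm (Fin N))) (hS : ∀ σ ∈ S, ((sign σ : ℤ) : F) = 1) (σ : S)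
    (hσ : ∀ k, k < m → Moves (σ : Perm (Fin N)) (o + k) (o' + k)) (X : SU m F q) :
    pm S hS σ * embSU o ho U X * (pm S hS σ)⁻¹ = embSU o' ho' U X := by
  rw [mul_inv_eq_iff_eq_mul]
  refine act_inj fun v => ?_
  rw [act_mul, act_mul, act_pm, act_pm]
  set s : Perm (Fin N) := (σ : Perm (Fin N))
  have hm : ∀ j : Fin m, s⁻¹ (winEquiv o' ho' (Sum.inl j)) = winEquiv o ho (Sum.inl j) := fun j => by
    obtain ⟨_, _, e⟩ := hσ j j.isLt
    rw [Perm.inv_eq_iff_eq]
    exact Fin.ext (by simpa [winEquiv] using (congrArg Fin.val e).symm)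
  funext r
  obtain ⟨t, rfl⟩ := (winEquiv o' ho').surjective r
  rw [Function.comp_apply, act_embSU o' ho', Function.comp_apply, Equiv.symm_apply_apply]
  rcases t with i | k
  · rw [Sum.elim_inl, hm, embSU_inl]
    simp only [Function.comp_apply, hm]
  · rw [Sum.elim_inr, act_embSU o ho, Function.comp_apply]
    obtain ⟨t, ht⟩ := (winEquiv o ho).surjective (s⁻¹ (winEquiv o' ho' (Sum.inr k)))
    rw [← ht, Equiv.symm_apply_apply]
    rcases t with j | l
    · exact absurd ((winEquiv o' ho').injective (s⁻¹.injective ((hm j).trans ht))) (by simp)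
    · show v l.1 = v (s⁻¹ k.1)
      exact congrArg v ht

/-- Permutation matrices of a window. -/
theorem emb_pm (S : Subgroup (Perm (Fin N))) (hS : ∀ σ ∈ S, ((sign σ : ℤ) : F) = 1) (σ : S)
    (R : Subgroup (Perm (Fin m))) (hR : ∀ σ ∈ R, ((sign σ : ℤ) : F) = 1) (τ : R) (hm : 0 + m ≤ N)
    (h1 : ∀ k : Fin m, Moves (σ : Perm (Fin N)) k ((τ : Perm (Fin m)) k : ℕ))
    (h2 : ∀ k, m ≤ k → k < N → Moves (σ : Perm (Fin N)) k k) :
    embSU 0 hm U (pm R hR τ) = pm S hS σ := by
  refine act_inj fun v => ?_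
  rw [act_embSU, act_pm S hS σ]
  funext r
  obtain ⟨t, rfl⟩ := (winEquiv 0 hm).surjective r
  rw [Function.comp_apply, Function.comp_apply, Equiv.symm_apply_apply]
  rcases t with i | k
  · rw [Sum.elim_inl, act_pm, Function.comp_apply]
    refine congrArg v ((Perm.inv_eq_iff_eq.2 ?_).symm)
    obtain ⟨_, _, e⟩ := h1 ((τ : Perm (Fin m))⁻¹ i)
    refine Fin.ext ?_
    have := congrArg Fin.val e
    simp [winEquiv] at this ⊢
    rw [this]
  · rw [Sum.elim_inr]
    have hk := k.2
    have hkN := k.1.isLt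
    obtain ⟨_, _, e⟩ := h2 k.1 (by omega) hkN
    exact congrArg v ((Perm.inv_eq_iff_eq.2 e.symm).symm)

end Conj

section Twist

variable {m o o' : ℕ}

/-- Conjugation by the matrix of any permutation. -/
def pconj (r : Perm (Fin m)) : SU m F q →* SU m F q where
  toFun A := ⟨⟨A.1.1.submatrix r.symm r.symm, by rw [Matrix.det_submatrix_equiv_self]; exact A.1.2⟩,
    fun u v => by
      show hermForm m F q (A.1.1.submatrix r.symm r.symm *ᵥ u) (A.1.1.submatrix r.symm r.symm *ᵥ v) =
        hermForm m F q u v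
      simp only [Matrix.submatrix_mulVec_equiv, Equiv.symm_symm, hermForm, Function.comp_apply]
      refine (Equiv.sum_comp r.symm fun i => (A.1.1 *ᵥ (u ∘ r)) i * ((A.1.1 *ᵥ (v ∘ r)) i) ^ q).trans ?_
      refine (A.2 (u ∘ r) (v ∘ r)).trans ?_
      exact Equiv.sum_comp r fun i => u i * v i ^ q⟩
  map_one' := Subtype.ext (Subtype.ext (Matrix.submatrix_one_equiv r.symm))
  map_mul' A B := Subtype.ext (Subtype.ext (Matrix.submatrix_mul_equiv A.1.1 B.1.1 r.symm r.symm r.symm).symm)

theorem act_pconj (r : Perm (Fin m)) (A : SU m F q) (v : Fin m → F) :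
    act (pconj r A) v = act A (v ∘ r) ∘ r.symm := by
  show (A.1.1.submatrix r.symm r.symm) *ᵥ v = _
  rw [Matrix.submatrix_mulVec_equiv, Equiv.symm_symm]
  rfl

theorem pconj_pconj (r : Perm (Fin m)) (hr : r * r = 1) (A : SU m F q) : pconj r (pconj r A) = A :=
  act_inj fun v => by
    rw [act_pconj, act_pconj]
    have h : ∀ i, r (r i) = i := fun i => by rw [← Perm.mul_apply, hr]; rfl
    funext i
    simp [Function.comp_def, h, show r.symm (r.symm i) = i by
      rw [Equiv.symm_apply_eq, Equiv.symm_apply_eq, h]]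

variable (U : UF F q) (ho : o + m ≤ N) (ho' : o' + m ≤ N)

/-- A permutation carries a window to a window, up to a permutation inside it. -/
theorem act_conj_emb (s : Perm (Fin N)) (r : Perm (Fin m))
    (hσ : ∀ k : Fin m, Moves s (o + k) (o' + (r k : ℕ))) (X : SU m F q) (v : Fin N → F) :
    act (embSU o ho U X) (v ∘ s) ∘ s.symm = act (embSU o' ho' U (pconj r X)) v := by
  have hm : ∀ j : Fin m, s (winEquiv o ho (Sum.inl j)) = winEquiv o' ho' (Sum.inl (r j)) := fun j => by
    obtain ⟨_, _, e⟩ := hσ j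
    exact Fin.ext (by simpa [winEquiv] using congrArg Fin.val e)
  funext i
  obtain ⟨t, rfl⟩ := (winEquiv o' ho').surjective i
  rw [Function.comp_apply, act_embSU o' ho', Function.comp_apply, Equiv.symm_apply_apply]
  rcases t with i | k
  · rw [Sum.elim_inl, ← r.apply_symm_apply i, ← hm, Equiv.symm_apply_apply, embSU_inl, act_pconj,
      Function.comp_apply, Equiv.symm_apply_apply]
    congr 2
    funext j
    simp [hm]
  · rw [Sum.elim_inr, act_embSU o ho, Function.comp_apply]
    obtain ⟨t, ht⟩ := (winEquiv o ho).surjective (s.symm (winEquiv o' ho' (Sum.inr k)))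
    rw [← ht, Equiv.symm_apply_apply]
    rcases t with j | l
    · have := congrArg s ht
      rw [hm, Equiv.apply_symm_apply] at this
      exact absurd ((winEquiv o' ho').injective this) (by simp)
    · show v (s l.1) = v k.1
      have := congrArg s ht
      rw [Equiv.apply_symm_apply] at this
      exact congrArg v this

theorem pm_emb_twist (S : Subgroup (Perm (Fin N))) (hS : ∀ σ ∈ S, ((sign σ : ℤ) : F) = 1) (σ : S)
    (r : Perm (Fin m)) (hσ : ∀ k : Fin m, Moves (σ : Perm (Fin N)) (o + k) (o' + (r k : ℕ)))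
    (X : SU m F q) :
    pm S hS σ * embSU o ho U X * (pm S hS σ)⁻¹ = embSU o' ho' U (pconj r X) := by
  rw [mul_inv_eq_iff_eq_mul]
  refine act_inj fun v => ?_
  rw [act_mul, act_mul, act_pm, act_pm, ← act_conj_emb U ho ho' (σ : Perm (Fin N)) r hσ X]
  congr 2
  funext i
  simp

theorem pconj_emb (s : Perm (Fin N)) (r : Perm (Fin m))
    (hσ : ∀ k : Fin m, Moves s (o + k) (o' + (r k : ℕ))) (X : SU m F q) :
    pconj s (embSU o ho U X) = embSU o' ho' U (pconj r X) :=
  act_inj fun v => by rw [act_pconj, act_conj_emb U ho ho' s r hσ X]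

end Twist

end CfsgLib.Presentations.SUPres
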