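/-
The special unitary group from a copy of `SU 3` and a group of permutation matrices.
-/
import Cfsg.Agent.Lib.Presentations.SUPres.Perm
import Cfsg.Agent.Lib.Chev.CT.Phan.Main
import Cfsg.Agent.Lib.Presentations.AltCarmichael

set_option autoImplicit false

namespace CfsgLib.Presentations.SUPres

open Matrix Cfsg CfsgLib.Chev.CT.Phan Equiv Equiv.Perm
open Carmichael

universe u v

variable {F : Type u} [Field F] {q N : ℕ}

/-- The three-cycle of the first three points. -/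
def cycN (hN : 3 ≤ N) : Perm (Fin N) :=
  cyc ⟨0, by omega⟩ ⟨1, by omega⟩ ⟨2, by omega⟩

theorem cycN_moves (hN : 3 ≤ N) :
    Moves (cycN hN) 0 1 ∧ Moves (cycN hN) 1 2 ∧ Moves (cycN hN) 2 0 ∧
      ∀ k, 3 ≤ k → k < N → Moves (cycN hN) k k := by
  obtain ⟨h0, h1, h2, hfix⟩ := cyc_apply (c₁ := (⟨0, by omega⟩ : Fin N)) (c₂ := ⟨1, by omega⟩)
    (by simp) (i := ⟨2, by omega⟩) ⟨by simp, by simp⟩
  exact ⟨⟨_, _, h0⟩, ⟨_, _, h1⟩, ⟨_, _, h2⟩, fun k hk hkN => ⟨hkN, hkN, hfix ⟨k, hkN⟩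
    (by simp; omega) (by simp; omega) (by simp; omega)⟩⟩

theorem cycN_sign (hN : 3 ≤ N) : sign (cycN hN) = 1 := by
  rw [cycN, cyc, map_mul, sign_swap (by simp), sign_swap (by simp)]; rfl

/-- The three-cycle of three points. -/
def c3 : alternatingGroup (Fin 3) :=
  ⟨cycN le_rfl, Equiv.Perm.mem_alternatingGroup.2 (cycN_sign le_rfl)⟩

/-- Its matrix. -/
def P3 : SU 3 F q := pm (alternatingGroup (Fin 3)) alt_sign c3

variable (U : UF F q)

/-- The first window of length two. -/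
abbrev e0 : SU 2 F q →* SU 3 F q := embSU 0 (by norm_num) U

theorem emb_one_eq (A : SU 2 F q) :
    embSU 1 (by norm_num) U A = P3 * e0 U A * (P3 : SU 3 F q)⁻¹ := by
  refine (pm_emb U (o := 0) (o' := 1) (by norm_num) (by norm_num) _ alt_sign c3 (fun k hk => ?_) A).symm
  obtain ⟨h0, h1, -, -⟩ := cycN_moves (N := 3) le_rfl
  obtain rfl | rfl : k = 0 ∨ k = 1 := by omega
  · exact h0
  · exact h1

/-- A group of permutations to glue along. -/
structure Setup (F : Type u) [Field F] (N : ℕ) where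
  S : Subgroup (Perm (Fin N))
  hS : ∀ σ ∈ S, ((sign σ : ℤ) : F) = 1
  hN : 4 ≤ N
  hc : cycN (N := N) (by omega) ∈ S
  pair : ∀ l, l + 2 ≤ N → ∃ σ : S, Moves (σ : Perm (Fin N)) 0 l ∧ Moves (σ : Perm (Fin N)) 1 (l + 1)
  quad : ∀ i j, i + 2 ≤ j → j + 2 ≤ N → ∃ σ : S, Moves (σ : Perm (Fin N)) 0 i ∧
    Moves (σ : Perm (Fin N)) 1 (i + 1) ∧ Moves (σ : Perm (Fin N)) 2 j ∧ Moves (σ : Perm (Fin N)) 3 (j + 1)
  triple : 5 ≤ N → ∀ l, l + 3 ≤ N → ∃ σ : S, ∀ k, k < 3 → Moves (σ : Perm (Fin N)) k (l + k)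

namespace Setup

variable (W : Setup F N)

/-- The matrices of the permutations. -/
abbrev p : W.S →* SU N F q := pm W.S W.hS

/-- The three-cycle in the group of permutations. -/
def c : W.S := ⟨cycN _, W.hc⟩

/-- The translates of the three-cycle generate. -/
def Gen : Prop :=
  ∀ K : Subgroup W.S, (∀ (σ : W.S) (l : ℕ), l + 3 ≤ N →
    (∀ k, k < 3 → Moves (σ : Perm (Fin N)) k (l + k)) → σ * W.c * σ⁻¹ ∈ K) → K = ⊤

theorem emb_P3 : embSU 0 (le_trans (by norm_num) W.hN) U (P3 : SU 3 F q) = W.p W.c := by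
  obtain ⟨h0, h1, h2, hfix⟩ := cycN_moves (N := N) (le_trans (by norm_num) W.hN)
  obtain ⟨t0, t1, t2, -⟩ := cycN_moves (N := 3) le_rfl
  refine emb_pm U W.S W.hS W.c _ alt_sign c3 _ (fun k => ?_) hfix
  have hv : ∀ {a b : ℕ}, Moves (cycN (le_refl 3)) a b → a = (k : ℕ) →
      (((c3 : alternatingGroup (Fin 3)) : Perm (Fin 3)) k : ℕ) = b := by
    rintro a b ⟨ha, hb, e⟩ rfl
    exact congrArg Fin.val e
  fin_cases k
  · rw [hv t0 rfl]; exact h0
  · rw [hv t1 rfl]; exact h1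
  · rw [hv t2 rfl]; exact h2

/-- The permutation placing the first pair. -/
noncomputable def τ (l : ℕ) : W.S := if h : l + 2 ≤ N then (W.pair l h).choose else 1

/-- The permutation placing the first triple. -/
noncomputable def σ (l : ℕ) : W.S :=
  if l = 0 then 1 else if h : 5 ≤ N ∧ l + 3 ≤ N then (W.triple h.1 l h.2).choose else 1

theorem σ_spec (h5 : 5 ≤ N) {l : ℕ} (h : l + 3 ≤ N) :
    ∀ k, k < 3 → Moves (W.σ l : Perm (Fin N)) k (l + k) := by
  intro k hk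
  by_cases e : l = 0
  · subst e
    simpa [σ] using Moves.one (N := N) (k := k) (by omega)
  · rw [σ, if_neg e, dif_pos ⟨h5, h⟩]
    exact (W.triple h5 l h).choose_spec k hk

end Setup

variable {Γ : Type v} [Group Γ]

/-- Compatible homomorphisms of `SU 3` and of the permutations. -/
structure Amal (W : Setup F N) (α : SU 3 F q →* Γ) (β : W.S →* Γ) : Prop where
  compat : α P3 = β W.c
  fix : ∀ σ : W.S, Moves (σ : Perm (Fin N)) 0 0 → Moves (σ : Perm (Fin N)) 1 1 →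
    ∀ A, Commute (β σ) (α (e0 U A))
  far : ∀ π : W.S, Moves (π : Perm (Fin N)) 0 2 → Moves (π : Perm (Fin N)) 1 3 →
    ∀ A B, Commute (α (e0 U A)) (β π * α (e0 U B) * (β π)⁻¹)

namespace Amal

variable {U} {W : Setup F N} {α : SU 3 F q →* Γ} {β : W.S →* Γ} (K : Amal U W α β)
include K

omit K in
/-- Conjugation by the image of a permutation. -/
abbrev cj (β : W.S →* Γ) (σ : W.S) : Γ →* Γ := (MulAut.conj (β σ)).toMonoidHom

omit K in
theorem cj_mul (σ τ : W.S) (x : Γ) : cj β (σ * τ) x = cj β σ (cj β τ x) := by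
  show β (σ * τ) * x * (β (σ * τ))⁻¹ = β σ * (β τ * x * (β τ)⁻¹) * (β σ)⁻¹
  rw [map_mul, _root_.mul_inv_rev]
  simp only [mul_assoc]

theorem cj_eq {σ τ : W.S} {l : ℕ} (h0 : Moves (σ : Perm (Fin N)) 0 l) (h1 : Moves (σ : Perm (Fin N)) 1 (l + 1))
    (g0 : Moves (τ : Perm (Fin N)) 0 l) (g1 : Moves (τ : Perm (Fin N)) 1 (l + 1)) (A : SU 2 F q) :
    cj β σ (α (e0 U A)) = cj β τ (α (e0 U A)) := by
  have e : cj β (τ⁻¹ * σ) (α (e0 U A)) = α (e0 U A) := by
    have := K.fix (τ⁻¹ * σ) (g0.inv.mul h0) (g1.inv.mul h1) A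
    show β _ * _ * (β _)⁻¹ = _
    rw [this.eq, mul_inv_cancel_right]
  conv_rhs => rw [← e, ← cj_mul, mul_inv_cancel_left]

omit K in
/-- The window homomorphisms of length two. -/
noncomputable def φ (_K : Amal U W α β) (l : ℕ) : SU 2 F q →* Γ := (cj β (W.τ l)).comp (α.comp (e0 U))

theorem φ_eq {σ : W.S} {l : ℕ} (h0 : Moves (σ : Perm (Fin N)) 0 l) (h1 : Moves (σ : Perm (Fin N)) 1 (l + 1))
    (A : SU 2 F q) : K.φ l A = cj β σ (α (e0 U A)) := by
  have hl : l + 2 ≤ N := by obtain ⟨_, h, -⟩ := h1; omega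
  refine K.cj_eq ?_ ?_ h0 h1 A <;> rw [Setup.τ, dif_pos hl]
  exacts [(W.pair l hl).choose_spec.1, (W.pair l hl).choose_spec.2]

theorem φ_zero (A : SU 2 F q) : K.φ 0 A = α (e0 U A) := by
  rw [K.φ_eq (σ := 1) (Moves.one (by have := W.hN; omega)) (Moves.one (by have := W.hN; omega))]
  simp

theorem α_one (A : SU 2 F q) :
    α (embSU 1 (by norm_num) U A) = cj β W.c (α (e0 U A)) := by
  rw [emb_one_eq U, map_mul, map_mul, map_inv, K.compat]
  rfl

theorem φ_comm (i j : ℕ) (hij : i + 2 ≤ j) (hj : j + 2 ≤ N) (A B : SU 2 F q) :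
    Commute (K.φ i A) (K.φ j B) := by
  obtain ⟨ρ, r0, r1, r2, r3⟩ := W.quad i j hij hj
  obtain ⟨π, p0, p1⟩ := W.pair 2 (by have := W.hN; omega)
  rw [K.φ_eq r0 r1, K.φ_eq (σ := ρ * π) (l := j) (r2.mul p0) (r3.mul p1), cj_mul]
  exact Commute.map (K.far π p0 p1 A B) (cj β ρ)

omit K in
/-- The windows of length three, by translation. -/
noncomputable def ψ (_K : Amal U W α β) (l : ℕ) : SU 3 F q →* Γ := (cj β (W.σ l)).comp α

theorem ψ_zero : K.ψ 0 = α := by
  refine MonoidHom.ext fun X => ?_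
  simp [ψ, Setup.σ]

/-- The amalgam. -/
noncomputable def dat (h5 : 5 ≤ N) : Dat U N Γ where
  φ := K.φ
  ψ := K.ψ
  h0 l hl A := by
    rw [K.φ_eq (σ := W.σ l) (by simpa using W.σ_spec h5 hl 0 (by norm_num))
      (by simpa using W.σ_spec h5 hl 1 (by norm_num))]
    rfl
  h1 l hl A := by
    obtain ⟨c0, c1, -, -⟩ := cycN_moves (N := N) (le_trans (by norm_num) W.hN)
    rw [K.φ_eq (σ := W.σ l * W.c) (l := l + 1)
      ((by simpa using W.σ_spec h5 hl 1 (by norm_num) : Moves (W.σ l : Perm (Fin N)) 1 (l + 1)).mul c0)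
      ((W.σ_spec h5 hl 2 (by norm_num)).mul c1), cj_mul, ← K.α_one]
    rfl
  hcomm i j hij hj A B := (K.φ_comm i j hij hj A B).eq

theorem dat_φ (h5 : 5 ≤ N) : (K.dat h5).φ = K.φ := rfl
theorem dat_ψ (h5 : 5 ≤ N) : (K.dat h5).ψ = K.ψ := rfl

omit K in
/-- A homomorphism agreeing on windows of length three agrees on permutations. -/
theorem comp_p (hG : W.Gen) (Ψ : SU N F q →* Γ) (hψ : ∀ l (h : l + 3 ≤ N), ∃ σ : W.S,
    (∀ k, k < 3 → Moves (σ : Perm (Fin N)) k (l + k)) ∧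
      Ψ (embSU l h U P3) = cj β σ (β W.c)) :
    Ψ.comp W.p = β := by
  have h : (Ψ.comp W.p).eqLocus β = ⊤ := by
    refine hG _ fun σ l hl hσ => ?_
    obtain ⟨σ', hσ', e⟩ := hψ l hl
    have hc : σ * W.c * σ⁻¹ = σ' * W.c * σ'⁻¹ := by
      refine Subtype.ext ?_
      simp only [Setup.c, Subgroup.coe_mul, Subgroup.coe_inv, cycN, conj_cyc]
      congr 1 <;> refine Fin.ext ?_
      · rw [(moves_iff _).1 (hσ 0 (by norm_num)), (moves_iff _).1 (hσ' 0 (by norm_num))]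
      · rw [(moves_iff _).1 (hσ 1 (by norm_num)), (moves_iff _).1 (hσ' 1 (by norm_num))]
      · rw [(moves_iff _).1 (hσ 2 (by norm_num)), (moves_iff _).1 (hσ' 2 (by norm_num))]
    show Ψ (W.p (σ * W.c * σ⁻¹)) = β (σ * W.c * σ⁻¹)
    rw [hc, map_mul W.p, map_mul W.p, map_inv W.p, ← W.emb_P3 U,
      pm_emb U (o := 0) (o' := l) _ hl W.S W.hS σ' (fun k hk => by simpa using hσ' k hk) P3, e,
      map_mul β, map_mul β, map_inv β]
    rfl
  exact MonoidHom.eq_of_eqOn_top fun x _ => (h ▸ Subgroup.mem_top x : x ∈ (Ψ.comp W.p).eqLocus β)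

/-- The amalgam determines a homomorphism. -/
theorem forced (h5 : 5 ≤ N) (hG : W.Gen) (hSt : (K.dat h5).St 0) : ∃ Ψ : SU N F q →* Γ,
    Ψ.comp (embSU 0 (le_trans (by norm_num) W.hN) U) = α ∧ Ψ.comp W.p = β := by
  obtain ⟨Ψ, -, hψ⟩ := (K.dat h5).exists_hom_of_St hSt
  refine ⟨Ψ, ?_, comp_p (U := U) hG Ψ fun l hl => ⟨W.σ l, W.σ_spec h5 hl, ?_⟩⟩
  · refine MonoidHom.ext fun X => ?_
    rw [MonoidHom.comp_apply, hψ 0 (le_trans (by norm_num) W.hN), dat_ψ, K.ψ_zero]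
  · rw [hψ l hl, dat_ψ, ← K.compat]
    rfl

end Amal

/-- The amalgam inside the group itself. -/
theorem Setup.self (W : Setup F N) :
    Amal U W (embSU 0 (le_trans (by norm_num) W.hN) U) (W.p (q := q)) := by
  have hN := W.hN
  have e : ∀ A : SU 2 F q, embSU 0 (le_trans (by norm_num) W.hN) U (e0 U A) = embSU 0 (by omega) U A :=
    fun A => embSU_embSU 0 _ 0 (by norm_num) (by omega) U A
  refine ⟨W.emb_P3 U, fun σ h0 h1 A => ?_, fun π h0 h1 A B => ?_⟩
  · rw [e]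
    refine mul_inv_eq_iff_eq_mul.1 (pm_emb U (o := 0) (o' := 0) _ _ W.S W.hS σ (fun k hk => ?_) A)
    obtain rfl | rfl : k = 0 ∨ k = 1 := by omega
    exacts [h0, h1]
  · rw [e, e, pm_emb U (o := 0) (o' := 2) _ (by omega) W.S W.hS π (fun k hk => by
      obtain rfl | rfl : k = 0 ∨ k = 1 := by omega
      exacts [h0, h1]) B]
    exact U.FB_comm le_rfl (embSU_mem _ _ _ _) (embSU_mem _ _ _ _)

/-- The two subgroups generate. -/
theorem Setup.gen_top (W : Setup F N) (h5 : 5 ≤ N) (hSt : ((W.self U).dat h5).St 0) :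
    (embSU 0 (le_trans (by norm_num) W.hN) U : SU 3 F q →* SU N F q).range ⊔ W.p.range = ⊤ := by
  set H := (embSU 0 (le_trans (by norm_num) W.hN) U : SU 3 F q →* SU N F q).range ⊔ W.p.range with hH
  have hp : ∀ σ, W.p σ ∈ H := fun σ => Subgroup.mem_sup_right ⟨σ, rfl⟩
  refine eq_top_iff.2 fun g _ => ?_
  obtain ⟨z, hz, rfl⟩ := hSt.onto g fun i _ h => absurd h (by have := i; omega)
  have hle : ((W.self U).dat h5).Gam 0 ≤ H.comap (MonoidHom.fst (SU N F q) (SU N F q)) := by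
    refine ((W.self U).dat h5).Gam_le_iff.2 fun l _ => ⟨fun z hz => ?_, fun z hz => ?_⟩
    · by_cases h : l + 2 ≤ N
      · obtain ⟨A, rfl⟩ := (((W.self U).dat h5).mem_LS h).1 hz
        obtain ⟨σ, h0, h1⟩ := W.pair l h
        show embSU l h U A ∈ H
        rw [← pm_emb U (o := 0) (o' := l) (by omega) h W.S W.hS σ (fun k hk => by
          obtain rfl | rfl : k = 0 ∨ k = 1 := by omega
          exacts [h0, h1]) A]
        refine mul_mem (mul_mem (hp σ) (Subgroup.mem_sup_left ⟨e0 U A, ?_⟩)) (inv_mem (hp σ))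
        exact embSU_embSU 0 _ 0 (by norm_num) _ U A
      · rw [((W.self U).dat h5).LS_eq_bot h, Subgroup.mem_bot] at hz
        subst hz
        exact one_mem _
    · by_cases h : l + 3 ≤ N
      · obtain ⟨A, rfl⟩ := (((W.self U).dat h5).mem_LV h).1 hz
        show embSU l h U A ∈ H
        rw [← pm_emb U (o := 0) (o' := l) (le_trans (by norm_num) W.hN) h W.S W.hS (W.σ l)
          (fun k hk => by simpa using W.σ_spec h5 h k hk) A]
        exact mul_mem (mul_mem (hp _) (Subgroup.mem_sup_left ⟨A, rfl⟩)) (inv_mem (hp _))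
      · rw [((W.self U).dat h5).LV_eq_bot h, Subgroup.mem_bot] at hz
        subst hz
        exact one_mem _
  exact hle hz

end CfsgLib.Presentations.SUPres
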