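/-
The alternating and symmetric groups as groups to glue along.
-/
import Cfsg.Agent.Lib.Presentations.SUPres.Core
import Cfsg.Agent.Lib.Presentations.SLModel

set_option autoImplicit false

namespace CfsgLib.Presentations.SUPres

open Matrix Cfsg CfsgLib.Chev.CT.Phan Equiv Equiv.Perm
open Carmichael

universe u

variable {F : Type u} [Field F] {N : ℕ}

theorem exists_alt_moves {k : ℕ} (a b : Fin k → ℕ) (ha : Function.Injective a) (hb : Function.Injective b)
    (haN : ∀ i, a i < N) (hbN : ∀ i, b i < N) (hk : k + 2 ≤ N) :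
    ∃ σ : alternatingGroup (Fin N), ∀ i, Moves (σ : Perm (Fin N)) (a i) (b i) := by
  obtain ⟨σ, hs, h⟩ := exists_moves a b ha hb haN hbN hk 1
  exact ⟨⟨σ, mem_alternatingGroup.2 hs⟩, h⟩

theorem exists_shift_perm (k d : ℕ) (hk : k + 2 ≤ N) (hd : d + k ≤ N) :
    ∃ σ : alternatingGroup (Fin N), ∀ i, i < k → Moves (σ : Perm (Fin N)) i (d + i) := by
  obtain ⟨σ, h⟩ := exists_alt_moves (fun i : Fin k => (i : ℕ)) (fun i => d + (i : ℕ)) Fin.val_injective
    (fun i j e => Fin.ext (by simpa using e)) (fun i => by omega) (fun i => by omega) hk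
  exact ⟨σ, fun i hi => h ⟨i, hi⟩⟩

theorem alt_pair (hN : 4 ≤ N) (l : ℕ) (hl : l + 2 ≤ N) :
    ∃ σ : alternatingGroup (Fin N), Moves (σ : Perm (Fin N)) 0 l ∧
      Moves (σ : Perm (Fin N)) 1 (l + 1) := by
  obtain ⟨σ, h⟩ := exists_shift_perm (N := N) 2 l (by omega) hl
  exact ⟨σ, by simpa using h 0 (by norm_num), h 1 (by norm_num)⟩

theorem alt_quad (hN : 4 ≤ N) (i j : ℕ) (hij : i + 2 ≤ j) (hj : j + 2 ≤ N) :
    ∃ σ : alternatingGroup (Fin N), Moves (σ : Perm (Fin N)) 0 i ∧ Moves (σ : Perm (Fin N)) 1 (i + 1) ∧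
      Moves (σ : Perm (Fin N)) 2 j ∧ Moves (σ : Perm (Fin N)) 3 (j + 1) := by
  rcases Nat.lt_or_ge N 6 with h6 | h6
  swap
  · obtain ⟨σ, h⟩ := exists_alt_moves (N := N) (fun x : Fin 4 => (x : ℕ)) ![i, i + 1, j, j + 1]
      Fin.val_injective (fun a b e => by fin_cases a <;> fin_cases b <;> simp_all <;> omega)
      (fun x => by omega) (fun x => by fin_cases x <;> simp <;> omega) (by omega)
    exact ⟨σ, h 0, h 1, h 2, h 3⟩
  by_cases h0 : i = 0 ∧ j = 2
  · obtain ⟨rfl, rfl⟩ := h0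
    exact ⟨1, Moves.one (by omega), Moves.one (by omega), Moves.one (by omega), Moves.one (by omega)⟩
  obtain rfl : N = 5 := by omega
  by_cases h1 : i = 1
  · subst h1
    obtain rfl : j = 3 := by omega
    exact ⟨⟨finRotate 5, mem_alternatingGroup.2 (by rw [sign_finRotate]; rfl)⟩,
      (moves_iff (by norm_num)).2 (by decide), (moves_iff (by norm_num)).2 (by decide), (moves_iff (by norm_num)).2 (by decide),
      (moves_iff (by norm_num)).2 (by decide)⟩
  obtain rfl : i = 0 := by omega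
  obtain rfl : j = 3 := by omega
  exact ⟨⟨cyc 2 3 4, mem_alternatingGroup.2 (by decide)⟩, (moves_iff (by norm_num)).2 (by decide),
    (moves_iff (by norm_num)).2 (by decide), (moves_iff (by norm_num)).2 (by decide),
    (moves_iff (by norm_num)).2 (by decide)⟩

theorem alt_gen (h5 : 5 ≤ N) (K : Subgroup (alternatingGroup (Fin N)))
    (hK : ∀ (σ : alternatingGroup (Fin N)) (l : ℕ), l + 3 ≤ N →
      (∀ k, k < 3 → Moves (σ : Perm (Fin N)) k (l + k)) →
        σ * ⟨cycN (by omega), mem_alternatingGroup.2 (cycN_sign _)⟩ * σ⁻¹ ∈ K) : K = ⊤ := by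
  have hw : ∀ l (hl : l + 3 ≤ N), ∃ x ∈ K, (x : Perm (Fin N)) =
      cyc ⟨l, by omega⟩ ⟨l + 1, by omega⟩ ⟨l + 2, by omega⟩ := by
    intro l hl
    obtain ⟨σ, hσ⟩ := exists_shift_perm (N := N) 3 l (by omega) hl
    refine ⟨_, hK σ l hl hσ, ?_⟩
    simp only [Subgroup.coe_mul, Subgroup.coe_inv, cycN, conj_cyc]
    congr 1 <;> refine Fin.ext ?_
    · simpa using (moves_iff _).1 (hσ 0 (by norm_num))
    · simpa using (moves_iff _).1 (hσ 1 (by norm_num))
    · simpa using (moves_iff _).1 (hσ 2 (by norm_num))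
  set p0 : Fin N := ⟨0, by omega⟩ with hp0
  set p1 : Fin N := ⟨1, by omega⟩ with hp1
  have key : ∀ i, 2 ≤ i → ∀ hi : i < N, ∃ x ∈ K, (x : Perm (Fin N)) = cyc p0 p1 ⟨i, hi⟩ := by
    intro i h2
    induction i, h2 using Nat.le_induction with
    | base => intro hi; exact hw 0 (by omega)
    | succ i h2 ih =>
      intro hi
      obtain ⟨x, hx, ex⟩ := ih (by omega)
      obtain ⟨y, hy, hy0, hy1, hyi⟩ : ∃ y ∈ K, (y : Perm (Fin N)) p0 = p0 ∧ (y : Perm (Fin N)) p1 = p1 ∧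
          (y : Perm (Fin N)) ⟨i, by omega⟩ = ⟨i + 1, hi⟩ := by
        by_cases h : i + 3 ≤ N
        · obtain ⟨y, hy, ey⟩ := hw i h
          obtain ⟨a, -, -, hfix⟩ := cyc_apply (c₁ := (⟨i, by omega⟩ : Fin N)) (c₂ := ⟨i + 1, hi⟩)
            (by simp) (i := ⟨i + 2, by omega⟩) ⟨by simp, by simp⟩
          refine ⟨y, hy, ?_, ?_, ?_⟩ <;> rw [ey]
          · exact hfix _ (by simp [hp0]; omega) (by simp [hp0]) (by simp [hp0])
          · exact hfix _ (by simp [hp1]; omega) (by simp [hp1]; omega) (by simp [hp1])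
          · exact a
        · obtain ⟨l, rfl⟩ : ∃ l, i = l + 1 := ⟨i - 1, by omega⟩
          obtain ⟨y, hy, ey⟩ := hw l (by omega)
          obtain ⟨-, b, -, hfix⟩ := cyc_apply (c₁ := (⟨l, by omega⟩ : Fin N)) (c₂ := ⟨l + 1, by omega⟩)
            (by simp) (i := ⟨l + 2, by omega⟩) ⟨by simp, by simp⟩
          refine ⟨y, hy, ?_, ?_, ?_⟩ <;> rw [ey]
          · exact hfix _ (by simp [hp0]; omega) (by simp [hp0]) (by simp [hp0])
          · exact hfix _ (by simp [hp1]; omega) (by simp [hp1]; omega) (by simp [hp1])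
          · exact b
      refine ⟨y * x * y⁻¹, mul_mem (mul_mem hy hx) (inv_mem hy), ?_⟩
      rw [Subgroup.coe_mul, Subgroup.coe_mul, Subgroup.coe_inv, ex, conj_cyc, hy0, hy1, hyi]
  rw [eq_top_iff, ← gen_closure (c₁ := p0) (c₂ := p1) (by simp [hp0, hp1]), Subgroup.closure_le]
  rintro _ ⟨⟨⟨i, hi⟩, h0, h1⟩, rfl⟩
  obtain ⟨x, hx, ex⟩ := key i (by simp [hp0, hp1] at h0 h1; omega) hi
  have e : gen (c₁ := p0) (c₂ := p1) (by simp [hp0, hp1]) ⟨⟨i, hi⟩, h0, h1⟩ = x := Subtype.ext ex.symm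
  exact e ▸ hx

/-- Gluing along the alternating group. -/
@[reducible] def altSetup (hN : 4 ≤ N) : Setup F N where
  S := alternatingGroup (Fin N)
  hS := alt_sign
  hN := hN
  hc := mem_alternatingGroup.2 (cycN_sign _)
  pair := alt_pair hN
  quad := alt_quad hN
  triple h5 l hl := exists_shift_perm 3 l (by omega) hl

theorem altSetup_gen (h5 : 5 ≤ N) : (altSetup (F := F) (N := N) (by omega)).Gen := fun K hK =>
  alt_gen h5 K hK

/-- A three-cycle, in the form used by the setup. -/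
theorem exists_alt_far (hN : 4 ≤ N) : ∃ π : alternatingGroup (Fin N), Moves (π : Perm (Fin N)) 0 2 ∧
    Moves (π : Perm (Fin N)) 1 3 ∧ Moves (π : Perm (Fin N)) 2 0 ∧ Moves (π : Perm (Fin N)) 3 1 := by
  have e02 : (⟨0, by omega⟩ : Fin N) ≠ ⟨2, by omega⟩ := by simp
  have e13 : (⟨1, by omega⟩ : Fin N) ≠ ⟨3, by omega⟩ := by simp
  refine ⟨⟨swap ⟨0, by omega⟩ ⟨2, by omega⟩ * swap ⟨1, by omega⟩ ⟨3, by omega⟩, ?_⟩, ?_, ?_, ?_, ?_⟩
  · rw [mem_alternatingGroup, map_mul, sign_swap e02, sign_swap e13]; rfl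
  all_goals refine (moves_iff (by omega)).2 ?_
  all_goals simp [Perm.mul_apply, swap_apply_def]

/-- Two elements generate the stabiliser of the first two points. -/
theorem exists_alt_fix (hN : 4 ≤ N) : ∃ sa sb : alternatingGroup (Fin N),
    (Moves (sa : Perm (Fin N)) 0 0 ∧ Moves (sa : Perm (Fin N)) 1 1) ∧
    (Moves (sb : Perm (Fin N)) 0 0 ∧ Moves (sb : Perm (Fin N)) 1 1) ∧
    ∀ σ : alternatingGroup (Fin N), Moves (σ : Perm (Fin N)) 0 0 → Moves (σ : Perm (Fin N)) 1 1 →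
      σ ∈ Subgroup.closure ({sa, sb} : Set (alternatingGroup (Fin N))) := by
  classical
  let e0 : Fin N := ⟨0, by omega⟩
  let e1 : Fin N := ⟨1, by omega⟩
  let S : Finset (Fin N) := (Finset.univ.erase e0).erase e1
  obtain ⟨a, b, hab⟩ := alt_two_generated {x // x ∈ S}
  have hfix : ∀ s : alternatingGroup {x // x ∈ S},
      Moves ((altIncl S s : alternatingGroup (Fin N)) : Perm (Fin N)) 0 0 ∧
        Moves ((altIncl S s : alternatingGroup (Fin N)) : Perm (Fin N)) 1 1 := fun s =>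
    ⟨⟨by omega, by omega, Equiv.Perm.ofSubtype_apply_of_not_mem _ (by simp [S, e0])⟩,
      ⟨by omega, by omega, Equiv.Perm.ofSubtype_apply_of_not_mem _ (by simp [S, e1])⟩⟩
  refine ⟨altIncl S a, altIncl S b, hfix a, hfix b, fun σ h0 h1 => ?_⟩
  obtain ⟨_, _, h0⟩ := h0
  obtain ⟨_, _, h1⟩ := h1
  obtain ⟨s, hs⟩ := exists_pre S σ fun x hx => by
    simp only [S, Finset.mem_erase, Finset.mem_univ, and_true]
    exact ⟨fun e => hx (e ▸ h1), fun e => hx (e ▸ h0)⟩
  rw [← hs, show ({altIncl S a, altIncl S b} : Set (alternatingGroup (Fin N)))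
    = altIncl S '' {a, b} by rw [Set.image_pair], ← MonoidHom.map_closure, hab]
  exact ⟨s, trivial, rfl⟩

end CfsgLib.Presentations.SUPres
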