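/-
The centre of `SU n` is cyclic, so the projective group costs one more relation.
-/
import Cfsg.Agent.Lib.Presentations.PresOn
import Cfsg.Agent.Lib.Classical.HermOrder

set_option autoImplicit false

namespace CfsgLib.Presentations.SUPres

open Matrix Cfsg CfsgLib.Classical

universe u

variable {F : Type u} [Field F] {n q : ℕ}

theorem isCyclic_center_SU [Fintype F] (hF : Fintype.card F = q ^ 2) (hn : 2 ≤ n) :
    IsCyclic (Subgroup.center (SU n F q)) := by
  classical
  have hs : ∀ z : Subgroup.center (SU n F q),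
      z.1.1.1 = scalar (Fin n) (z.1.1.1 ⟨0, by omega⟩ ⟨0, by omega⟩) := fun z =>
    eq_scalar_of_commute hF hn _ fun s => by
      simpa using congrArg (fun x : SU n F q => (x.1 : Matrix (Fin n) (Fin n) F))
        (Subgroup.mem_center_iff.1 z.2 s)
  let f : Subgroup.center (SU n F q) →* F :=
    { toFun := fun z => z.1.1.1 ⟨0, by omega⟩ ⟨0, by omega⟩
      map_one' := by simp
      map_mul' := fun a b => by
        show (a.1.1.1 * b.1.1.1) _ _ = _
        rw [hs a, hs b]
        simp [scalar_apply] }
  refine isCyclic_of_subgroup_isDomain f fun a b h => Subtype.ext (Subtype.ext (Subtype.ext ?_))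
  rw [hs a, hs b]
  exact congrArg _ h

theorem boundedOn_centerQuot {T : Type u} [Group T] [hc : IsCyclic (Subgroup.center T)] {κ : Type}
    {m : ℕ} (h : BoundedOn T κ m) : BoundedOn (T ⧸ Subgroup.center T) κ (m + 1) := by
  obtain ⟨z, hz⟩ := hc.exists_generator
  have hker : (QuotientGroup.mk' (Subgroup.center T)).ker = Subgroup.normalClosure {(z : T)} := by
    rw [QuotientGroup.ker_mk']
    refine le_antisymm (fun x hx => ?_) ?_
    · obtain ⟨k, hk⟩ := Subgroup.mem_zpowers_iff.1 (hz ⟨x, hx⟩)
      rw [show x = (z : T) ^ k from (congrArg Subtype.val hk).symm.trans (SubgroupClass.coe_zpow z k)]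
      exact zpow_mem (Subgroup.subset_normalClosure (Set.mem_singleton (z : T))) k
    · exact Subgroup.normalClosure_le_normal (N := Subgroup.center T) (Set.singleton_subset_iff.2 z.2)
  exact BoundedOn.quotient (QuotientGroup.mk' (Subgroup.center T))
    (QuotientGroup.mk'_surjective (Subgroup.center T)) (z : T) hker h

theorem boundedOn_psu [Fintype F] (hF : Fintype.card F = q ^ 2) (hn : 2 ≤ n) {κ : Type} {m : ℕ}
    (h : BoundedOn (SU n F q) κ m) : BoundedOn (PSU n F q) κ (m + 1) :=
  @boundedOn_centerQuot (SU n F q) _ (isCyclic_center_SU hF hn) κ m h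

end CfsgLib.Presentations.SUPres
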