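/-
A coset table shows that the graph of a pair of homomorphisms is the graph of one homomorphism.
-/
import Mathlib
import Cfsg.Agent.Lib.CosetCert.Basic

set_option autoImplicit false

namespace CfsgLib.Presentations.SUPres

open CfsgLib.CosetCert

universe u v w

variable {T : Type u} [Group T] {Γ : Type v} [Group Γ]

/-- A subgroup of a product with trivial kernel and full image is a graph. -/
theorem hom_of_graph (K : Subgroup (T × Γ)) (hinj : ∀ z ∈ K, z.1 = 1 → z = 1)
    (hsurj : ∀ t : T, ∃ z ∈ K, z.1 = t) : ∃ Ψ : T →* Γ, ∀ z ∈ K, Ψ z.1 = z.2 := by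
  choose s hs he using hsurj
  have key : ∀ z ∈ K, s z.1 = z := fun z hz => by
    have := hinj ((s z.1)⁻¹ * z) (mul_mem (inv_mem (hs _)) hz)
      (by rw [Prod.fst_mul, Prod.fst_inv, he, inv_mul_cancel])
    exact inv_mul_eq_one.1 this
  refine ⟨MonoidHom.mk' (fun t => (s t).2) fun t t' => ?_, fun z hz => congrArg Prod.snd (key z hz)⟩
  have := key _ (mul_mem (hs t) (hs t'))
  rw [Prod.fst_mul, he, he] at this
  rw [this]
  rfl

theorem act_mem {M : Type*} [Group M] (gen : ℕ → M) (H : Subgroup M) :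
    ∀ w : List ℕ, (∀ g ∈ w, gen g ∈ H) → act gen w ∈ H
  | [], _ => by simp
  | g :: w, h => by
    rw [act_cons]
    exact mul_mem (act_mem gen H w fun a ha => h a (List.mem_cons_of_mem _ ha)) (h g (List.mem_cons_self ..))

theorem map_act {M M' : Type*} [Group M] [Group M'] (f : M →* M') (gen : ℕ → M) :
    ∀ w : List ℕ, f (act gen w) = act (f ∘ gen) w
  | [] => by simp
  | g :: w => by rw [act_cons, act_cons, map_mul, map_act f gen w]; rfl

theorem act_congr {M : Type*} [Group M] (gen gen' : ℕ → M) :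
    ∀ w : List ℕ, (∀ g ∈ w, gen g = gen' g) → act gen w = act gen' w
  | [], _ => rfl
  | g :: w, h => by
    rw [act_cons, act_cons, act_congr gen gen' w fun a ha => h a (List.mem_cons_of_mem _ ha),
      h g (List.mem_cons_self ..)]

/-- A verified table whose points are told apart in the first factor: the kernel is trivial. -/
theorem graph_trivial {C : Data} {tree : List (ℕ × ℕ)} {steps : List (ℕ × ℕ × ℕ)}
    (hc : check C tree steps = true) (hn : 0 < C.n) (gen : ℕ → T × Γ) (H : Subgroup (T × Γ))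
    (hivlt : ∀ g, g < C.ng → C.iv g < C.ng)
    (hiv : ∀ g, g < C.ng → gen (C.iv g) = (gen g)⁻¹) (hrel : ∀ w ∈ C.rels, act gen w = 1)
    (hsub : ∀ w ∈ C.subs, act gen w ∈ H) {V : Type w} (ac : T →* Equiv.Perm V) (col : ℕ → V)
    (hstep : ∀ i g, i < C.n → g < C.ng → ac (gen g).1 (col i) = col (C.tbl i g))
    (hcol : ∀ i, i < C.n → col i = col 0 → i = 0)
    (hH : ∀ h ∈ H, h.1 = 1 → h = 1) :
    ∀ z ∈ Subgroup.closure (gen '' {g | g < C.ng}), z.1 = 1 → z = 1 := by
  obtain ⟨h0, hT⟩ := check_sound (gen := gen) (x₀ := ((1 : T × Γ) : (T × Γ) ⧸ H)) hc hiv hrel fun w hw => by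
    show ((act gen w * 1 : T × Γ) : (T × Γ) ⧸ H) = ((1 : T × Γ) : (T × Γ) ⧸ H)
    rw [mul_one, QuotientGroup.eq, mul_one]
    exact inv_mem (hsub w hw)
  set x₀ : (T × Γ) ⧸ H := ((1 : T × Γ) : (T × Γ) ⧸ H) with hx
  have step : ∀ (g : ℕ), g < C.ng → ∀ y : T × Γ,
      (∃ i, i < C.n ∧ y • x₀ = pt C gen x₀ i ∧ ac y.1 (col 0) = col i) →
      ∃ i, i < C.n ∧ (gen g * y) • x₀ = pt C gen x₀ i ∧ ac (gen g * y).1 (col 0) = col i := by
    rintro g hg y ⟨i, hi, e1, e2⟩
    refine ⟨C.tbl i g, (hT i g hi hg).1, by rw [mul_smul, e1, (hT i g hi hg).2], ?_⟩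
    rw [Prod.fst_mul, map_mul, Equiv.Perm.mul_apply, e2, hstep i g hi hg]
  intro z hz
  have hP : ∃ i, i < C.n ∧ z • x₀ = pt C gen x₀ i ∧ ac z.1 (col 0) = col i := by
    induction hz using Subgroup.closure_induction_left with
    | one => exact ⟨0, hn, by rw [one_smul, h0], by simp⟩
    | mul_left a ha b _ ih =>
      obtain ⟨g, hg, rfl⟩ := ha
      exact step g hg b ih
    | inv_mul_cancel a ha b _ ih =>
      obtain ⟨g, hg, rfl⟩ := ha
      rw [← hiv g hg]
      exact step _ (hivlt g hg) b ih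
  intro h1
  obtain ⟨i, hi, e1, e2⟩ := hP
  rw [h1, map_one, Equiv.Perm.one_apply] at e2
  obtain rfl := hcol i hi e2.symm
  rw [h0] at e1
  refine hH z ?_ h1
  have : (z * 1)⁻¹ * 1 ∈ H := QuotientGroup.eq.1 (show ((z * 1 : T × Γ) : (T × Γ) ⧸ H) = _ from e1)
  simpa using this

end CfsgLib.Presentations.SUPres
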