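/-
Vectors over a small field as numbers.
-/
import Cfsg.Agent.Lib.Chev.CT.Phan.Basic

set_option autoImplicit false

namespace CfsgLib.Presentations.SUPres

open Matrix Cfsg CfsgLib.Chev.CT.Phan

universe u

/-- Number tables for a field with `Q` elements. -/
structure Code where
  Q : ℕ
  one : ℕ
  add : ℕ → ℕ → ℕ
  mul : ℕ → ℕ → ℕ

namespace Code

variable (K : Code)

/-- A number from its digits. -/
def enc : List ℕ → ℕ
  | [] => 0
  | d :: l => d + K.Q * enc l

/-- A digit. -/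
def dig (v i : ℕ) : ℕ := v / K.Q ^ i % K.Q

/-- One coordinate of a matrix applied to a vector. -/
def row (N : ℕ) (r : List ℕ) (v : ℕ) : ℕ :=
  (List.ofFn fun j : Fin N => K.mul (r.getD (j : ℕ) 0) (K.dig v (j : ℕ))).foldr K.add 0

/-- A matrix applied to a vector. -/
def op (N : ℕ) (M : List (List ℕ)) (v : ℕ) : ℕ :=
  K.enc (List.ofFn fun i : Fin N => K.row N (M.getD (i : ℕ) []) v)

/-- A basis vector. -/
def bas (N j : ℕ) : ℕ := K.enc (List.ofFn fun i : Fin N => if (i : ℕ) = j then K.one else 0)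

variable {F : Type u} [Field F]

/-- The tables are those of the field. -/
structure Ok (φ : ℕ → F) : Prop where
  pos : 1 < K.Q
  zero : φ 0 = 0
  one_lt : K.one < K.Q
  one : φ K.one = 1
  addlt : ∀ a b, K.add a b < K.Q
  mullt : ∀ a b, K.mul a b < K.Q
  hadd : ∀ a b, a < K.Q → b < K.Q → φ (K.add a b) = φ a + φ b
  hmul : ∀ a b, a < K.Q → b < K.Q → φ (K.mul a b) = φ a * φ b
  inj : ∀ a b, a < K.Q → b < K.Q → φ a = φ b → a = b

/-- The vector of a number. -/
def dec (φ : ℕ → F) (N v : ℕ) : Fin N → F := fun i => φ (K.dig v (i : ℕ))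

variable {K}

theorem enc_lt (hpos : 1 < K.Q) : ∀ l : List ℕ, (∀ d ∈ l, d < K.Q) → K.enc l < K.Q ^ l.length
  | [], _ => by simp [enc]
  | d :: l, h => by
    have h1 := enc_lt hpos l fun x hx => h x (List.mem_cons_of_mem _ hx)
    have h2 := h d (List.mem_cons_self ..)
    rw [enc, List.length_cons, pow_succ']
    calc d + K.Q * K.enc l < K.Q + K.Q * K.enc l := by omega
      _ = K.Q * (K.enc l + 1) := by ring
      _ ≤ K.Q * K.Q ^ l.length := Nat.mul_le_mul_left _ h1

theorem dig_enc (hpos : 1 < K.Q) : ∀ (l : List ℕ) (i : ℕ), (∀ d ∈ l, d < K.Q) →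
    K.dig (K.enc l) i = l.getD i 0
  | [], i, _ => by simp [enc, dig]
  | d :: l, i, h => by
    have h2 := h d (List.mem_cons_self ..)
    cases i with
    | zero => simp [dig, enc, Nat.add_mul_mod_self_left, Nat.mod_eq_of_lt h2]
    | succ i =>
      rw [List.getD_cons_succ, ← dig_enc hpos l i fun x hx => h x (List.mem_cons_of_mem _ hx), dig, dig,
        enc, pow_succ', ← Nat.div_div_eq_div_mul, Nat.add_mul_div_left _ _ (by omega),
        Nat.div_eq_of_lt h2, Nat.zero_add]

variable {φ : ℕ → F} (hK : K.Ok φ)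
include hK

theorem dig_lt (v i : ℕ) : K.dig v i < K.Q := Nat.mod_lt _ (by have := hK.pos; omega)

theorem foldr_add : ∀ l : List ℕ, (∀ d ∈ l, d < K.Q) →
    l.foldr K.add 0 < K.Q ∧ φ (l.foldr K.add 0) = (l.map φ).sum
  | [], _ => by simpa using ⟨by have := hK.pos; omega, hK.zero⟩
  | d :: l, h => by
    obtain ⟨h1, h2⟩ := foldr_add l fun x hx => h x (List.mem_cons_of_mem _ hx)
    exact ⟨hK.addlt _ _, by
      rw [List.foldr_cons, hK.hadd _ _ (h d (List.mem_cons_self ..)) h1, h2, List.map_cons, List.sum_cons]⟩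

theorem row_lt (N : ℕ) (r : List ℕ) (v : ℕ) : K.row N r v < K.Q :=
  (foldr_add hK _ fun d hd => by
    obtain ⟨j, rfl⟩ := List.mem_ofFn.1 hd
    exact hK.mullt _ _).1

theorem row_spec (N : ℕ) (r : List ℕ) (v : ℕ) (hr : ∀ j : Fin N, r.getD (j : ℕ) 0 < K.Q) :
    φ (K.row N r v) = ∑ j : Fin N, φ (r.getD (j : ℕ) 0) * φ (K.dig v (j : ℕ)) := by
  rw [row, (foldr_add hK _ fun d hd => by
    obtain ⟨j, rfl⟩ := List.mem_ofFn.1 hd
    exact hK.mullt _ _).2, List.map_ofFn, List.sum_ofFn]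
  exact Finset.sum_congr rfl fun j _ => hK.hmul _ _ (hr j) (dig_lt hK _ _)

theorem act_op {N q : ℕ} (g : SU N F q) (M : List (List ℕ))
    (hM : ∀ i j : Fin N, (M.getD (i : ℕ) []).getD (j : ℕ) 0 < K.Q ∧
      g.1.1 i j = φ ((M.getD (i : ℕ) []).getD (j : ℕ) 0)) (v : ℕ) :
    act g (K.dec φ N v) = K.dec φ N (K.op N M v) := by
  funext i
  show (g.1.1 *ᵥ K.dec φ N v) i = φ (K.dig (K.op N M v) i)
  rw [op, dig_enc hK.pos _ _ (fun d hd => by
    obtain ⟨j, rfl⟩ := List.mem_ofFn.1 hd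
    exact row_lt hK _ _ _), List.getD_eq_getElem _ _ (by simp), List.getElem_ofFn,
    row_spec hK _ _ _ fun j => (hM i j).1]
  simp only [mulVec, dotProduct, dec]
  exact Finset.sum_congr rfl fun j _ => by rw [(hM i j).2]

theorem dec_bas (N j : ℕ) : K.dec φ N (K.bas N j) = ev F N j := by
  funext i
  show φ (K.dig (K.bas N j) i) = _
  rw [bas, dig_enc hK.pos _ _ (fun d hd => by
    obtain ⟨k, rfl⟩ := List.mem_ofFn.1 hd
    have := hK.pos
    have := hK.one_lt
    split_ifs <;> omega), List.getD_eq_getElem _ _ (by simp), List.getElem_ofFn]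
  simp only [ev]
  split_ifs
  exacts [hK.one, hK.zero]

theorem dec_inj {N v w : ℕ} (hv : v < K.Q ^ N) (hw : w < K.Q ^ N) (h : K.dec φ N v = K.dec φ N w) :
    v = w := by
  have hd : ∀ i, i < N → K.dig v i = K.dig w i := fun i hi =>
    hK.inj _ _ (dig_lt hK _ _) (dig_lt hK _ _) (congrFun h ⟨i, hi⟩)
  clear h
  induction N generalizing v w with
  | zero => simp at hv hw; omega
  | succ N ih =>
    have hQ := hK.pos
    rw [pow_succ'] at hv hw
    have h0 := hd 0 (by omega)
    simp only [dig, pow_zero, Nat.div_one] at h0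
    have h1 : v / K.Q = w / K.Q := ih ((Nat.div_lt_iff_lt_mul (by omega)).2 (by rw [mul_comm]; exact hv))
      ((Nat.div_lt_iff_lt_mul (by omega)).2 (by rw [mul_comm]; exact hw)) fun i hi => by
        have := hd (i + 1) (by omega)
        simp only [dig, pow_succ', ← Nat.div_div_eq_div_mul] at this ⊢
        exact this
    rw [← Nat.div_add_mod v K.Q, ← Nat.div_add_mod w K.Q, h0, h1]

end Code

end CfsgLib.Presentations.SUPres
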