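/-
Relations gluing `SU 3` to a group of permutation matrices.
-/
import Cfsg.Agent.Lib.Presentations.SUPres.AltSetup
import Cfsg.Agent.Lib.Presentations.PresOn
import Cfsg.Agent.Lib.Presentations.SpFour
import Cfsg.Agent.Lib.Classical.SU2

set_option autoImplicit false

namespace CfsgLib.Presentations.SUPres

open Matrix Cfsg CfsgLib.Chev.CT.Phan Equiv Equiv.Perm

universe u v

variable {F : Type u} [Field F] {q N : ℕ}

/-- `SU 2` is generated by two elements, for at least three field values. -/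
theorem su2_two_gen [Fintype F] (hF : Fintype.card F = q ^ 2) (hq : 3 ≤ q) :
    ∃ a b : SU 2 F q, Subgroup.closure ({a, b} : Set (SU 2 F q)) = ⊤ := by
  classical
  obtain ⟨p, hp⟩ := CharP.exists F
  have hp' : p.Prime := CharP.char_is_prime F p
  haveI : Fact p.Prime := ⟨hp'⟩
  obtain ⟨n, -, hn⟩ := FiniteField.card F p
  obtain ⟨k, -, hk⟩ := (Nat.dvd_prime_pow hp').1 (show q ∣ p ^ (n : ℕ) from hn ▸ hF ▸ dvd_pow_self q two_ne_zero)
  have hk0 : k ≠ 0 := fun e => by subst e; simp at hk; omega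
  letI : Fintype (GaloisField p k) := Fintype.ofFinite _
  have hK : Fintype.card (GaloisField p k) = q := by
    rw [← Nat.card_eq_fintype_card, GaloisField.card p k hk0, hk]
  obtain ⟨e⟩ := Classical.su_two_equiv_sl_two hF hK
  obtain ⟨a, b, hab⟩ := SpPres.sl2_pair (F := GaloisField p k) (by omega)
  refine ⟨e.symm a, e.symm b, ?_⟩
  have := congrArg (Subgroup.map e.symm.toMonoidHom) hab
  rwa [MonoidHom.map_closure, Set.image_pair, Subgroup.map_top_of_surjective _ e.symm.surjective] at this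

variable (U : UF F q) {Γ : Type v} [Group Γ]

/-- Commutation with the generators of a stabiliser gives commutation with all of it. -/
theorem fix_of_gens (W : Setup F N) {α : SU 3 F q →* Γ} {β : W.S →* Γ} {a b : SU 2 F q}
    (hab : Subgroup.closure ({a, b} : Set (SU 2 F q)) = ⊤) {sa sb : W.S}
    (hst : ∀ σ : W.S, Moves (σ : Perm (Fin N)) 0 0 → Moves (σ : Perm (Fin N)) 1 1 →
      σ ∈ Subgroup.closure ({sa, sb} : Set W.S))
    (haa : Commute (β sa) (α (e0 U a))) (hba : Commute (β sb) (α (e0 U a)))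
    (hab' : Commute (β sa) (α (e0 U b))) (hbb : Commute (β sb) (α (e0 U b))) :
    ∀ σ : W.S, Moves (σ : Perm (Fin N)) 0 0 → Moves (σ : Perm (Fin N)) 1 1 →
      ∀ A, Commute (β σ) (α (e0 U A)) := by
  have key : ∀ x : Γ, Commute x (α (e0 U a)) → Commute x (α (e0 U b)) → ∀ A, Commute x (α (e0 U A)) := by
    intro x ha hb A
    have hle : Subgroup.closure ({a, b} : Set (SU 2 F q)) ≤
        (Subgroup.centralizer {x}).comap (α.comp (e0 U)) := by
      rw [Subgroup.closure_le]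
      rintro y (rfl | rfl)
      · exact Subgroup.mem_centralizer_singleton_iff.2 ha.symm.eq
      · exact Subgroup.mem_centralizer_singleton_iff.2 hb.symm.eq
    exact (Commute.symm (Subgroup.mem_centralizer_singleton_iff.1 (hle (hab ▸ Subgroup.mem_top A))))
  intro σ h0 h1 A
  have hle : Subgroup.closure ({sa, sb} : Set W.S) ≤ (Subgroup.centralizer {α (e0 U A)}).comap β := by
    rw [Subgroup.closure_le]
    rintro y (rfl | rfl)
    · exact Subgroup.mem_centralizer_singleton_iff.2 (key _ haa hab' A).eq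
    · exact Subgroup.mem_centralizer_singleton_iff.2 (key _ hba hbb A).eq
  exact Subgroup.mem_centralizer_singleton_iff.1 (hle (hst σ h0 h1))

/-- The finitely many conditions imply the rest. -/
theorem Amal.of_gens (W : Setup F N) {α : SU 3 F q →* Γ} {β : W.S →* Γ} {a b : SU 2 F q}
    (hab : Subgroup.closure ({a, b} : Set (SU 2 F q)) = ⊤) {sa sb π₀ : W.S}
    (hst : ∀ σ : W.S, Moves (σ : Perm (Fin N)) 0 0 → Moves (σ : Perm (Fin N)) 1 1 →
      σ ∈ Subgroup.closure ({sa, sb} : Set W.S))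
    (p0 : Moves (π₀ : Perm (Fin N)) 0 2) (p1 : Moves (π₀ : Perm (Fin N)) 1 3)
    (p2 : Moves (π₀ : Perm (Fin N)) 2 0) (p3 : Moves (π₀ : Perm (Fin N)) 3 1)
    (hc : α P3 = β W.c)
    (haa : Commute (β sa) (α (e0 U a))) (hba : Commute (β sb) (α (e0 U a)))
    (hab' : Commute (β sa) (α (e0 U b))) (hbb : Commute (β sb) (α (e0 U b)))
    (f1 : Commute (α (e0 U a)) (β π₀ * α (e0 U a) * (β π₀)⁻¹))
    (f2 : Commute (α (e0 U a)) (β π₀ * α (e0 U b) * (β π₀)⁻¹))
    (f3 : Commute (α (e0 U b)) (β π₀ * α (e0 U b) * (β π₀)⁻¹)) : Amal U W α β := by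
  have key : ∀ (x : Γ) (g : SU 2 F q →* Γ), Commute x (g a) → Commute x (g b) → ∀ A, Commute x (g A) := by
    intro x g ha hb A
    have hle : Subgroup.closure ({a, b} : Set (SU 2 F q)) ≤ (Subgroup.centralizer {x}).comap g := by
      rw [Subgroup.closure_le]
      rintro y (rfl | rfl)
      · exact Subgroup.mem_centralizer_singleton_iff.2 ha.symm.eq
      · exact Subgroup.mem_centralizer_singleton_iff.2 hb.symm.eq
    exact (Commute.symm (Subgroup.mem_centralizer_singleton_iff.1 (hle (hab ▸ Subgroup.mem_top A))))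
  set g0 : SU 2 F q →* Γ := α.comp (e0 U) with hg0
  have hfix := fix_of_gens U W hab hst haa hba hab' hbb
  set g2 : SU 2 F q →* Γ := (MulAut.conj (β π₀)).toMonoidHom.comp g0 with hg2
  have f2' : Commute (g0 b) (g2 a) := by
    have h := Commute.map f2 (MulAut.conj (β π₀)).toMonoidHom
    have hsq := hfix (π₀ * π₀) (p2.mul p0) (p3.mul p1) b
    have e : (MulAut.conj (β π₀)).toMonoidHom (β π₀ * α (e0 U b) * (β π₀)⁻¹) = g0 b := by
      show β π₀ * (β π₀ * α (e0 U b) * (β π₀)⁻¹) * (β π₀)⁻¹ = α (e0 U b)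
      rw [show β π₀ * (β π₀ * α (e0 U b) * (β π₀)⁻¹) * (β π₀)⁻¹ =
        β (π₀ * π₀) * α (e0 U b) * (β (π₀ * π₀))⁻¹ by rw [map_mul]; group, hsq.eq, mul_inv_cancel_right]
    rw [e] at h
    exact h.symm
  have hfar0 : ∀ A B, Commute (g0 A) (g2 B) := by
    intro A B
    refine (key (g2 B) g0 ?_ ?_ A).symm
    · exact (key (g0 a) g2 f1 f2 B).symm
    · exact (key (g0 b) g2 f2' f3 B).symm
  refine ⟨hc, hfix, fun π h0 h1 A B => ?_⟩
  have e : β π * α (e0 U B) * (β π)⁻¹ = g2 B := by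
    have := hfix (π₀⁻¹ * π) (p0.inv.mul h0) (p1.inv.mul h1) B
    show _ = β π₀ * α (e0 U B) * (β π₀)⁻¹
    conv_lhs => rw [← mul_inv_cancel_left π₀ π]
    rw [map_mul, show β π₀ * β (π₀⁻¹ * π) * α (e0 U B) * (β π₀ * β (π₀⁻¹ * π))⁻¹ =
      β π₀ * (β (π₀⁻¹ * π) * α (e0 U B) * (β (π₀⁻¹ * π))⁻¹) * (β π₀)⁻¹ by group, this.eq,
      mul_inv_cancel_right]
  rw [e]
  exact hfar0 A B

/-- The gluing: eight relations, and any extra ones needed for the completion. -/
theorem Setup.boundedOn (W : Setup F N) {κA κB : Type} {a b : ℕ} (hA : BoundedOn (SU 3 F q) κA a)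
    (hB : BoundedOn W.S κB b) {x y : SU 2 F q} (hxy : Subgroup.closure ({x, y} : Set (SU 2 F q)) = ⊤)
    {sa sb π₀ : W.S} (ha : Moves (sa : Perm (Fin N)) 0 0 ∧ Moves (sa : Perm (Fin N)) 1 1)
    (hb : Moves (sb : Perm (Fin N)) 0 0 ∧ Moves (sb : Perm (Fin N)) 1 1)
    (hst : ∀ σ : W.S, Moves (σ : Perm (Fin N)) 0 0 → Moves (σ : Perm (Fin N)) 1 1 →
      σ ∈ Subgroup.closure ({sa, sb} : Set W.S))
    (p0 : Moves (π₀ : Perm (Fin N)) 0 2) (p1 : Moves (π₀ : Perm (Fin N)) 1 3)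
    (p2 : Moves (π₀ : Perm (Fin N)) 2 0) (p3 : Moves (π₀ : Perm (Fin N)) 3 1)
    (E' : List (FreeGroup (SU 3 F q ⊕ W.S)))
    (hE' : ∀ e ∈ E', FreeGroup.lift
      (Sum.elim (embSU 0 (le_trans (by norm_num) W.hN) U) (W.p (q := q))) e = 1)
    (hgen : (embSU 0 (le_trans (by norm_num) W.hN) U : SU 3 F q →* SU N F q).range ⊔ W.p.range = ⊤)
    (hforce : ∀ (Γ : Type) [Group Γ] (α : SU 3 F q →* Γ) (β : W.S →* Γ), Amal U W α β →
      (∀ e ∈ E', FreeGroup.lift (Sum.elim α β) e = 1) → ∃ Ψ : SU N F q →* Γ,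
        Ψ.comp (embSU 0 (le_trans (by norm_num) W.hN) U) = α ∧ Ψ.comp W.p = β) :
    BoundedOn (SU N F q) (κA ⊕ κB) (a + b + (8 + E'.length)) := by
  let La : SU 3 F q → FreeGroup (SU 3 F q ⊕ W.S) := fun g => FreeGroup.of (Sum.inl g)
  let Lb : W.S → FreeGroup (SU 3 F q ⊕ W.S) := fun g => FreeGroup.of (Sum.inr g)
  let cw : FreeGroup (SU 3 F q ⊕ W.S) → FreeGroup (SU 3 F q ⊕ W.S) → FreeGroup (SU 3 F q ⊕ W.S) :=
    fun g h => g * h * (h * g)⁻¹
  let far : SU 2 F q → FreeGroup (SU 3 F q ⊕ W.S) := fun g => Lb π₀ * La (e0 U g) * (Lb π₀)⁻¹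
  let E : List (FreeGroup (SU 3 F q ⊕ W.S)) :=
    [La P3 * (Lb W.c)⁻¹, cw (Lb sa) (La (e0 U x)), cw (Lb sa) (La (e0 U y)), cw (Lb sb) (La (e0 U x)),
      cw (Lb sb) (La (e0 U y)), cw (La (e0 U x)) (far x), cw (La (e0 U x)) (far y),
      cw (La (e0 U y)) (far y)] ++ E'
  refine (BoundedOn.glue (embSU 0 (le_trans (by norm_num) W.hN) U) W.p hA hB hgen E ?_ ?_).mono
    (le_of_eq (by simp [E]; omega))
  · have hself := W.self (q := q) U
    intro e he
    rcases List.mem_append.1 he with he | he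
    swap
    · exact hE' e he
    simp only [List.mem_cons, List.not_mem_nil, or_false] at he
    rcases he with rfl | rfl | rfl | rfl | rfl | rfl | rfl | rfl <;>
      simp only [cw, far, La, Lb, map_mul, map_inv, FreeGroup.lift_apply_of, Sum.elim_inl, Sum.elim_inr,
        mul_inv_eq_one]
    · exact hself.compat
    · exact (hself.fix sa ha.1 ha.2 x).eq
    · exact (hself.fix sa ha.1 ha.2 y).eq
    · exact (hself.fix sb hb.1 hb.2 x).eq
    · exact (hself.fix sb hb.1 hb.2 y).eq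
    · exact (hself.far π₀ p0 p1 x x).eq
    · exact (hself.far π₀ p0 p1 x y).eq
    · exact (hself.far π₀ p0 p1 y y).eq
  · intro Γ _ α β hh
    simp only [E, List.forall_mem_append, List.forall_mem_cons] at hh
    obtain ⟨⟨r0, r1, r2, r3, r4, r5, r6, r7, -⟩, hx⟩ := hh
    simp only [cw, far, La, Lb, map_mul, map_inv, FreeGroup.lift_apply_of, Sum.elim_inl, Sum.elim_inr,
      mul_inv_eq_one] at r0 r1 r2 r3 r4 r5 r6 r7
    exact hforce Γ α β (Amal.of_gens U W hxy hst p0 p1 p2 p3 r0 r1 r3 r2 r4 r5 r6 r7) hx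

/-- Gluing along the alternating group, for large fields and degree at least five. -/
theorem su_big [Fintype F] (hF : Fintype.card F = q ^ 2) (hq : 3 < q) (h5 : 5 ≤ N) {κA κB : Type}
    {a b : ℕ} (hA : BoundedOn (SU 3 F q) κA a) (hB : BoundedOn (alternatingGroup (Fin N)) κB b) :
    BoundedOn (SU N F q) (κA ⊕ κB) (a + b + 8) := by
  let W : Setup F N := altSetup (by omega)
  obtain ⟨U⟩ := UF.of_card (F := F) hF
  have hpar := U.params hF hq
  have hSt : ∀ {G : Type u} [Group G] (D : Dat U N G), D.St 0 := fun D => D.state_all hpar (N - 2) 0 (by omega)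
  obtain ⟨x, y, hxy⟩ := su2_two_gen hF hq.le
  obtain ⟨sa, sb, ha, hb, hst⟩ := exists_alt_fix (N := N) (by omega)
  obtain ⟨π₀, p0, p1, p2, p3⟩ := exists_alt_far (N := N) (by omega)
  refine W.boundedOn U hA hB hxy ha hb hst p0 p1 p2 p3 [] (by simp) (W.gen_top U h5 (hSt _))
    fun Γ _ α β K _ => K.forced h5 (altSetup_gen h5) ((K.dat h5).state_all hpar (N - 2) 0 (by omega))

end CfsgLib.Presentations.SUPres
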