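/-
`SU 4` over fields with more than three norm values.
-/
import Cfsg.Agent.Lib.Presentations.SUPres.Glue

set_option autoImplicit false

namespace CfsgLib.Presentations.SUPres

open Matrix Cfsg CfsgLib.Chev.CT.Phan Equiv Equiv.Perm
open Carmichael

universe u v

variable {F : Type u} [Field F] {q : ℕ} (U : UF F q)

/-- The two double transpositions used in degree four. -/
def rho4 : alternatingGroup (Fin 4) :=
  ⟨swap 0 3 * swap 1 2, mem_alternatingGroup.2 (by decide)⟩

/-- The double transposition swapping the first pair. -/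
def tau4 : alternatingGroup (Fin 4) :=
  ⟨swap 0 1 * swap 2 3, mem_alternatingGroup.2 (by decide)⟩

/-- The setup in degree four. -/
abbrev W4 : Setup F 4 := altSetup le_rfl

/-- The swap of the coordinates in `SU 2`. -/
abbrev sw2 : SU 2 F q →* SU 2 F q := pconj (swap 0 1)

/-- The reversal of the coordinates in `SU 3`. -/
abbrev sw3 : SU 3 F q →* SU 3 F q := pconj (swap 0 2)

theorem sw3_e0 (A : SU 2 F q) :
    sw3 (e0 U A) = embSU 1 (by norm_num) U (sw2 A) := by
  refine pconj_emb U (o := 0) (o' := 1) _ _ (swap 0 2) (swap 0 1) (fun k => ?_) A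
  fin_cases k <;> refine (moves_iff (by norm_num)).2 ?_ <;> rfl

theorem sw3_e1 (A : SU 2 F q) :
    sw3 (embSU 1 (by norm_num) U A) = e0 U (sw2 A) := by
  refine pconj_emb U (o := 1) (o' := 0) _ _ (swap 0 2) (swap 0 1) (fun k => ?_) A
  fin_cases k <;> refine (moves_iff (by norm_num)).2 ?_ <;> rfl

theorem emb_one_rho (X : SU 3 F q) :
    (W4 (F := F)).p rho4 * embSU 0 (by norm_num : 0 + 3 ≤ 4) U X * ((W4 (F := F)).p rho4)⁻¹ =
      embSU 1 (by norm_num : 1 + 3 ≤ 4) U (sw3 X) := by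
  refine pm_emb_twist U (o := 0) (o' := 1) _ _ _ _ rho4 (swap 0 2) (fun k => ?_) X
  fin_cases k <;> refine (moves_iff (by norm_num)).2 ?_ <;> rfl

section Amalgam

variable {U} {Γ : Type v} [Group Γ] {α : SU 3 F q →* Γ} {β : (W4 (F := F)).S →* Γ}

/-- The window beyond the first. -/
def psiFour (α : SU 3 F q →* Γ) (β : (W4 (F := F)).S →* Γ) : SU 3 F q →* Γ :=
  (Amal.cj β rho4).comp (α.comp sw3)

/-- The amalgam in degree four. -/
noncomputable def Amal.datFour (K : Amal U (W4 (F := F)) α β)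
    (hsw : ∀ A, β tau4 * α (e0 U A) * (β tau4)⁻¹ = α (e0 U (sw2 A))) : Dat U 4 Γ where
  φ := K.φ
  ψ l := if l = 0 then α else psiFour α β
  h0 l hl A := by
    have : l = 0 ∨ l = 1 := by omega
    rcases this with rfl | rfl
    · exact (K.φ_zero A).symm
    · obtain ⟨c0, c1, -, -⟩ := cycN_moves (N := 4) (by norm_num)
      rw [K.φ_eq (l := 1) (σ := rho4 * (W4 (F := F)).c * tau4)
        ((Moves.mul (show Moves (rho4 : Perm (Fin 4)) 2 1 from (moves_iff (by norm_num)).2 rfl) c1).mul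
          ((moves_iff (by norm_num)).2 rfl))
        ((Moves.mul (show Moves (rho4 : Perm (Fin 4)) 1 2 from (moves_iff (by norm_num)).2 rfl) c0).mul
          ((moves_iff (by norm_num)).2 rfl)),
        Amal.cj_mul, Amal.cj_mul]
      show Amal.cj β rho4 (α (sw3 (e0 U A))) = _
      rw [sw3_e0, K.α_one, ← hsw]
      rfl
  h1 l hl A := by
    have : l = 0 ∨ l = 1 := by omega
    rcases this with rfl | rfl
    · obtain ⟨c0, c1, -, -⟩ := cycN_moves (N := 4) (by norm_num)
      rw [K.φ_eq (l := 0 + 1) (σ := (W4 (F := F)).c) c0 c1]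
      exact K.α_one A
    · rw [K.φ_eq (l := 1 + 1) (σ := rho4 * tau4)
        (Moves.mul (show Moves (rho4 : Perm (Fin 4)) 1 2 from (moves_iff (by norm_num)).2 rfl)
          ((moves_iff (by norm_num)).2 rfl))
        (Moves.mul (show Moves (rho4 : Perm (Fin 4)) 0 3 from (moves_iff (by norm_num)).2 rfl)
          ((moves_iff (by norm_num)).2 rfl)),
        Amal.cj_mul]
      show Amal.cj β rho4 (α (sw3 (embSU 1 _ U A))) = _
      rw [sw3_e1, ← hsw]
      rfl
  hcomm i j hij hj A B := (K.φ_comm i j hij hj A B).eq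

theorem Amal.datFour_zero (K : Amal U (W4 (F := F)) α β)
    (hsw : ∀ A, β tau4 * α (e0 U A) * (β tau4)⁻¹ = α (e0 U (sw2 A))) : (K.datFour hsw).ψ 0 = α := by simp [Amal.datFour]

theorem Amal.datFour_one (K : Amal U (W4 (F := F)) α β)
    (hsw : ∀ A, β tau4 * α (e0 U A) * (β tau4)⁻¹ = α (e0 U (sw2 A))) : (K.datFour hsw).ψ 1 = psiFour α β := by simp [Amal.datFour]

/-- The amalgam determines a homomorphism in degree four. -/
theorem Amal.forced_four (K : Amal U (W4 (F := F)) α β)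
    (hsw : ∀ A, β tau4 * α (e0 U A) * (β tau4)⁻¹ = α (e0 U (sw2 A))) (hSt : (K.datFour hsw).St 0) : ∃ Ψ : SU 4 F q →* Γ,
    Ψ.comp (embSU 0 (le_trans (by norm_num) (W4 (F := F)).hN) U) = α ∧ Ψ.comp (W4 (F := F)).p = β := by
  obtain ⟨Ψ, -, hψ⟩ := (K.datFour hsw).exists_hom_of_St hSt
  have e : Ψ.comp (embSU 0 (le_trans (by norm_num) (W4 (F := F)).hN) U) = α :=
    MonoidHom.ext fun X => (hψ 0 (by norm_num) X).trans (by rw [K.datFour_zero hsw])
  refine ⟨Ψ, e, ?_⟩
  set c : alternatingGroup (Fin 4) := (W4 (F := F)).c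
  have ec : Ψ ((W4 (F := F)).p c) = β c := by
    rw [← (W4 (F := F)).emb_P3 U, ← MonoidHom.comp_apply Ψ, e, K.compat]
  have ec' : Ψ ((W4 (F := F)).p (rho4 * c * rho4⁻¹)) = β (rho4 * c * rho4⁻¹) := by
    rw [map_mul (W4 (F := F)).p, map_mul (W4 (F := F)).p, map_inv (W4 (F := F)).p,
      ← (W4 (F := F)).emb_P3 U, emb_one_rho U, hψ 1 (by norm_num), K.datFour_one hsw]
    show Amal.cj β rho4 (α (sw3 (sw3 P3))) = _
    rw [pconj_pconj _ (swap_mul_self _ _), K.compat, map_mul β, map_mul β, map_inv β]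
    rfl
  have h : (Ψ.comp (W4 (F := F)).p).eqLocus β = ⊤ := by
    rw [eq_top_iff]
    refine le_of_eq_of_le (gen_closure (c₁ := (0 : Fin 4)) (c₂ := 1) (by decide)).symm ?_
    rw [Subgroup.closure_le]
    rintro _ ⟨⟨i, h0, h1⟩, rfl⟩
    obtain rfl | rfl : i = 2 ∨ i = 3 := by omega
    · exact ec
    · have e3 : (gen (by decide : (0 : Fin 4) ≠ 1) ⟨3, h0, h1⟩ : alternatingGroup (Fin 4)) =
          c * (rho4 * c * rho4⁻¹) := by
        refine Subtype.ext ?_
        show cyc (0 : Fin 4) 1 3 = cycN (by norm_num : 3 ≤ 4) *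
          (swap 0 3 * swap 1 2 * cycN (by norm_num : 3 ≤ 4) * (swap 0 3 * swap 1 2)⁻¹)
        decide
      rw [e3]
      exact mul_mem (s := MonoidHom.eqLocus _ _) ec ec'
  exact MonoidHom.eq_of_eqOn_top fun x _ => (h ▸ Subgroup.mem_top x : x ∈ (Ψ.comp _).eqLocus β)

end Amalgam

theorem tau4_emb (A : SU 2 F q) :
    (W4 (F := F)).p tau4 * embSU 0 (le_trans (by norm_num) (W4 (F := F)).hN) U (e0 U A) *
      ((W4 (F := F)).p tau4)⁻¹ =
      embSU 0 (le_trans (by norm_num) (W4 (F := F)).hN) U (e0 U (sw2 A)) := by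
  rw [embSU_embSU 0 _ 0 (by norm_num) (by norm_num) U A,
    embSU_embSU 0 _ 0 (by norm_num) (by norm_num) U (sw2 A)]
  refine pm_emb_twist U (o := 0) (o' := 0) _ _ _ _ tau4 (swap 0 1) (fun k => ?_) A
  fin_cases k <;> refine (moves_iff (by norm_num)).2 ?_ <;> rfl

/-- The two subgroups generate `SU 4`. -/
theorem gen_top_four (hSt : (((W4 (F := F)).self U).datFour fun A => tau4_emb U A).St 0) :
    (embSU 0 (le_trans (by norm_num) (W4 (F := F)).hN) U : SU 3 F q →* SU 4 F q).range ⊔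
      (W4 (F := F)).p.range = ⊤ := by
  let W : Setup F 4 := W4
  set H := (embSU 0 (le_trans (by norm_num) W.hN) U : SU 3 F q →* SU 4 F q).range ⊔ W.p.range with hH
  have K := W.self (q := q) U
  let D := K.datFour fun A => tau4_emb U A
  refine eq_top_iff.2 fun g _ => ?_
  obtain ⟨z, hz, rfl⟩ := hSt.onto g fun i _ h => absurd h (by have := i; omega)
  have hle : D.Gam 0 ≤ H.comap (MonoidHom.fst (SU 4 F q) (SU 4 F q)) := by
    have hV : ∀ l, D.LV l ≤ H.comap (MonoidHom.fst (SU 4 F q) (SU 4 F q)) := by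
      intro l z hz
      by_cases h : l + 3 ≤ 4
      · obtain ⟨A, rfl⟩ := (D.mem_LV h).1 hz
        show embSU l h U A ∈ H
        obtain rfl | rfl : l = 0 ∨ l = 1 := by omega
        · exact Subgroup.mem_sup_left ⟨A, rfl⟩
        · rw [show A = sw3 (sw3 A) from (pconj_pconj _ (swap_mul_self _ _) A).symm, ← emb_one_rho U]
          exact mul_mem (mul_mem (Subgroup.mem_sup_right ⟨_, rfl⟩) (Subgroup.mem_sup_left ⟨_, rfl⟩))
            (inv_mem (Subgroup.mem_sup_right ⟨_, rfl⟩))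
      · rw [D.LV_eq_bot h, Subgroup.mem_bot] at hz
        subst hz
        exact one_mem _
    refine D.Gam_le_iff.2 fun l _ => ⟨?_, hV l⟩
    by_cases h : l + 3 ≤ 4
    · exact (D.LS_le_LV h).trans (hV l)
    · by_cases h2 : l + 2 ≤ 4
      · obtain rfl : l = 1 + 1 := by omega
        exact (D.LS_succ_le_LV (by norm_num)).trans (hV 1)
      · rw [D.LS_eq_bot h2]; exact bot_le
  exact hle hz

/-- `SU 4` for large fields. -/
theorem su_four [Fintype F] (hF : Fintype.card F = q ^ 2) (hq : 3 < q) {κA κB : Type} {a b : ℕ}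
    (hA : BoundedOn (SU 3 F q) κA a) (hB : BoundedOn (alternatingGroup (Fin 4)) κB b) :
    BoundedOn (SU 4 F q) (κA ⊕ κB) (a + b + 10) := by
  let W : Setup F 4 := W4
  obtain ⟨U⟩ := UF.of_card (F := F) hF
  have hpar := U.params hF hq
  obtain ⟨x, y, hxy⟩ := su2_two_gen hF hq.le
  obtain ⟨sa, sb, ha, hb, hst⟩ := exists_alt_fix (N := 4) le_rfl
  obtain ⟨π₀, p0, p1, p2, p3⟩ := exists_alt_far (N := 4) le_rfl
  let sww : SU 2 F q → FreeGroup (SU 3 F q ⊕ W.S) := fun g =>
    FreeGroup.of (Sum.inr (tau4 : W.S)) * FreeGroup.of (Sum.inl (e0 U g)) *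
      (FreeGroup.of (Sum.inr (tau4 : W.S)))⁻¹ * (FreeGroup.of (Sum.inl (e0 U (sw2 g))))⁻¹
  have hgen := gen_top_four U ((((W4 (F := F)).self U).datFour fun A => tau4_emb U A).state_all hpar 2 0 rfl)
  refine (W.boundedOn U hA hB hxy ha hb hst p0 p1 p2 p3 [sww x, sww y] ?_ hgen ?_).mono
    (by simp)
  · intro e he
    simp only [List.mem_cons, List.not_mem_nil, or_false] at he
    rcases he with rfl | rfl <;>
      simp only [sww, map_mul, map_inv, FreeGroup.lift_apply_of, Sum.elim_inl, Sum.elim_inr,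
        mul_inv_eq_one] <;>
      exact tau4_emb U _
  · intro Γ _ α β K he
    simp only [List.forall_mem_cons] at he
    obtain ⟨ex, ey, -⟩ := he
    simp only [sww, map_mul, map_inv, FreeGroup.lift_apply_of, Sum.elim_inl, Sum.elim_inr,
      mul_inv_eq_one] at ex ey
    have hsw : ∀ A, β tau4 * α (e0 U A) * (β tau4)⁻¹ = α (e0 U (sw2 A)) := fun A =>
      DFunLike.congr_fun (MonoidHom.eq_of_eqOn_dense hxy
        (f := (Amal.cj β tau4).comp (α.comp (e0 U))) (g := α.comp ((e0 U).comp sw2)) (by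
          rintro _ (rfl | rfl)
          · exact ex
          · exact ey)) A
    exact K.forced_four hsw ((K.datFour hsw).state_all hpar 2 0 rfl)

end CfsgLib.Presentations.SUPres
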