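/-
Homomorphisms from a bound on the order of a graph, and a bound for metabelian-by-cyclic triples.
-/
import Cfsg.Agent.Lib.SL2Pres.Relations

set_option autoImplicit false

namespace CfsgLib.Presentations.SUPres

open CfsgLib.SL2Pres
open Multiplicative (ofAdd toAdd)

universe u v

/-- A graph no larger than its first projection is the graph of a homomorphism. -/
theorem exists_hom_of_card {T : Type u} {Γ : Type v} [Group T] [Finite T] [Group Γ] {κ : Type*}
    (g : κ → T) (f : κ → Γ) (hg : Subgroup.closure (Set.range g) = ⊤)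
    (hfin : Finite (Subgroup.closure (Set.range fun i => (g i, f i))))
    (hcard : Nat.card (Subgroup.closure (Set.range fun i => (g i, f i))) ≤ Nat.card T) :
    ∃ ψ : T →* Γ, ∀ i, ψ (g i) = f i := by
  set H := Subgroup.closure (Set.range fun i => (g i, f i)) with hH
  let π : H →* T := (MonoidHom.fst _ _).comp H.subtype
  have hs : Function.Surjective π := by
    rw [← MonoidHom.range_eq_top, eq_top_iff, ← hg, Subgroup.closure_le]
    rintro _ ⟨i, rfl⟩
    exact ⟨⟨(g i, f i), Subgroup.subset_closure ⟨i, rfl⟩⟩, rfl⟩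
  haveI := hfin
  have hb : Function.Bijective π := hs.bijective_of_nat_card_le hcard
  let e := MulEquiv.ofBijective π hb
  refine ⟨(MonoidHom.snd _ _).comp (H.subtype.comp e.symm.toMonoidHom), fun i => ?_⟩
  have : e.symm (g i) = ⟨(g i, f i), Subgroup.subset_closure ⟨i, rfl⟩⟩ :=
    e.symm_apply_apply ⟨(g i, f i), Subgroup.subset_closure ⟨i, rfl⟩⟩
  exact congrArg (fun p : H => p.1.2) this

variable {P : Type u} [Group P] {F K : Type v} [Field F] [Field K] [Finite F] [Finite K]

/-- A group generated by a cyclic module modulo a central cyclic module and a torus element is small. -/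
theorem card_triple_le {hh uu : P} {N : ℕ} (hN : 0 < N) (hhN : hh ^ N = 1) (μ : K) (s : F)
    (XZ : Multiplicative K →* P) (hZ : IsConjHom μ XZ hh) (hcen : ∀ c, Commute (XZ (ofAdd c)) uu)
    (hA : ∀ (Q : Type u) [Group Q] (φ : Subgroup.closure ({uu, hh} ∪ Set.range XZ) →* Q),
      (∀ x : Subgroup.closure ({uu, hh} ∪ Set.range XZ), (x : P) ∈ XZ.range → φ x = 1) → ∃ X : Multiplicative F →* Q,
        X (ofAdd 1) = φ ⟨uu, Subgroup.subset_closure (Or.inl (Or.inl rfl))⟩ ∧
        IsConjHom s X (φ ⟨hh, Subgroup.subset_closure (Or.inl (Or.inr rfl))⟩)) :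
    Finite (Subgroup.closure ({uu, hh} ∪ Set.range XZ)) ∧
      Nat.card (Subgroup.closure ({uu, hh} ∪ Set.range XZ)) ≤ Nat.card K * Nat.card F * N := by
  classical
  set H := Subgroup.closure ({uu, hh} ∪ Set.range XZ) with hH
  set Zi : Subgroup H := XZ.range.subgroupOf H with hZi
  have hnorm : Zi.Normal := by
    refine ⟨fun z hz g => ?_⟩
    obtain ⟨c, hc⟩ := (Subgroup.mem_subgroupOf.1 hz)
    suffices ∀ y ∈ H, ∀ c, y * XZ c * y⁻¹ ∈ XZ.range by
      rw [hZi, Subgroup.mem_subgroupOf]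
      simp only [Subgroup.coe_mul, Subgroup.coe_inv]
      rw [← hc]
      exact this g g.2 c
    intro y hy
    induction hy using Subgroup.closure_induction_left with
    | one => exact fun c => ⟨c, by group⟩
    | mul_left x hx y _ ih =>
      intro c
      obtain ⟨d, hd⟩ := ih c
      rw [show x * y * XZ c * (x * y)⁻¹ = x * (y * XZ c * y⁻¹) * x⁻¹ by group, ← hd]
      rcases hx with (hx | hx) | ⟨e, rfl⟩
      · replace hx : _ = x := Eq.symm hx
        subst hx
        exact ⟨d, by
          have hc' := (hcen (toAdd d)).eq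
          rw [ofAdd_toAdd] at hc'
          rw [← hc', mul_inv_cancel_right]⟩
      · replace hx : _ = x := Eq.symm hx
        subst hx
        exact ⟨ofAdd (μ * toAdd d), (hZ (toAdd d)).symm⟩
      · exact ⟨e * d * e⁻¹, by rw [map_mul, map_mul, map_inv]⟩
    | inv_mul_cancel x hx y _ ih =>
      intro c
      obtain ⟨d, hd⟩ := ih c
      rw [show x⁻¹ * y * XZ c * (x⁻¹ * y)⁻¹ = x⁻¹ * (y * XZ c * y⁻¹) * x by group, ← hd]
      rcases hx with (hx | hx) | ⟨e, rfl⟩
      · replace hx : _ = x := Eq.symm hx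
        subst hx
        exact ⟨d, by
          have hc' := (hcen (toAdd d)).eq
          rw [ofAdd_toAdd] at hc'
          rw [mul_assoc, hc', inv_mul_cancel_left]⟩
      · replace hx : _ = x := Eq.symm hx
        subst hx
        have hpow : ∀ (k : ℕ) (d : Multiplicative K), hh ^ k * XZ d * (hh ^ k)⁻¹ ∈ XZ.range := by
          intro k
          induction k with
          | zero => exact fun d => ⟨d, by simp⟩
          | succ k ihk =>
            intro d
            obtain ⟨d', hd'⟩ := ihk d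
            rw [pow_succ', show hh * hh ^ k * XZ d * (hh * hh ^ k)⁻¹ = hh * (hh ^ k * XZ d * (hh ^ k)⁻¹) * hh⁻¹
              by group, ← hd']
            exact ⟨ofAdd (μ * toAdd d'), (hZ (toAdd d')).symm⟩
        have hi : hh⁻¹ = hh ^ (N - 1) := inv_eq_of_mul_eq_one_right (by
          rw [← pow_succ', Nat.sub_add_cancel hN, hhN])
        have := hpow (N - 1) d
        rwa [← hi, inv_inv] at this
      · exact ⟨e⁻¹ * d * e, by rw [map_mul, map_mul, map_inv]⟩
  obtain ⟨X, hX1, hX⟩ := hA (H ⧸ Zi) (QuotientGroup.mk' Zi) fun x hx =>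
    (QuotientGroup.eq_one_iff x).2 (Subgroup.mem_subgroupOf.2 hx)
  set hb : H ⧸ Zi := QuotientGroup.mk' Zi ⟨hh, Subgroup.subset_closure (Or.inl (Or.inr rfl))⟩ with hbdef
  have hbN : hb ^ N = 1 := by
    rw [hbdef, ← map_pow, show (⟨hh, _⟩ : H) ^ N = 1 from Subtype.ext hhN, map_one]
  have hform : ∀ y : H, ∃ (c : F) (i : Fin N), QuotientGroup.mk' Zi y = X (ofAdd c) * hb ^ (i : ℕ) := by
    have hmod : ∀ k : ℕ, hb ^ (k % N) = hb ^ k := fun k => by
      conv_rhs => rw [← Nat.mod_add_div k N, pow_add, pow_mul, hbN, one_pow, mul_one]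
    have hk : ∀ d (h : XZ d ∈ H), QuotientGroup.mk' Zi ⟨XZ d, h⟩ = 1 := fun d h =>
      (QuotientGroup.eq_one_iff _).2 (show (⟨XZ d, h⟩ : H) ∈ XZ.range.subgroupOf H from
        Subgroup.mem_subgroupOf.2 ⟨d, rfl⟩)
    have hlh : ∀ c (k : ℕ), ∃ (c' : F) (i : Fin N), hb * (X (ofAdd c) * hb ^ k) = X (ofAdd c') * hb ^ (i : ℕ) := by
      intro c k
      refine ⟨s * c, ⟨(k + 1) % N, Nat.mod_lt _ hN⟩, ?_⟩
      rw [← hX c, hmod, pow_succ']
      simp [mul_assoc]
    rintro ⟨y, hy⟩
    induction hy using Subgroup.closure_induction_left with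
    | one => exact ⟨0, ⟨0, hN⟩, by rw [ofAdd_zero, map_one, pow_zero, mul_one]; exact map_one _⟩
    | mul_left x hx y hy ih =>
      obtain ⟨c, i, e⟩ := ih
      have hxH : x ∈ H := Subgroup.subset_closure hx
      rw [show (⟨x * y, _⟩ : H) = ⟨x, hxH⟩ * ⟨y, hy⟩ from rfl, map_mul, e]
      rcases hx with (hx | hx) | ⟨d, rfl⟩
      · replace hx : _ = x := Eq.symm hx
        subst hx
        exact ⟨1 + c, i, by rw [ofAdd_add, map_mul, hX1, mul_assoc]⟩
      · replace hx : _ = x := Eq.symm hx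
        subst hx
        exact hlh c i
      · refine ⟨c, i, ?_⟩
        rw [hk, one_mul]
    | inv_mul_cancel x hx y hy ih =>
      obtain ⟨c, i, e⟩ := ih
      have hxH : x ∈ H := Subgroup.subset_closure hx
      rw [show (⟨x⁻¹ * y, _⟩ : H) = ⟨x, hxH⟩⁻¹ * ⟨y, hy⟩ from rfl, map_mul, map_inv, e]
      rcases hx with (hx | hx) | ⟨d, rfl⟩
      · replace hx : _ = x := Eq.symm hx
        subst hx
        exact ⟨-1 + c, i, by rw [ofAdd_add, map_mul, ofAdd_neg, map_inv, hX1, mul_assoc]⟩
      · replace hx : _ = x := Eq.symm hx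
        subst hx
        have hpow : ∀ (k : ℕ), ∃ (c' : F) (j : Fin N), hb ^ k * (X (ofAdd c) * hb ^ (i : ℕ)) = X (ofAdd c') * hb ^ (j : ℕ) := by
          intro k
          induction k with
          | zero => exact ⟨c, i, by simp⟩
          | succ k ihk =>
            obtain ⟨c', j, e'⟩ := ihk
            rw [pow_succ', mul_assoc, e']
            exact hlh c' j
        have hi : hb⁻¹ = hb ^ (N - 1) := inv_eq_of_mul_eq_one_right (by
          rw [← pow_succ', Nat.sub_add_cancel hN, hbN])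
        show ∃ c' j, hb⁻¹ * _ = _
        rw [hi]
        exact hpow _
      · refine ⟨c, i, ?_⟩
        rw [hk, inv_one, one_mul]
  choose rep hrep using fun c : F => QuotientGroup.mk'_surjective Zi (X (ofAdd c))
  let Φ : K × F × Fin N → H := fun p =>
    ⟨XZ (ofAdd p.1), Subgroup.subset_closure (Or.inr ⟨_, rfl⟩)⟩ *
      (rep p.2.1 * ⟨hh, Subgroup.subset_closure (Or.inl (Or.inr rfl))⟩ ^ (p.2.2 : ℕ))
  have hsurj : Function.Surjective Φ := by
    intro y
    obtain ⟨c, i, e⟩ := hform y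
    set r : H := rep c * ⟨hh, Subgroup.subset_closure (Or.inl (Or.inr rfl))⟩ ^ (i : ℕ) with hr
    have hmem : y * r⁻¹ ∈ Zi := by
      refine (QuotientGroup.eq_one_iff _).1 ?_
      show QuotientGroup.mk' Zi (y * r⁻¹) = 1
      rw [map_mul, map_inv, e, hr, map_mul, map_pow, hrep, ← hbdef, mul_inv_cancel]
    obtain ⟨d, hd⟩ := Subgroup.mem_subgroupOf.1 hmem
    refine ⟨(toAdd d, c, i), ?_⟩
    have : (⟨XZ (ofAdd (toAdd d)), Subgroup.subset_closure (Or.inr ⟨_, rfl⟩)⟩ : H) = y * r⁻¹ := Subtype.ext hd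
    show _ * r = y
    rw [this, inv_mul_cancel_right]
  refine ⟨Finite.of_surjective Φ hsurj, (Nat.card_le_card_of_surjective Φ hsurj).trans ?_⟩
  simp [Nat.card_prod, mul_assoc]

end CfsgLib.Presentations.SUPres
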