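/-
The checks of the table of `SU 4` over nine elements.
-/
import Cfsg.Agent.Lib.Presentations.SUPres.ThreeData
import Cfsg.Agent.Lib.Presentations.SUPres.Code

set_option autoImplicit false
set_option maxRecDepth 100000

namespace CfsgLib.Presentations.SUPres.Three

/-- The field with nine elements by numbers. -/
abbrev K9 : Code where
  Q := 9
  one := 3
  add a b := 3 * ((a / 3 + b / 3) % 3) + (a % 3 + b % 3) % 3
  mul a b := 3 * ((a / 3 * (b / 3) + 2 * (a % 3 * (b % 3))) % 3) + (a / 3 * (b % 3) + a % 3 * (b / 3)) % 3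

/-- The matrices of the four letters. -/
def mats : List (List (List ℕ)) :=
  [[[0, 1, 0, 0], [1, 0, 0, 0], [0, 0, 3, 0], [0, 0, 0, 3]],
   [[4, 7, 0, 0], [4, 5, 0, 0], [0, 0, 3, 0], [0, 0, 0, 3]],
   [[0, 0, 3, 0], [3, 0, 0, 0], [0, 3, 0, 0], [0, 0, 0, 3]],
   [[0, 0, 0, 3], [0, 0, 3, 0], [0, 3, 0, 0], [3, 0, 0, 0]]]

/-- The exponent by which each letter is read. -/
def expo (g : ℕ) : ℕ := if g < 4 then 1 else [3, 2, 2, 1].getD (g - 4) 1

/-- A letter as an operation. -/
def opl (g v : ℕ) : ℕ := Nat.rec v (fun _ x => K9.op 4 (mats.getD (g % 4) []) x) (expo g)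

/-- The inverse letter. -/
def ivl (g : ℕ) : ℕ := (g + 4) % 8

/-- The relators. -/
def rels : List (List ℕ) := relB ++ relX ++ relH

/-- The code of a point. -/
def colc (i : ℕ) : ℕ := look colN 13 96 i

/-- The table. -/
abbrev data : CosetCert.Data where
  n := 2160
  ng := 8
  iv := ivl
  tbl i g := look tblN 12 96 (i * 8 + g)
  rep i := wordOf 9 (look repN 32 40 i)
  rels := rels
  subs := [[0], [1], [2]]

/-- The tree. -/
def tree : List (ℕ × ℕ) := unpack treeN 15 80 (fun x => (x / 8, x % 8)) 2159

/-- The deductions. -/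
def steps : List (ℕ × ℕ × ℕ) :=
  unpack stepsN 29 40 (fun x => (x / 65536, x / 64 % 1024, x % 64)) 6481

theorem check_ok : CosetCert.check data tree steps = true := by decide +kernel

theorem step_ok : (List.range 2160).all (fun i => (List.range 4).all fun g =>
    Nat.beq (K9.op 4 (mats.getD g []) (colc i)) (colc (data.tbl i g))) = true := by decide +kernel

theorem col_ok : (List.range 2160).all (fun i => Nat.ble i 0 || !Nat.beq (colc i) (colc 0)) = true := by
  decide +kernel

theorem col_lt : (List.range 2160).all (fun i => Nat.blt (colc i) 6561) = true := by decide +kernel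

theorem rels_ok : rels.all (fun w => w.all (fun g => Nat.blt g 8) &&
    (List.range 4).all fun j => Nat.beq (w.foldl (fun v g => opl g v) (K9.bas 4 j)) (K9.bas 4 j)) = true := by
  decide +kernel

theorem ord_ok : (List.range 4).all (fun g =>
    (List.range 4).all fun j => Nat.beq (opl (g + 4) (opl g (K9.bas 4 j))) (K9.bas 4 j)) = true := by
  decide +kernel

theorem col_zero : colc 0 = K9.bas 4 3 := by decide +kernel

end CfsgLib.Presentations.SUPres.Three
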