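/-
`SU 4` over nine elements from `SU 3`, the permutations and four more relations.
-/
import Cfsg.Agent.Lib.Presentations.SUPres.ThreeCheck
import Cfsg.Agent.Lib.Presentations.SUPres.Cert
import Cfsg.Agent.Lib.Presentations.SUPres.Four
import Cfsg.Agent.Lib.Chev.CT.Phan.Three.Induct

set_option autoImplicit false

namespace CfsgLib.Presentations.SUPres.Three

open Matrix Cfsg CfsgLib.Chev.CT.Phan Equiv Equiv.Perm CfsgLib.CosetCert
open Carmichael

/-- The action on vectors. -/
local notation "vAct" => CfsgLib.Chev.CT.Phan.act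

universe u v

variable {F : Type u} [Field F] [Fintype F]

/-- The value of a code. -/
def val (i : F) (x : ℕ) : F := ((x / 3 : ℕ) : F) + ((x % 3 : ℕ) : F) * i

theorem code_ok (U : UF F 3) (hF : Fintype.card F = 9) {i : F} (hi : i * i = -1) (hσ : U.σ i = -i) :
    K9.Ok (val i) := by
  have h3 : (3 : F) = 0 := UF.three_eq_zero hF
  have hm : ∀ n : ℕ, ((n % 3 : ℕ) : F) = n := fun n => by
    conv_rhs => rw [← Nat.div_add_mod n 3]
    push_cast
    linear_combination -((n / 3 : ℕ) : F) * h3
  have hadd : ∀ a b, a < 9 → b < 9 → val i (K9.add a b) = val i a + val i b := by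
    intro a b ha hb
    have e1 : K9.add a b / 3 = (a / 3 + b / 3) % 3 := by dsimp only [K9]; omega
    have e2 : K9.add a b % 3 = (a % 3 + b % 3) % 3 := by dsimp only [K9]; omega
    simp only [val, e1, e2, hm]
    push_cast [hm]
    ring
  have hmul : ∀ a b, a < 9 → b < 9 → val i (K9.mul a b) = val i a * val i b := by
    intro a b ha hb
    have e1 : K9.mul a b / 3 = (a / 3 * (b / 3) + 2 * (a % 3 * (b % 3))) % 3 := by dsimp only [K9]; omega
    have e2 : K9.mul a b % 3 = (a / 3 * (b % 3) + a % 3 * (b / 3)) % 3 := by dsimp only [K9]; omega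
    simp only [val, e1, e2, hm]
    push_cast [hm]
    linear_combination (-(a : F) * b) * hi + (a : F) * b * h3
  refine ⟨by norm_num, by simp [val], by norm_num, by simp [val], fun a b => by dsimp only [K9]; omega,
    fun a b => by dsimp only [K9]; omega, hadd, hmul, fun a b ha hb e => ?_⟩
  have hz : ∀ x, x < 9 → val i x = 0 → x = 0 := by
    intro x hx e
    have e' := congrArg U.σ e
    simp only [val, map_add, map_mul, map_natCast, hσ, map_zero] at e e'
    have h1 : (2 : F) * ((x % 3 : ℕ) : F) * i = 0 := by linear_combination e - e'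
    have hi0 : i ≠ 0 := fun h => by rw [h, mul_zero] at hi; exact one_ne_zero (α := F) (by linear_combination hi)
    have hb : ((x % 3 : ℕ) : F) = 0 :=
      (mul_eq_zero.1 ((mul_eq_zero.1 h1).resolve_right hi0)).resolve_left (UF.two_ne hF)
    rw [hb, zero_mul, add_zero] at e
    have small : ∀ k, k < 3 → ((k : ℕ) : F) = 0 → k = 0 := fun k hk h => by
      interval_cases k
      · rfl
      · simp at h
      · exact absurd (by exact_mod_cast h) (UF.two_ne hF)
    have := small _ (by omega) hb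
    have := small _ (by omega) e
    omega
  let ng : ℕ → ℕ := fun x => K9.mul 6 x
  have hng : ∀ x, x < 9 → val i (ng x) = -val i x := fun x hx => by
    rw [hmul 6 x (by norm_num) hx, show val i 6 = ((2 : ℕ) : F) by simp [val]]
    push_cast
    linear_combination val i x * h3
  have hd := hz (K9.add a (ng b)) (by dsimp only [K9]; omega)
    (by rw [hadd a (ng b) ha (by dsimp only [K9, ng]; omega), hng b hb, e, add_neg_cancel])
  have : ∀ a < 9, ∀ b < 9, K9.add a (ng b) = 0 → a = b := by decide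
  exact this a ha b hb hd

/-- The exponents make the four letters and their inverses. -/
def letter {M : Type*} [Monoid M] (b : ℕ → M) (g : ℕ) : M := b (g % 4) ^ expo g

theorem map_letter {M M' : Type*} [Monoid M] [Monoid M'] (f : M →* M') (b : ℕ → M) :
    f ∘ letter b = letter (f ∘ b) := funext fun g => map_pow f _ _

section Letters

variable (U : UF F 3) (a b : SU 2 F 3)

/-- The four letters in `SU 4`. -/
def baseT : ℕ → SU 4 F 3
  | 0 => embSU 0 (by norm_num) U (e0 U a)
  | 1 => embSU 0 (by norm_num) U (e0 U b)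
  | 2 => (W4 (F := F)).p (W4 (F := F)).c
  | _ => (W4 (F := F)).p rho4

/-- The four letters in a target. -/
def baseΓ {Γ : Type v} [Monoid Γ] (α : SU 3 F 3 → Γ) (β : (W4 (F := F)).S → Γ) : ℕ → Γ
  | 0 => α (e0 U a)
  | 1 => α (e0 U b)
  | 2 => β (W4 (F := F)).c
  | _ => β rho4

/-- The four extra relations. -/
def extra : List (FreeGroup (SU 3 F 3 ⊕ (W4 (F := F)).S)) :=
  relX.map (CosetCert.act (letter (baseΓ U a b (fun x => FreeGroup.of (Sum.inl x)) fun x => FreeGroup.of (Sum.inr x))))

theorem lift_extra {Γ : Type v} [Group Γ] (α : SU 3 F 3 → Γ) (β : (W4 (F := F)).S → Γ) :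
    (∀ e ∈ extra U a b, FreeGroup.lift (Sum.elim α β) e = 1) ↔
      ∀ w ∈ relX, CosetCert.act (letter (baseΓ U a b α β)) w = 1 := by
  have e : ∀ w, FreeGroup.lift (Sum.elim α β)
      (CosetCert.act (letter (baseΓ U a b (fun x => FreeGroup.of (Sum.inl x)) fun x => FreeGroup.of (Sum.inr x))) w) =
      CosetCert.act (letter (baseΓ U a b α β)) w := fun w => by
    rw [map_act, map_letter]
    congr 2
    funext g
    rcases g with _ | _ | _ | g <;> simp [baseΓ]
  simp only [extra, List.mem_map, forall_exists_index, and_imp, forall_apply_eq_imp_iff₂, e]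

end Letters

/-- The chosen generators of `SU 2`. -/
structure Pair (U : UF F 3) where
  i : F
  hi : i * i = -1
  hσ : U.σ i = -i
  ha : U.nm (val i 0) + U.nm (val i 1) = 1
  hb : U.nm (val i 4) + U.nm (val i 4) = 1

namespace Pair

variable {U : UF F 3} (P : Pair U)

/-- The first generator. -/
def a : SU 2 F 3 := U.su2 (val P.i 0) (val P.i 1) P.ha

/-- The second generator. -/
def b : SU 2 F 3 := U.su2 (val P.i 4) (val P.i 4) P.hb

end Pair

theorem exists_pair (U : UF F 3) (hF : Fintype.card F = 9) : Nonempty (Pair U) := by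
  obtain ⟨i, hi, hσ, hn⟩ := U.exists_sq_neg_one
  have h3 : (3 : F) = 0 := UF.three_eq_zero hF
  refine ⟨⟨i, hi, hσ, ?_, ?_⟩⟩
  · simp [val, UF.nm, hσ, hi]
  · simp only [val, UF.nm, Nat.cast_one, Nat.reduceDiv, Nat.reduceMod, map_add, map_mul, map_one, hσ]
    linear_combination -2 * hi + h3

/-- Short words in the two generators. -/
def words2 : List (List ℕ) :=
  [[], [0], [1], [0, 0], [0, 1], [1, 0], [1, 1], [0, 0, 0], [0, 0, 1], [0, 1, 0], [0, 1, 1], [1, 0, 1],
    [1, 1, 0], [0, 0, 0, 1], [0, 0, 1, 0], [0, 0, 1, 1], [0, 1, 1, 0], [1, 0, 1, 1], [1, 1, 0, 1],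
    [0, 0, 0, 1, 0], [0, 0, 0, 1, 1], [0, 0, 1, 1, 0], [0, 1, 1, 0, 1], [1, 0, 1, 1, 0]]

theorem words2_ok : (List.range 9).all (fun x => (List.range 9).all fun y =>
    (!Nat.beq (K9.add (K9.mul x (3 * (x / 3) + 2 * (x % 3) % 3))
        (K9.mul y (3 * (y / 3) + 2 * (y % 3) % 3))) 3) ||
      words2.any fun w => Nat.beq (w.foldl (fun v g => opl g v) (K9.bas 4 0)) (x + 9 * y)) = true := by
  decide +kernel

theorem words2_lt : words2.all (fun w => w.all fun g => Nat.blt g 2) = true := by decide +kernel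

section Main

variable {U : UF F 3} (hF : Fintype.card F = 9) (P : Pair U)
include hF

theorem base_act (g : ℕ) (hg : g < 4) (v : ℕ) :
    vAct (baseT U P.a P.b g) (K9.dec (val P.i) 4 v) = K9.dec (val P.i) 4 (K9.op 4 (mats.getD g []) v) := by
  have hK := code_ok U hF P.hi P.hσ
  have h3 : (3 : F) = 0 := UF.three_eq_zero hF
  refine Code.act_op hK _ _ (fun r s => ?_) v
  have e : ∀ X : SU 4 F 3, X.1.1 r s = vAct X (ev F 4 (s : ℕ)) r := fun X => by
    rw [ev_fin]; unfold CfsgLib.Chev.CT.Phan.act; simp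
  have hem : ∀ A : SU 2 F 3, embSU 0 (by norm_num : 0 + 3 ≤ 4) U (e0 U A) = embSU 0 (by norm_num) U A :=
    fun A => embSU_embSU 0 _ 0 (by norm_num) (by norm_num) U A
  refine ⟨?_, ?_⟩
  · interval_cases g <;> fin_cases r <;> fin_cases s <;> decide
  rw [e]
  interval_cases g
  · rw [baseT, hem]
    fin_cases s
    · show vAct _ (ev F 4 0) r = _
      rw [Pair.a, U.su2_act_ev0 (N := 4) (l := 0)]
      fin_cases r <;> simp [ev, mats, val]
    · show vAct _ (ev F 4 (0 + 1)) r = _
      rw [Pair.a, U.su2_act_ev1 (N := 4) (l := 0)]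
      fin_cases r <;> simp [ev, mats, val, P.hσ]
    · show vAct _ (ev F 4 2) r = _
      rw [FB_act_out (embSU_mem 0 _ U P.a) (by norm_num) (Or.inr (by norm_num))]
      fin_cases r <;> simp [ev, mats, val]
    · show vAct _ (ev F 4 3) r = _
      rw [FB_act_out (embSU_mem 0 _ U P.a) (by norm_num) (Or.inr (by norm_num))]
      fin_cases r <;> simp [ev, mats, val]
  · rw [baseT, hem]
    fin_cases s
    · show vAct _ (ev F 4 0) r = _
      rw [Pair.b, U.su2_act_ev0 (N := 4) (l := 0)]
      fin_cases r <;> simp [ev, mats, val]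
    · show vAct _ (ev F 4 (0 + 1)) r = _
      rw [Pair.b, U.su2_act_ev1 (N := 4) (l := 0)]
      fin_cases r <;> simp [ev, mats, val, P.hσ]
      · linear_combination (-1 : F) * h3
      · linear_combination (-P.i) * h3
    · show vAct _ (ev F 4 2) r = _
      rw [FB_act_out (embSU_mem 0 _ U P.b) (by norm_num) (Or.inr (by norm_num))]
      fin_cases r <;> simp [ev, mats, val]
    · show vAct _ (ev F 4 3) r = _
      rw [FB_act_out (embSU_mem 0 _ U P.b) (by norm_num) (Or.inr (by norm_num))]
      fin_cases r <;> simp [ev, mats, val]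
  · rw [baseT, act_pm]
    fin_cases r <;> fin_cases s <;> simp [ev, mats, val, Setup.c, cycN, cyc, swap_apply_def]
  · simp only [baseT]
    rw [act_pm]
    fin_cases r <;> fin_cases s <;> simp [ev, mats, val, rho4, swap_apply_def]

theorem letter_act (g v : ℕ) :
    vAct (letter (baseT U P.a P.b) g) (K9.dec (val P.i) 4 v) = K9.dec (val P.i) 4 (opl g v) := by
  have key : ∀ k, vAct (baseT U P.a P.b (g % 4) ^ k) (K9.dec (val P.i) 4 v) =
      K9.dec (val P.i) 4 (Nat.rec v (fun _ x => K9.op 4 (mats.getD (g % 4) []) x) k) := by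
    intro k
    induction k with
    | zero => rw [pow_zero, act_one]; rfl
    | succ k ih => rw [pow_succ', act_mul, ih, base_act hF P _ (Nat.mod_lt _ (by norm_num))]
  exact key (expo g)

theorem word_act : ∀ (w : List ℕ) (v : ℕ),
    vAct (CosetCert.act (letter (baseT U P.a P.b)) w) (K9.dec (val P.i) 4 v) =
      K9.dec (val P.i) 4 (w.foldl (fun x g => opl g x) v)
  | [], v => by simp
  | g :: w, v => by
    rw [act_cons, act_mul, letter_act hF P, word_act w, List.foldl_cons]

theorem eq_one_of_bas (X : SU 4 F 3)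
    (h : ∀ j, j < 4 → vAct X (K9.dec (val P.i) 4 (K9.bas 4 j)) = K9.dec (val P.i) 4 (K9.bas 4 j)) :
    X = 1 := by
  refine su_ext fun j hj => ?_
  rw [act_one, ← Code.dec_bas (code_ok U hF P.hi P.hσ) 4 j]
  exact h j hj

theorem word_one {w : List ℕ} (hw : w ∈ rels) : CosetCert.act (letter (baseT U P.a P.b)) w = 1 := by
  refine eq_one_of_bas hF P _ fun j hj => ?_
  have := List.all_eq_true.1 rels_ok w hw
  simp only [Bool.and_eq_true, List.all_eq_true, List.mem_range, Nat.beq_eq] at this
  rw [word_act hF P, this.2 j hj]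

/-- The two generators generate `SU 2`. -/
theorem su2_top : Subgroup.closure ({P.a, P.b} : Set (SU 2 F 3)) = ⊤ := by
  classical
  have hK := code_ok U hF P.hi P.hσ
  have hsurj : ∀ x : F, ∃ k, k < 9 ∧ val P.i k = x := by
    have h : Function.Bijective fun k : Fin 9 => val P.i k :=
      (Fintype.bijective_iff_injective_and_card _).2
        ⟨fun k l e => Fin.ext (hK.inj _ _ k.isLt l.isLt e), by simp [hF]⟩
    exact fun x => ⟨_, (h.2 x).choose.isLt, (h.2 x).choose_spec⟩
  have h3 : (3 : F) = 0 := UF.three_eq_zero hF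
  have hc : ∀ k, k < 9 → val P.i (K9.mul k (3 * (k / 3) + 2 * (k % 3) % 3)) = U.nm (val P.i k) := by
    intro k hk
    rw [hK.hmul _ _ hk (by show _ < 9; omega), UF.nm]
    congr 1
    interval_cases k <;>
      simp [val, P.hσ, map_ofNat] <;>
      first
      | linear_combination (P.i) * h3
  refine eq_top_iff.2 fun A _ => ?_
  obtain ⟨x, y, hxy, rfl⟩ := U.su2_surj A
  obtain ⟨kx, hkx, rfl⟩ := hsurj x
  obtain ⟨ky, hky, rfl⟩ := hsurj y
  have hone : K9.add (K9.mul kx (3 * (kx / 3) + 2 * (kx % 3) % 3))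
      (K9.mul ky (3 * (ky / 3) + 2 * (ky % 3) % 3)) = 3 := by
    refine hK.inj _ _ (hK.addlt _ _) (by norm_num) ?_
    rw [hK.hadd _ _ (hK.mullt _ _) (hK.mullt _ _), hc kx hkx, hc ky hky, hxy]
    exact hK.one.symm
  have h := words2_ok
  simp only [List.all_eq_true, List.mem_range, List.any_eq_true, Bool.or_eq_true, Bool.not_eq_true',
    Nat.beq_eq] at h
  obtain ⟨w, hw, e⟩ := (h kx hkx ky hky).resolve_left fun hh => by
    change Nat.beq (K9.add (K9.mul kx (3 * (kx / 3) + 2 * (kx % 3) % 3))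
      (K9.mul ky (3 * (ky / 3) + 2 * (ky % 3) % 3))) 3 = false at hh
    rw [hone] at hh
    exact absurd hh (by decide)
  let g2 : ℕ → SU 2 F 3 := fun g => if g = 0 then P.a else P.b
  have hwlt : ∀ g ∈ w, g < 2 := fun g hg => by
    simpa using List.all_eq_true.1 (List.all_eq_true.1 words2_lt w hw) g hg
  have hmem : CosetCert.act g2 w ∈ Subgroup.closure ({P.a, P.b} : Set (SU 2 F 3)) :=
    act_mem g2 _ w fun g _ => by
      simp only [g2]
      split_ifs
      exacts [Subgroup.subset_closure (Or.inl rfl), Subgroup.subset_closure (Or.inr rfl)]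
  obtain ⟨x', y', hxy', eA⟩ := U.su2_surj (CosetCert.act g2 w)
  have hmap : embSU 0 (by norm_num : 0 + 2 ≤ 4) U (CosetCert.act g2 w) =
      CosetCert.act (letter (baseT U P.a P.b)) w := by
    rw [map_act]
    refine act_congr _ _ w fun g hg => ?_
    have hem : ∀ A : SU 2 F 3, embSU 0 (by norm_num : 0 + 3 ≤ 4) U (e0 U A) = embSU 0 (by norm_num) U A :=
      fun A => embSU_embSU 0 _ 0 (by norm_num) (by norm_num) U A
    have := hwlt g hg
    interval_cases g <;> simp [g2, letter, expo, baseT, hem]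
  have hv := word_act hF P w (K9.bas 4 0)
  rw [← hmap, e, Code.dec_bas hK, eA, U.su2_act_ev0 (N := 4) (l := 0)] at hv
  have hx' : x' = val P.i kx := by
    have := congrFun hv ⟨0, by norm_num⟩
    simp [ev, Code.dec, Code.dig] at this
    rw [this, Nat.mod_eq_of_lt hkx]
  have hy' : y' = val P.i ky := by
    have := congrFun hv ⟨1, by norm_num⟩
    simp [ev, Code.dec, Code.dig] at this
    rw [this, show (kx + 9 * ky) / 9 % 9 = ky by omega]
  subst hx' hy'
  rw [eA] at hmem
  exact hmem

/-- The four extra relations hold in `SU 4`. -/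
theorem extra_self : ∀ e ∈ extra U P.a P.b,
    FreeGroup.lift (Sum.elim (embSU 0 (by norm_num : 0 + 3 ≤ 4) U) (W4 (F := F)).p) e = 1 := by
  rw [lift_extra]
  intro w hw
  rw [← word_one hF P (w := w) (by simp [rels, hw])]
  congr 2

theorem gen_top : (embSU 0 (by norm_num : 0 + 3 ≤ 4) U : SU 3 F 3 →* SU 4 F 3).range ⊔
    (W4 (F := F)).p.range = ⊤ := by
  refine gen_top_four U ((Dat.state_three_field _ hF fun l hl => ?_) 2 0 rfl)
  obtain rfl : l = 0 := by omega
  refine ⟨MonoidHom.id _, fun A => ?_, fun A => ?_⟩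
  · rw [MonoidHom.id_apply, Amal.datFour_zero]
  · rw [MonoidHom.id_apply, Amal.datFour_one]
    show _ = (W4 (F := F)).p rho4 * embSU 0 (by norm_num : 0 + 3 ≤ 4) U (sw3 A) * ((W4 (F := F)).p rho4)⁻¹
    rw [emb_one_rho U, pconj_pconj _ (swap_mul_self _ _) A]

omit hF in
theorem alt4_top : Subgroup.closure ({(W4 (F := F)).c, rho4} : Set (W4 (F := F)).S) = ⊤ := by
  rw [eq_top_iff]
  refine le_of_eq_of_le (gen_closure (c₁ := (0 : Fin 4)) (c₂ := 1) (by decide)).symm ?_
  rw [Subgroup.closure_le]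
  rintro _ ⟨⟨i, h0, h1⟩, rfl⟩
  obtain rfl | rfl : i = 2 ∨ i = 3 := by omega
  · exact Subgroup.subset_closure (Or.inl rfl)
  · have e : (gen (by decide : (0 : Fin 4) ≠ 1) ⟨3, h0, h1⟩ : alternatingGroup (Fin 4)) =
        (W4 (F := F)).c * (rho4 * (W4 (F := F)).c * rho4⁻¹) := by
      refine Subtype.ext ?_
      show cyc (0 : Fin 4) 1 3 = cycN (by norm_num : 3 ≤ 4) *
        (swap 0 3 * swap 1 2 * cycN (by norm_num : 3 ≤ 4) * (swap 0 3 * swap 1 2)⁻¹)
      decide
    rw [e]
    exact mul_mem (Subgroup.subset_closure (Or.inl rfl)) (mul_mem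
      (mul_mem (Subgroup.subset_closure (Or.inr rfl)) (Subgroup.subset_closure (Or.inl rfl)))
      (inv_mem (Subgroup.subset_closure (Or.inr rfl))))

omit hF in
theorem p_injective : Function.Injective ((W4 (F := F)).p : (W4 (F := F)).S →* SU 4 F 3) := by
  intro σ τ h
  refine Subtype.ext (Equiv.ext fun x => ?_)
  have := congrFun (congrArg (fun X => vAct X (ev F 4 (x : ℕ))) h) ((σ : Perm (Fin 4)) x)
  simp only [act_pm] at this
  by_contra hne
  simp [ev, Fin.val_inj] at this
  exact hne ((Equiv.symm_apply_eq _).1 this)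

/-- The extra relations make a homomorphism of `SU 4`. -/
theorem forced {Γ : Type v} [Group Γ] {α : SU 3 F 3 →* Γ} {β : (W4 (F := F)).S →* Γ}
    (hc : α P3 = β (W4 (F := F)).c)
    (hX : ∀ e ∈ extra U P.a P.b, FreeGroup.lift (Sum.elim α β) e = 1) :
    ∃ Ψ : SU 4 F 3 →* Γ, Ψ.comp (embSU 0 (by norm_num) U) = α ∧ Ψ.comp (W4 (F := F)).p = β := by
  classical
  have hK := code_ok U hF P.hi P.hσ
  rw [lift_extra] at hX
  let bb : ℕ → SU 4 F 3 × Γ := fun g => (baseT U P.a P.b g, baseΓ U P.a P.b α β g)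
  let gn : ℕ → SU 4 F 3 × Γ := letter bb
  let fA : SU 3 F 3 →* SU 4 F 3 × Γ := (embSU 0 (by norm_num) U).prod α
  let fB : (W4 (F := F)).S →* SU 4 F 3 × Γ := (W4 (F := F)).p.prod β
  have hfst : ∀ w, (CosetCert.act gn w).1 = CosetCert.act (letter (baseT U P.a P.b)) w := fun w =>
    (map_act (MonoidHom.fst _ _) gn w).trans (by rw [map_letter]; rfl)
  have hsnd : ∀ w, (CosetCert.act gn w).2 = CosetCert.act (letter (baseΓ U P.a P.b α β)) w := fun w =>
    (map_act (MonoidHom.snd _ _) gn w).trans (by rw [map_letter]; rfl)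
  have hA1 : ∀ z ∈ fA.range, z.1 = 1 → z = 1 := by
    rintro _ ⟨x, rfl⟩ h
    have hx : x = 1 := embSU_injective 0 _ U (h.trans (map_one _).symm)
    rw [hx, map_one]
  have hB1 : ∀ z ∈ fB.range, z.1 = 1 → z = 1 := by
    rintro _ ⟨x, rfl⟩ h
    have hx : x = 1 := p_injective (h.trans (map_one _).symm)
    rw [hx, map_one]
  have hbb2 : bb 2 = fA P3 := Prod.ext ((W4 (F := F)).emb_P3 U).symm hc.symm
  have memA : ∀ g, g % 4 ≠ 3 → gn g ∈ fA.range := by
    intro g hg
    refine pow_mem ?_ _
    obtain h | h | h : g % 4 = 0 ∨ g % 4 = 1 ∨ g % 4 = 2 := by omega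
    · rw [h]; exact ⟨e0 U P.a, rfl⟩
    · rw [h]; exact ⟨e0 U P.b, rfl⟩
    · rw [h, hbb2]; exact ⟨P3, rfl⟩
  have memB : ∀ g, 2 ≤ g % 4 → gn g ∈ fB.range := by
    intro g hg
    refine pow_mem ?_ _
    obtain h | h : g % 4 = 2 ∨ g % 4 = 3 := by omega
    · rw [h]; exact ⟨(W4 (F := F)).c, rfl⟩
    · rw [h]; exact ⟨rho4, rfl⟩
  have hclassB : relB.all (fun w => w.all fun g => Nat.ble 2 (g % 4)) = true := by decide +kernel
  have hclassH : relH.all (fun w => w.all fun g => !Nat.beq (g % 4) 3) = true := by decide +kernel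
  have hrel : ∀ w ∈ data.rels, CosetCert.act gn w = 1 := by
    intro w hw
    have h1 : (CosetCert.act gn w).1 = 1 := (hfst w).trans (word_one hF P hw)
    rcases List.mem_append.1 hw with hw | hw
    · rcases List.mem_append.1 hw with hw | hw
      · exact hB1 _ (act_mem gn _ w fun g hg => memB g (by
          simpa using List.all_eq_true.1 (List.all_eq_true.1 hclassB w hw) g hg)) h1
      · exact Prod.ext h1 ((hsnd w).trans (hX w hw))
    · exact hA1 _ (act_mem gn _ w fun g hg => memA g fun e => by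
        have := List.all_eq_true.1 (List.all_eq_true.1 hclassH w hw) g hg
        rw [e] at this
        exact absurd this (by decide)) h1
  have hord : ∀ g, g < 4 → gn (g + 4) * gn g = 1 := by
    intro g hg
    have h1 : (gn (g + 4) * gn g).1 = 1 := by
      refine eq_one_of_bas hF P _ fun j hj => ?_
      have := ord_ok
      simp only [List.all_eq_true, List.mem_range, Nat.beq_eq] at this
      show vAct ((gn (g + 4)).1 * (gn g).1) _ = _
      have e : ∀ k, (gn k).1 = letter (baseT U P.a P.b) k := fun k => by simp [gn, bb, letter]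
      rw [e, e, act_mul, letter_act hF P, letter_act hF P, this g hg j hj]
    by_cases h : g = 3
    · exact hB1 _ (mul_mem (memB _ (by omega)) (memB _ (by omega))) h1
    · exact hA1 _ (mul_mem (memA _ (by omega)) (memA _ (by omega))) h1
  have hiv : ∀ g, g < data.ng → gn (data.iv g) = (gn g)⁻¹ := by
    intro g hg
    change g < 8 at hg
    show gn ((g + 4) % 8) = _
    by_cases h : g < 4
    · rw [Nat.mod_eq_of_lt (by omega)]
      exact eq_inv_of_mul_eq_one_left (hord g h)
    · obtain ⟨k, rfl⟩ : ∃ k, g = k + 4 := ⟨g - 4, by omega⟩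
      rw [show (k + 4 + 4) % 8 = k by omega]
      exact eq_inv_of_mul_eq_one_right (hord k (by omega))
  let ac : SU 4 F 3 →* Perm (Fin 4 → F) :=
    { toFun := fun X => ⟨vAct X, vAct X⁻¹, act_inv_act X, act_act_inv X⟩
      map_one' := Equiv.ext fun v => act_one v
      map_mul' := fun X Y => Equiv.ext fun v => act_mul X Y v }
  have hac : ∀ X v, ac X v = vAct X v := fun _ _ => rfl
  have hstep0 : ∀ i g, i < 2160 → g < 4 → vAct (gn g).1 (K9.dec (val P.i) 4 (colc i)) =
      K9.dec (val P.i) 4 (colc (data.tbl i g)) := by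
    intro i g hi hg
    have := step_ok
    simp only [List.all_eq_true, List.mem_range, Nat.beq_eq] at this
    have e : (gn g).1 = baseT U P.a P.b g := by
      simp [gn, bb, letter, expo, if_pos hg, Nat.mod_eq_of_lt hg]
    rw [e, base_act hF P g hg, this i hi g hg]
  have hback : (List.range 2160).all (fun i => (List.range 4).all fun g =>
      Nat.blt (data.tbl i (g + 4)) 2160 && Nat.beq (data.tbl (data.tbl i (g + 4)) g) i) = true := by
    decide +kernel
  have hstep : ∀ i g, i < data.n → g < data.ng →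
      ac (gn g).1 (K9.dec (val P.i) 4 (colc i)) = K9.dec (val P.i) 4 (colc (data.tbl i g)) := by
    intro i g hi hg
    change i < 2160 at hi
    change g < 8 at hg
    by_cases h : g < 4
    · exact hstep0 i g hi h
    · obtain ⟨k, rfl⟩ : ∃ k, g = k + 4 := ⟨g - 4, by omega⟩
      have hb := hback
      simp only [List.all_eq_true, List.mem_range, Bool.and_eq_true, Nat.beq_eq, Nat.blt_eq] at hb
      obtain ⟨hlt, hb⟩ := hb i hi k (by omega)
      have e2 : data.tbl (data.tbl i (k + 4)) k = i := hb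
      have := hstep0 (data.tbl i (k + 4)) k hlt (by omega)
      rw [e2] at this
      have e : (gn (k + 4)).1 = ((gn k).1)⁻¹ :=
        eq_inv_of_mul_eq_one_left (congrArg Prod.fst (hord k (by omega)))
      rw [hac, e]
      exact act_inv_eq this
  have hcol : ∀ i, i < data.n → K9.dec (val P.i) 4 (colc i) = K9.dec (val P.i) 4 (colc 0) → i = 0 := by
    intro i hi e
    have h1 := col_lt
    have h2 := col_ok
    simp only [List.all_eq_true, List.mem_range, Bool.or_eq_true, Bool.not_eq_true', Nat.blt_eq,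
      Nat.ble_eq] at h1 h2
    have := Code.dec_inj hK (h1 i hi) (h1 0 (by norm_num)) e
    rcases h2 i hi with h | h
    · omega
    · rw [this] at h; simp at h
  have htriv := graph_trivial check_ok (by norm_num) gn fA.range (fun g _ => Nat.mod_lt _ (by norm_num))
    hiv hrel (fun w hw => act_mem gn _ w fun g hg => memA g (by
      have hw' : w = [0] ∨ w = [1] ∨ w = [2] := by simpa using hw
      rcases hw' with rfl | rfl | rfl <;> simp only [List.mem_singleton] at hg <;> omega))
    ac (fun i => K9.dec (val P.i) 4 (colc i)) hstep hcol hA1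
  set K : Subgroup (SU 4 F 3 × Γ) := Subgroup.closure (gn '' {g | g < data.ng}) with hKdef
  have hgK : ∀ g, g < 4 → bb g ∈ K := fun g hg => by
    have : gn g ∈ K := Subgroup.subset_closure ⟨g, show g < 8 by omega, rfl⟩
    simpa [gn, letter, expo, if_pos hg, Nat.mod_eq_of_lt hg] using this
  have hB : fB.range ≤ K := by
    rw [MonoidHom.range_eq_map, ← alt4_top (F := F), MonoidHom.map_closure, Set.image_pair,
      Subgroup.closure_le]
    rintro z (rfl | rfl)
    exacts [hgK 2 (by norm_num), hgK 3 (by norm_num)]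
  have hA : fA.range ≤ K := by
    have h0 : ∀ A, e0 U A ∈ K.comap fA := fun A => by
      have : Subgroup.closure ({P.a, P.b} : Set (SU 2 F 3)) ≤ (K.comap fA).comap (e0 U) := by
        rw [Subgroup.closure_le]
        rintro z (rfl | rfl)
        exacts [hgK 0 (by norm_num), hgK 1 (by norm_num)]
      exact this (su2_top hF P ▸ Subgroup.mem_top A)
    have hP3 : P3 ∈ K.comap fA := by
      show fA P3 ∈ K
      rw [← hbb2]; exact hgK 2 (by norm_num)
    have htop := UF.blocks_gen U (U.exists_alpha_three hF) (K.comap fA) h0 fun A => by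
      rw [emb_one_eq U]
      exact mul_mem (mul_mem hP3 (h0 A)) (inv_mem hP3)
    rintro _ ⟨x, rfl⟩
    exact (show x ∈ K.comap fA from htop ▸ Subgroup.mem_top x)
  obtain ⟨Ψ, hΨ⟩ := hom_of_graph K htriv fun t => by
    have h : (⊤ : Subgroup (SU 4 F 3)) ≤ K.map (MonoidHom.fst _ _) := by
      rw [← gen_top hF (U := U), sup_le_iff]
      exact ⟨fun _ ⟨x, hx⟩ => ⟨fA x, hA ⟨x, rfl⟩, hx⟩, fun _ ⟨x, hx⟩ => ⟨fB x, hB ⟨x, rfl⟩, hx⟩⟩
    obtain ⟨z, hz, e⟩ := h (Subgroup.mem_top t)
    exact ⟨z, hz, e⟩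
  exact ⟨Ψ, MonoidHom.ext fun x => hΨ (fA x) (hA ⟨x, rfl⟩),
    MonoidHom.ext fun x => hΨ (fB x) (hB ⟨x, rfl⟩)⟩

end Main

end CfsgLib.Presentations.SUPres.Three
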