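/-
`SU N` over nine elements.
-/
import Cfsg.Agent.Lib.Presentations.SUPres.Three

set_option autoImplicit false

namespace CfsgLib.Presentations.SUPres.Three

open Matrix Cfsg CfsgLib.Chev.CT.Phan Equiv Equiv.Perm
open Carmichael

universe u v

variable {F : Type u} [Field F] {N : ℕ}

/-- The first four points. -/
def first4 (hN : 4 ≤ N) : Fin 4 ≃ {x : Fin N // x ∈ Finset.univ.filter fun y : Fin N => (y : ℕ) < 4} where
  toFun k := ⟨⟨k, by omega⟩, by simp⟩
  invFun x := ⟨x.1, (Finset.mem_filter.1 x.2).2⟩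
  left_inv _ := rfl
  right_inv _ := rfl

/-- Permutations of the first four points. -/
def ext4 (hN : 4 ≤ N) : alternatingGroup (Fin 4) →* alternatingGroup (Fin N) :=
  (altIncl (Finset.univ.filter fun y : Fin N => (y : ℕ) < 4)).comp
    (Equiv.altCongrHom (first4 hN)).toMonoidHom

theorem ext4_moves (hN : 4 ≤ N) (τ : alternatingGroup (Fin 4)) :
    (∀ k : Fin 4, Moves (ext4 hN τ : Perm (Fin N)) k ((τ : Perm (Fin 4)) k : ℕ)) ∧
      ∀ k, 4 ≤ k → k < N → Moves (ext4 hN τ : Perm (Fin N)) k k := by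
  refine ⟨fun k => ⟨by omega, by omega, ?_⟩, fun k hk hkN => ⟨hkN, hkN, ?_⟩⟩
  · show Equiv.Perm.ofSubtype ((Equiv.permCongr (first4 hN)) (τ : Perm (Fin 4))) _ = _
    rw [Equiv.Perm.ofSubtype_apply_of_mem _ (by simp)]
    simp [Equiv.permCongr_apply, first4]
  · exact Equiv.Perm.ofSubtype_apply_of_not_mem _ (by simp; omega)

theorem ext4_move_of (hN : 4 ≤ N) (τ : alternatingGroup (Fin 4)) {k l : ℕ}
    (h : Moves (τ : Perm (Fin 4)) k l) : Moves (ext4 hN τ : Perm (Fin N)) k l := by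
  obtain ⟨hk, hl, e⟩ := h
  have := (ext4_moves hN τ).1 ⟨k, hk⟩
  rwa [e] at this

/-- The window of the first four coordinates. -/
abbrev top4 (U : UF F 3) (hN : 4 ≤ N) : SU 4 F 3 →* SU N F 3 := embSU 0 (le_trans le_rfl (by omega)) U

theorem top4_p (U : UF F 3) (hN : 4 ≤ N) (τ : alternatingGroup (Fin 4)) :
    top4 U hN ((W4 (F := F)).p τ) = pm (alternatingGroup (Fin N)) alt_sign (ext4 hN τ) :=
  emb_pm U _ alt_sign _ _ alt_sign τ _ (ext4_moves hN τ).1 (ext4_moves hN τ).2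

theorem top4_emb (U : UF F 3) (hN : 4 ≤ N) (X : SU 3 F 3) :
    top4 U hN (embSU 0 (by norm_num : 0 + 3 ≤ 4) U X) = embSU 0 (by omega) U X :=
  embSU_embSU 0 _ 0 (by norm_num) (by omega) U X

theorem exists_four_moves (h5 : 5 ≤ N) (l : ℕ) (hl : l + 4 ≤ N) :
    ∃ σ : alternatingGroup (Fin N), ∀ k, k < 4 → Moves (σ : Perm (Fin N)) k (l + k) := by
  by_cases h0 : l = 0
  · subst h0
    exact ⟨1, fun k hk => by simpa using Moves.one (N := N) (k := k) (by omega)⟩
  by_cases h6 : 6 ≤ N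
  · exact exists_shift_perm 4 l h6 hl
  obtain rfl : N = 5 := by omega
  obtain rfl : l = 1 := by omega
  refine ⟨⟨finRotate 5, mem_alternatingGroup.2 (by rw [sign_finRotate]; rfl)⟩, fun k hk => ?_⟩
  interval_cases k <;> exact (moves_iff (by norm_num)).2 (by decide)

variable {U : UF F 3} {Γ : Type v} [Group Γ] (h5 : 5 ≤ N) {α : SU 3 F 3 →* Γ}
  {β : (altSetup (F := F) (N := N) (le_trans (by norm_num) h5)).S →* Γ}

/-- Distant commutation from a homomorphism of the first window of length four. -/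
theorem far_of_base
    (hfix : ∀ σ : (altSetup (F := F) (N := N) (le_trans (by norm_num) h5)).S,
      Moves (σ : Perm (Fin N)) 0 0 → Moves (σ : Perm (Fin N)) 1 1 → ∀ A, Commute (β σ) (α (e0 U A)))
    (f : SU 4 F 3 →* Γ) (hf : f.comp (embSU 0 (by norm_num) U) = α)
    (hf' : f.comp (W4 (F := F)).p = β.comp (ext4 (le_trans (by norm_num) h5))) :
    ∀ π : (altSetup (F := F) (N := N) (le_trans (by norm_num) h5)).S,
      Moves (π : Perm (Fin N)) 0 2 → Moves (π : Perm (Fin N)) 1 3 →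
        ∀ A B, Commute (α (e0 U A)) (β π * α (e0 U B) * (β π)⁻¹) := by
  intro π h0 h1 A B
  obtain ⟨π4, p0, p1, -, -⟩ := exists_alt_far (N := 4) le_rfl
  set π' := ext4 (le_trans (by norm_num) h5) π4 with hπ'
  have hs := hfix (π'⁻¹ * π) ((ext4_move_of _ π4 p0).inv.mul h0) ((ext4_move_of _ π4 p1).inv.mul h1) B
  have e : β π * α (e0 U B) * (β π)⁻¹ = β π' * α (e0 U B) * (β π')⁻¹ := by
    conv_lhs => rw [← mul_inv_cancel_left π' π]
    rw [map_mul, show β π' * β (π'⁻¹ * π) * α (e0 U B) * (β π' * β (π'⁻¹ * π))⁻¹ =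
      β π' * (β (π'⁻¹ * π) * α (e0 U B) * (β (π'⁻¹ * π))⁻¹) * (β π')⁻¹ by group, hs.eq,
      mul_inv_cancel_right]
  rw [e, ← hf]
  rw [show β π' = f ((W4 (F := F)).p π4) from (DFunLike.congr_fun hf' π4).symm, MonoidHom.comp_apply,
    MonoidHom.comp_apply, ← map_inv, ← map_mul, ← map_mul]
  exact Commute.map (((W4 (F := F)).self U).far π4 p0 p1 A B) f

/-- Windows of length four in the amalgam. -/
theorem ext_of_base [Fintype F] (hF : Fintype.card F = 9)
    (K : Amal U (altSetup (F := F) (N := N) (le_trans (by norm_num) h5)) α β)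
    (f : SU 4 F 3 →* Γ) (hf : f.comp (embSU 0 (by norm_num) U) = α)
    (hf' : f.comp (W4 (F := F)).p = β.comp (ext4 (le_trans (by norm_num) h5))) :
    ∀ l, l + 4 ≤ N → ∃ g : SU 4 F 3 →* Γ, (∀ A, g (embSU 0 (by norm_num) U A) = (K.dat h5).ψ l A) ∧
      ∀ A, g (embSU 1 (by norm_num) U A) = (K.dat h5).ψ (l + 1) A := by
  intro l hl
  obtain ⟨σ, hσ⟩ := exists_four_moves h5 l hl
  obtain ⟨π4, p0, p1, -, -⟩ := exists_alt_far (N := 4) le_rfl
  obtain ⟨c0, c1, -, -⟩ := cycN_moves (N := N) (by omega)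
  refine ⟨(Amal.cj β σ).comp f, ?_, ?_⟩
  all_goals
    intro A
  all_goals
    refine DFunLike.congr_fun (f := ((Amal.cj β σ).comp f).comp (embSU _ _ U))
      (MonoidHom.eq_of_eqOn_top (f := ((Amal.cj β σ).comp f).comp (embSU _ _ U))
        (g := (K.dat h5).ψ _) fun x _ => ?_) A
    refine (show x ∈ MonoidHom.eqLocus _ _ from
      (UF.blocks_gen U (U.exists_alpha_three hF) (MonoidHom.eqLocus (((Amal.cj β σ).comp f).comp (embSU _ _ U))
        ((K.dat h5).ψ _)) (fun B => ?_) (fun B => ?_)) ▸ Subgroup.mem_top x)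
  · show Amal.cj β σ (f (embSU 0 _ U (e0 U B))) = _
    rw [(K.dat h5).h0 l (by omega), Amal.dat_φ, K.φ_eq (σ := σ) (l := l) (by simpa using hσ 0 (by norm_num))
      (hσ 1 (by norm_num)), ← hf]
    rfl
  · show Amal.cj β σ (f (embSU 0 _ U (embSU 1 _ U B))) = _
    rw [(K.dat h5).h1 l (by omega), Amal.dat_φ,
      K.φ_eq (σ := σ * (altSetup (F := F) (N := N) (le_trans (by norm_num) h5)).c) (l := l + 1) ((hσ 1 (by norm_num)).mul c0)
        ((hσ 2 (by norm_num)).mul c1), Amal.cj_mul, ← K.α_one, ← hf]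
    rfl
  · show Amal.cj β σ (f (embSU 1 _ U (e0 U B))) = _
    rw [(K.dat h5).h0 (l + 1) (by omega), Amal.dat_φ,
      K.φ_eq (σ := σ * (altSetup (F := F) (N := N) (le_trans (by norm_num) h5)).c) (l := l + 1) ((hσ 1 (by norm_num)).mul c0)
        ((hσ 2 (by norm_num)).mul c1), Amal.cj_mul, ← K.α_one, ← hf, MonoidHom.comp_apply,
      embSU_embSU 1 _ 0 (by norm_num) (by norm_num) U B,
      embSU_embSU 0 _ 1 (by norm_num) (by norm_num) U B]
  · show Amal.cj β σ (f (embSU 1 _ U (embSU 1 _ U B))) = _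
    rw [(K.dat h5).h1 (l + 1) (by omega), Amal.dat_φ,
      K.φ_eq (σ := σ * ext4 (le_trans (by norm_num) h5) π4) (l := l + 1 + 1) ((hσ 2 (by norm_num)).mul (ext4_move_of _ π4 p0))
        ((hσ 3 (by norm_num)).mul (ext4_move_of _ π4 p1)), Amal.cj_mul]
    show _ = Amal.cj β σ (β (ext4 (le_trans (by norm_num) h5) π4) * α (e0 U B) * (β (ext4 (le_trans (by norm_num) h5) π4))⁻¹)
    rw [← hf, show β (ext4 (le_trans (by norm_num) h5) π4) = f ((W4 (F := F)).p π4) from (DFunLike.congr_fun hf' π4).symm,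
      MonoidHom.comp_apply, ← map_inv, ← map_mul, ← map_mul,
      embSU_embSU 1 _ 1 (by norm_num) (by norm_num) U B,
      embSU_embSU 0 _ 0 (by norm_num) (by norm_num) U B,
      pm_emb U (o := 0 + 0) (o' := 1 + 1) _ (by norm_num) _ _ π4 (fun k hk => by
        obtain rfl | rfl : k = 0 ∨ k = 1 := by omega
        exacts [p0, p1]) B]

/-- `SU 4` over nine elements. -/
theorem su_four [Fintype F] (hF : Fintype.card F = 9) {κA κB : Type} {a b : ℕ}
    (hA : BoundedOn (SU 3 F 3) κA a) (hB : BoundedOn (alternatingGroup (Fin 4)) κB b) :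
    BoundedOn (SU 4 F 3) (κA ⊕ κB) (a + b + 5) := by
  obtain ⟨U⟩ := UF.of_card (F := F) (q := 3) (by rw [hF]; norm_num)
  obtain ⟨P⟩ := exists_pair U hF
  let E : List (FreeGroup (SU 3 F 3 ⊕ (W4 (F := F)).S)) :=
    FreeGroup.of (Sum.inl P3) * (FreeGroup.of (Sum.inr (W4 (F := F)).c))⁻¹ :: extra U P.a P.b
  refine (BoundedOn.glue (embSU 0 (by norm_num) U) (W4 (F := F)).p hA hB (gen_top hF) E ?_ ?_).mono
    (le_of_eq (by simp [E, extra, relX]))
  · intro e he
    rcases List.mem_cons.1 he with rfl | he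
    · simp only [map_mul, map_inv, FreeGroup.lift_apply_of, Sum.elim_inl, Sum.elim_inr, mul_inv_eq_one]
      exact (W4 (F := F)).emb_P3 U
    · exact extra_self hF P e he
  · intro Γ _ α β hh
    simp only [E, List.forall_mem_cons] at hh
    obtain ⟨hc, hx⟩ := hh
    simp only [map_mul, map_inv, FreeGroup.lift_apply_of, Sum.elim_inl, Sum.elim_inr, mul_inv_eq_one] at hc
    exact forced hF P hc hx

/-- `SU N` over nine elements, for degree at least five. -/
theorem su_big [Fintype F] (hF : Fintype.card F = 9) (h5 : 5 ≤ N) {κA κB : Type} {a b : ℕ}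
    (hA : BoundedOn (SU 3 F 3) κA a) (hB : BoundedOn (alternatingGroup (Fin N)) κB b) :
    BoundedOn (SU N F 3) (κA ⊕ κB) (a + b + 9) := by
  obtain ⟨U⟩ := UF.of_card (F := F) (q := 3) (by rw [hF]; norm_num)
  obtain ⟨P⟩ := exists_pair U hF
  have hN4 : 4 ≤ N := by omega
  let W : Setup F N := altSetup hN4
  obtain ⟨x, y, hxy⟩ := su2_two_gen (F := F) (q := 3) (by rw [hF]; norm_num) le_rfl
  obtain ⟨sa, sb, ha, hb, hst⟩ := exists_alt_fix (N := N) hN4
  let La : SU 3 F 3 → FreeGroup (SU 3 F 3 ⊕ W.S) := fun g => FreeGroup.of (Sum.inl g)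
  let Lb : W.S → FreeGroup (SU 3 F 3 ⊕ W.S) := fun g => FreeGroup.of (Sum.inr g)
  let cw : FreeGroup (SU 3 F 3 ⊕ W.S) → FreeGroup (SU 3 F 3 ⊕ W.S) → FreeGroup (SU 3 F 3 ⊕ W.S) :=
    fun g h => g * h * (h * g)⁻¹
  let ι : FreeGroup (SU 3 F 3 ⊕ (W4 (F := F)).S) →* FreeGroup (SU 3 F 3 ⊕ W.S) :=
    FreeGroup.map (Sum.map id (ext4 hN4))
  have hι : ∀ {G : Type u} [Group G] (α : SU 3 F 3 → G) (β : W.S → G) w,
      FreeGroup.lift (Sum.elim α β) (ι w) = FreeGroup.lift (Sum.elim α (β ∘ ext4 hN4)) w := fun α β w =>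
    DFunLike.congr_fun (FreeGroup.ext_hom ((FreeGroup.lift (Sum.elim α β)).comp ι) _
      fun i => by rcases i with i | i <;> simp [ι]) w
  have hι0 : ∀ {G : Type} [Group G] (α : SU 3 F 3 → G) (β : W.S → G) w,
      FreeGroup.lift (Sum.elim α β) (ι w) = FreeGroup.lift (Sum.elim α (β ∘ ext4 hN4)) w := fun α β w =>
    DFunLike.congr_fun (FreeGroup.ext_hom ((FreeGroup.lift (Sum.elim α β)).comp ι) _
      fun i => by rcases i with i | i <;> simp [ι]) w
  let E : List (FreeGroup (SU 3 F 3 ⊕ W.S)) :=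
    [La P3 * (Lb W.c)⁻¹, cw (Lb sa) (La (e0 U x)), cw (Lb sa) (La (e0 U y)), cw (Lb sb) (La (e0 U x)),
      cw (Lb sb) (La (e0 U y))] ++ (extra U P.a P.b).map ι
  have hcard : Fintype.card F = 3 ^ 2 := by rw [hF]; norm_num
  have hself := W.self (q := 3) U
  have hgen : (embSU 0 (le_trans (by norm_num) W.hN) U : SU 3 F 3 →* SU N F 3).range ⊔ W.p.range = ⊤ :=
    W.gen_top U h5 (Dat.state_three_field _ hF (ext_of_base h5 hF hself (top4 U hN4)
      (MonoidHom.ext fun X => top4_emb U hN4 X) (MonoidHom.ext fun τ => top4_p U hN4 τ))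
      (N - 2) 0 (by omega))
  refine (BoundedOn.glue (embSU 0 (le_trans (by norm_num) W.hN) U) W.p hA hB hgen E ?_ ?_).mono
    (le_of_eq (by simp [E, extra, relX]))
  · intro e he
    rcases List.mem_append.1 he with he | he
    · simp only [List.mem_cons, List.not_mem_nil, or_false] at he
      rcases he with rfl | rfl | rfl | rfl | rfl <;>
        simp only [cw, La, Lb, map_mul, map_inv, FreeGroup.lift_apply_of, Sum.elim_inl, Sum.elim_inr,
          mul_inv_eq_one]
      · exact hself.compat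
      · exact (hself.fix sa ha.1 ha.2 x).eq
      · exact (hself.fix sa ha.1 ha.2 y).eq
      · exact (hself.fix sb hb.1 hb.2 x).eq
      · exact (hself.fix sb hb.1 hb.2 y).eq
    · obtain ⟨w, hw, rfl⟩ := List.mem_map.1 he
      have := congrArg (top4 U hN4) (extra_self hF P w hw)
      rw [map_one, lift_natural, Sum.comp_elim] at this
      rw [hι]
      refine Eq.trans ?_ this
      congr 2
      refine congrArg₂ Sum.elim (funext fun X => ?_) (funext fun τ => ?_)
      · exact (top4_emb U hN4 X).symm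
      · exact (top4_p U hN4 τ).symm
  · intro Γ _ α β hh
    simp only [E, List.forall_mem_append, List.forall_mem_cons, List.forall_mem_map] at hh
    obtain ⟨⟨r0, r1, r2, r3, r4, -⟩, hx⟩ := hh
    simp only [cw, La, Lb, map_mul, map_inv, FreeGroup.lift_apply_of, Sum.elim_inl, Sum.elim_inr,
      mul_inv_eq_one] at r0 r1 r2 r3 r4
    have hfix := fix_of_gens U W hxy hst r1 r3 r2 r4
    have hc4 : α P3 = (β.comp (ext4 hN4)) (W4 (F := F)).c := by
      rw [r0, MonoidHom.comp_apply]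
      refine congrArg β (Subtype.ext (Equiv.ext fun k => ?_))
      obtain ⟨h1, h2⟩ := ext4_moves hN4 ((W4 (F := F)).c)
      obtain ⟨a0, a1, a2, afix⟩ := cycN_moves (N := N) (by omega)
      obtain ⟨b0, b1, b2, b3⟩ := cycN_moves (N := 4) (by omega)
      have hval : ∀ {k l : ℕ} (hk : k < N), Moves (cycN (N := N) (le_trans (by norm_num) hN4)) k l →
          Moves (ext4 hN4 (W4 (F := F)).c : Perm (Fin N)) k l →
          cycN (N := N) (le_trans (by norm_num) hN4) ⟨k, hk⟩ =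
            (ext4 hN4 (W4 (F := F)).c : Perm (Fin N)) ⟨k, hk⟩ := fun {k l} hk m m' => by
        obtain ⟨_, _, e⟩ := m
        obtain ⟨_, _, e'⟩ := m'
        rw [e, e']
      obtain ⟨k, hk⟩ := k
      show cycN (le_trans (by norm_num) hN4) ⟨k, hk⟩ = _
      obtain rfl | rfl | rfl | rfl | h4 : k = 0 ∨ k = 1 ∨ k = 2 ∨ k = 3 ∨ 4 ≤ k := by omega
      · exact hval hk a0 (ext4_move_of hN4 _ b0)
      · exact hval hk a1 (ext4_move_of hN4 _ b1)
      · exact hval hk a2 (ext4_move_of hN4 _ b2)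
      · exact hval hk (afix 3 le_rfl hk) (ext4_move_of hN4 _ (b3 3 le_rfl (by norm_num)))
      · exact hval hk (afix k (by omega) hk) (h2 k h4 hk)
    obtain ⟨f, hf, hf'⟩ := forced hF P hc4 fun e he => by
      have := hx e he
      rw [hι0] at this
      exact this
    have K : Amal U W α β := ⟨r0, hfix, far_of_base h5 hfix f hf hf'⟩
    exact K.forced h5 (altSetup_gen h5) (Dat.state_three_field _ hF (ext_of_base h5 hF K f hf hf') (N - 2) 0 (by omega))

end CfsgLib.Presentations.SUPres.Three
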