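/-
The checks of the tables over four elements.
-/
import Cfsg.Agent.Lib.Presentations.SUPres.TwoData
import Cfsg.Agent.Lib.Presentations.SUPres.Code

set_option autoImplicit false
set_option maxRecDepth 100000

namespace CfsgLib.Presentations.SUPres.Two

/-- The field with four elements by numbers. -/
abbrev K4 : Code where
  Q := 4
  one := 2
  add a b := 2 * ((a / 2 + b / 2) % 2) + (a % 2 + b % 2) % 2
  mul a b := 2 * ((a / 2 * (b / 2) + a % 2 * (b % 2)) % 2) +
    (a / 2 * (b % 2) + a % 2 * (b / 2) + a % 2 * (b % 2)) % 2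

/-- The matrices of the two generators of `SU 3`. -/
def mats3 : List (List (List ℕ)) :=
  [[[1, 1, 1], [1, 2, 3], [1, 3, 2]], [[1, 1, 3], [1, 2, 2], [2, 1, 2]]]

/-- The matrices of the five letters in dimension four. -/
def mats4 : List (List (List ℕ)) :=
  [[[1, 1, 1, 0], [1, 2, 3, 0], [1, 3, 2, 0], [0, 0, 0, 2]],
   [[1, 1, 3, 0], [1, 2, 2, 0], [2, 1, 2, 0], [0, 0, 0, 2]],
   [[0, 0, 2, 0], [2, 0, 0, 0], [0, 2, 0, 0], [0, 0, 0, 2]],
   [[0, 2, 0, 0], [2, 0, 0, 0], [0, 0, 2, 0], [0, 0, 0, 2]],
   [[2, 0, 0, 0], [0, 2, 0, 0], [0, 0, 0, 2], [0, 0, 2, 0]]]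

/-- The exponent of a letter in dimension three. -/
def expoA (g : ℕ) : ℕ := if g < 2 then 1 else 11

/-- The exponent of a letter in dimension four. -/
def expoB (g : ℕ) : ℕ := if g < 5 then 1 else [11, 11, 2, 1, 1].getD (g % 5) 1

/-- A letter in dimension three. -/
def oplA (g v : ℕ) : ℕ := Nat.rec v (fun _ x => K4.op 3 (mats3.getD (g % 2) []) x) (expoA g)

/-- A letter in dimension four. -/
def oplB (g v : ℕ) : ℕ := Nat.rec v (fun _ x => K4.op 4 (mats4.getD (g % 5) []) x) (expoB g)

/-- A column of an element. -/
def colcA (i j : ℕ) : ℕ := look colA 18 36 i / 64 ^ j % 64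

/-- The code of a point. -/
def colcB (i : ℕ) : ℕ := look colB 8 60 i

/-- The table of `SU 3`. -/
abbrev dataA : CosetCert.Data where
  n := 216
  ng := 4
  iv g := (g + 2) % 4
  tbl i g := look tblA 8 64 (i * 4 + g)
  rep i := wordOf 5 (look repA 48 18 i)
  rels := relA
  subs := []

/-- The table of `SU 4`. -/
abbrev dataB : CosetCert.Data where
  n := 120
  ng := 10
  iv g := (g + 5) % 10
  tbl i g := look tblB 7 90 (i * 10 + g)
  rep i := wordOf 11 (look repB 48 18 i)
  rels := relX ++ relP ++ relH
  subs := [[0], [1], [2], [3]]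

theorem checkA : CosetCert.check dataA (unpack treeA 11 54 (fun x => (x / 4, x % 4)) 215)
    (unpack stepsA 20 30 (fun x => (x / 2048, x / 32 % 64, x % 32)) 217) = true := by decide +kernel

theorem checkB : CosetCert.check dataB (unpack treeB 11 54 (fun x => (x / 10, x % 10)) 119)
    (unpack stepsB 22 27 (fun x => (x / 16384, x / 32 % 512, x % 32)) 481) = true := by decide +kernel

theorem stepA : (List.range 216).all (fun i => (List.range 4).all fun g => (List.range 3).all fun j =>
    Nat.beq (oplA g (colcA i j)) (colcA (dataA.tbl i g) j)) = true := by decide +kernel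

theorem firstA : (List.range 3).all (fun j => Nat.beq (colcA 0 j) (K4.bas 3 j)) = true := by decide +kernel

theorem distinctA : (List.range 216).all (fun i => (List.range i).all fun k =>
    !((List.range 3).all fun j => Nat.beq (colcA i j) (colcA k j))) = true := by decide +kernel

theorem relsA : relA.all (fun w => (List.range 3).all fun j =>
    Nat.beq (w.foldl (fun v g => oplA g v) (K4.bas 3 j)) (K4.bas 3 j)) = true := by decide +kernel

theorem ordA : (List.range 2).all (fun g => (List.range 3).all fun j =>
    Nat.beq (oplA (g + 2) (oplA g (K4.bas 3 j))) (K4.bas 3 j)) = true := by decide +kernel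

theorem stepB : (List.range 120).all (fun i => (List.range 10).all fun g =>
    Nat.beq (oplB g (colcB i)) (colcB (dataB.tbl i g))) = true := by decide +kernel

theorem colB_ok : (List.range 120).all (fun i => Nat.blt (colcB i) 256 &&
    (Nat.ble i 0 || !Nat.beq (colcB i) (colcB 0))) = true := by decide +kernel

theorem firstB : colcB 0 = K4.bas 4 3 := by decide +kernel

theorem normsB : (List.range 256).all (fun v =>
    !Nat.beq (((List.range 4).map fun i =>
      K4.mul (K4.dig v i) (K4.mul (K4.dig v i) (K4.dig v i))).foldr K4.add 0) 2 ||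
    (List.range 120).any fun i => Nat.beq (colcB i) v) = true := by decide +kernel

theorem relsB : (relX ++ relP ++ relH).all (fun w => (List.range 4).all fun j =>
    Nat.beq (w.foldl (fun v g => oplB g v) (K4.bas 4 j)) (K4.bas 4 j)) = true := by decide +kernel

theorem ordB : (List.range 5).all (fun g => (List.range 4).all fun j =>
    Nat.beq (oplB (g + 5) (oplB g (K4.bas 4 j))) (K4.bas 4 j)) = true := by decide +kernel

end CfsgLib.Presentations.SUPres.Two
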