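/-
Four elements by numbers, unitary matrices from numbers, and the symmetric group as a group to glue along.
-/
import Cfsg.Agent.Lib.Presentations.SUPres.TwoCheck
import Cfsg.Agent.Lib.Presentations.SUPres.Core
import Cfsg.Agent.Lib.Chev.CT.Phan.Two.Base

set_option autoImplicit false

namespace CfsgLib.Presentations.SUPres.Two

open Matrix Cfsg CfsgLib.Chev.CT.Phan Equiv Equiv.Perm

universe u

variable {F : Type u} [Field F] [Fintype F]

/-- The value of a code. -/
def val (z : F) (x : ℕ) : F := ((x / 2 : ℕ) : F) + ((x % 2 : ℕ) : F) * z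

theorem two_eq_zero (hF : Fintype.card F = 4) : (2 : F) = 0 := by
  have := Nat.cast_card_eq_zero F
  rw [hF, show ((4 : ℕ) : F) = (2 : F) ^ 2 by norm_num] at this
  exact (pow_eq_zero_iff (by norm_num)).1 this

/-- A primitive cube root of one. -/
structure Root (U : UF F 2) where
  z : F
  hz : z * z = z + 1
  hσ : U.σ z = z + 1

theorem exists_root (U : UF F 2) (hF : Fintype.card F = 4) : Nonempty (Root U) := by
  obtain ⟨z, hz⟩ := U.exists_moved
  have h2 := two_eq_zero hF
  have h4 := U.hσσ z
  rw [U.hσ, U.hσ] at h4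
  rw [U.hσ] at hz
  have h0 : z ≠ 0 := fun e => hz (by simp [e])
  have h1 : z ≠ 1 := fun e => hz (by simp [e])
  have h : z * (z - 1) * (z * z + z + 1) = 0 := by linear_combination h4
  have hq := (mul_eq_zero.1 h).resolve_left (mul_ne_zero h0 (sub_ne_zero.2 h1))
  exact ⟨⟨z, by linear_combination hq - (z + 1) * h2, by rw [U.hσ]; linear_combination hq - (z + 1) * h2⟩⟩

variable {U : UF F 2} (hF : Fintype.card F = 4) (R : Root U)
include hF

theorem Root.code_ok : K4.Ok (val R.z) := by
  have h2 : (2 : F) = 0 := two_eq_zero hF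
  have hm : ∀ n : ℕ, ((n % 2 : ℕ) : F) = n := fun n => by
    conv_rhs => rw [← Nat.div_add_mod n 2]
    push_cast
    linear_combination -((n / 2 : ℕ) : F) * h2
  have hadd : ∀ a b, a < 4 → b < 4 → val R.z (K4.add a b) = val R.z a + val R.z b := by
    intro a b ha hb
    have e1 : K4.add a b / 2 = (a / 2 + b / 2) % 2 := by dsimp only [K4]; omega
    have e2 : K4.add a b % 2 = (a % 2 + b % 2) % 2 := by dsimp only [K4]; omega
    simp only [val, e1, e2, hm]
    push_cast [hm]
    ring
  have hmul : ∀ a b, a < 4 → b < 4 → val R.z (K4.mul a b) = val R.z a * val R.z b := by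
    intro a b ha hb
    have e1 : K4.mul a b / 2 = (a / 2 * (b / 2) + a % 2 * (b % 2)) % 2 := by dsimp only [K4]; omega
    have e2 : K4.mul a b % 2 = (a / 2 * (b % 2) + a % 2 * (b / 2) + a % 2 * (b % 2)) % 2 := by
      dsimp only [K4]; omega
    simp only [val, e1, e2, hm]
    push_cast [hm]
    linear_combination (-(a : F) * b) * R.hz
  refine ⟨by norm_num, by simp [val], by norm_num, by simp [val],
    fun a b => by dsimp only [K4]; omega, fun a b => by dsimp only [K4]; omega, hadd, hmul,
    fun a b ha hb e => ?_⟩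
  have hz0 : R.z ≠ 0 := fun e => by
    have := R.hz
    rw [e] at this
    simp at this
  have hz1 : 1 + R.z ≠ 0 := fun e => hz0 (by
    have := R.hz
    linear_combination -this + (R.z - 1) * e - 0 * h2) 
  have hne : ∀ x, x < 4 → val R.z x = 0 → x = 0 := by
    intro x hx e
    interval_cases x
    · rfl
    · exact absurd (by simpa [val] using e) hz0
    · simp [val] at e
    · exact absurd (by simpa [val] using e) hz1
  have hd := hne (K4.add a b) (by dsimp only [K4]; omega)
    (by rw [hadd a b ha hb, e]; linear_combination val R.z b * h2)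
  have : ∀ a < 4, ∀ b < 4, K4.add a b = 0 → a = b := by decide
  exact this a ha b hb hd

theorem Root.conj_val (x : ℕ) (hx : x < 4) : U.σ (val R.z x) = val R.z (K4.mul x x) := by
  rw [(R.code_ok hF).hmul x x hx hx, U.hσ]
  ring

theorem Root.val_surj (a : F) : ∃ k, k < 4 ∧ val R.z k = a := by
  have h : Function.Bijective fun k : Fin 4 => val R.z k :=
    (Fintype.bijective_iff_injective_and_card _).2
      ⟨fun k l e => Fin.ext ((R.code_ok hF).inj _ _ k.isLt l.isLt e), by simp [hF]⟩
  exact ⟨_, (h.2 a).choose.isLt, (h.2 a).choose_spec⟩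

omit hF

/-- A matrix from numbers. -/
def codeMat (n : ℕ) (M : List (List ℕ)) : Matrix (Fin n) (Fin n) F :=
  Matrix.of fun i j => val R.z ((M.getD (i : ℕ) []).getD (j : ℕ) 0)

/-- A matrix with orthonormal columns, as an element of `SU n`. -/
def suOf {n : ℕ} (U : UF F 2) (M : Matrix (Fin n) (Fin n) F) (hd : M.det = 1)
    (ho : Mᵀ * M.map U.σ = 1) : SU n F 2 :=
  ⟨⟨M, hd⟩, fun u v => by
    show hermForm n F 2 (M *ᵥ u) (M *ᵥ v) = hermForm n F 2 u v
    have h : ∀ x y : Fin n → F, hermForm n F 2 x y = x ⬝ᵥ (U.σ ∘ y) := fun x y => U.hf_eq x y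
    rw [h, h, show U.σ ∘ (M *ᵥ v) = M.map U.σ *ᵥ (U.σ ∘ v) from funext (RingHom.map_mulVec U.σ M v),
      dotProduct_comm, dotProduct_mulVec, ← mulVec_transpose, mulVec_mulVec, ho, one_mulVec,
      dotProduct_comm]⟩

include hF

theorem Root.orth {M : List (List ℕ)}
    (h : (List.range 3).all (fun i => (List.range 3).all fun j =>
      Nat.blt ((M.getD i []).getD j 0) 4 &&
      Nat.beq (((List.range 3).map fun k => K4.mul ((M.getD k []).getD i 0)
        (K4.mul ((M.getD k []).getD j 0) ((M.getD k []).getD j 0))).foldr K4.add 0) (if i = j then 2 else 0)) = true) :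
    (codeMat R 3 M)ᵀ * (codeMat R 3 M).map U.σ = 1 := by
  have hK := R.code_ok hF
  simp only [List.all_eq_true, List.mem_range, Bool.and_eq_true, Nat.beq_eq, Nat.blt_eq] at h
  ext i j
  have e := congrArg (val R.z) (h (i : ℕ) i.isLt (j : ℕ) j.isLt).2
  rw [(Code.foldr_add hK _ fun d hd => by
    obtain ⟨k, -, rfl⟩ := List.mem_map.1 hd
    exact hK.mullt _ _).2, List.map_map] at e
  simp only [Matrix.mul_apply, transpose_apply, map_apply, codeMat, of_apply, Fin.sum_univ_three, Fin.val_zero,
    Fin.val_one, Fin.val_two]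
  rw [R.conj_val hF _ (h 0 (by norm_num) j j.isLt).1, R.conj_val hF _ (h 1 (by norm_num) j j.isLt).1,
    R.conj_val hF _ (h 2 (by norm_num) j j.isLt).1, ← hK.hmul _ _ (h 0 (by norm_num) i i.isLt).1 (hK.mullt _ _),
    ← hK.hmul _ _ (h 1 (by norm_num) i i.isLt).1 (hK.mullt _ _),
    ← hK.hmul _ _ (h 2 (by norm_num) i i.isLt).1 (hK.mullt _ _)]
  simp only [List.range_succ, List.range_zero, List.nil_append, List.cons_append, List.map_cons, List.map_nil,
    List.sum_cons, List.sum_nil, Function.comp_apply, add_zero] at e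
  rw [Matrix.one_apply, add_assoc, e]
  by_cases hij : i = j
  · rw [if_pos hij, if_pos (congrArg Fin.val hij)]; exact hK.one
  · rw [if_neg hij, if_neg (fun h => hij (Fin.ext h))]; exact hK.zero

omit hF

/-- The first generator of `SU 3`. -/
def genU (hF : Fintype.card F = 4) : SU 3 F 2 :=
  suOf U (codeMat R 3 (mats3.getD 0 []))
    (by
      have h2 := two_eq_zero hF
      rw [det_fin_three]
      simp [codeMat, mats3, val]
      linear_combination (R.z - 1) * R.hz - h2)
    (R.orth hF (by decide +kernel))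

/-- The second generator of `SU 3`. -/
def genV (hF : Fintype.card F = 4) : SU 3 F 2 :=
  suOf U (codeMat R 3 (mats3.getD 1 []))
    (by
      have h2 := two_eq_zero hF
      rw [det_fin_three]
      simp [codeMat, mats3, val]
      linear_combination R.z * R.hz + (R.z - 1) * h2)
    (R.orth hF (by decide +kernel))

end CfsgLib.Presentations.SUPres.Two
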