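/-
`SU 3` over four elements: two generators and two relations.
-/
import Cfsg.Agent.Lib.Presentations.SUPres.TwoField
import Cfsg.Agent.Lib.Presentations.SUPres.Cert
import Cfsg.Agent.Lib.Presentations.Bounded
import Cfsg.Agent.Lib.Classical.HermOrder

set_option autoImplicit false
set_option maxRecDepth 100000

namespace CfsgLib.Presentations.SUPres.Two

open Matrix Cfsg CfsgLib.Chev.CT.Phan Equiv Equiv.Perm CfsgLib.CosetCert

/-- The action on vectors. -/
local notation "vAct" => CfsgLib.Chev.CT.Phan.act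

universe u

theorem repColA : (List.range 216).all (fun i => (List.range 3).all fun j =>
    Nat.beq ((dataA.rep i).foldl (fun v g => oplA g v) (K4.bas 3 j)) (colcA i j)) = true := by decide +kernel

/-- Letters and their formal inverses. -/
def sgn {M : Type*} [Group M] (n : ℕ) (b : ℕ → M) (g : ℕ) : M := if g < n then b g else (b (g % n))⁻¹

theorem map_sgn {M M' : Type*} [Group M] [Group M'] (f : M →* M') (n : ℕ) (b : ℕ → M) :
    f ∘ sgn n b = sgn n (f ∘ b) := funext fun g => by
  simp only [Function.comp_apply, sgn]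
  split_ifs
  exacts [rfl, map_inv f _]

theorem sgn_iv {M : Type*} [Group M] {n : ℕ} (b : ℕ → M) {g : ℕ} (hg : g < 2 * n) :
    sgn n b ((g + n) % (2 * n)) = (sgn n b g)⁻¹ := by
  by_cases h : g < n
  · rw [Nat.mod_eq_of_lt (by omega), sgn, sgn, if_neg (by omega), if_pos h, Nat.add_mod_right, Nat.mod_eq_of_lt h]
  · rw [show (g + n) % (2 * n) = g - n by
      rw [show g + n = (g - n) + 2 * n by omega, Nat.add_mod_right, Nat.mod_eq_of_lt (by omega)],
      sgn, sgn, if_neg h, if_pos (by omega), inv_inv,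
      show g % n = g - n by rw [Nat.mod_eq_sub_mod (by omega), Nat.mod_eq_of_lt (by omega)]]

variable {F : Type u} [Field F] [Fintype F] {U : UF F 2} (hF : Fintype.card F = 4) (R : Root U)

section Act

variable {n : ℕ}
include hF

theorem eq_one_of_bas (X : SU n F 2)
    (h : ∀ j, j < n → vAct X (K4.dec (val R.z) n (K4.bas n j)) = K4.dec (val R.z) n (K4.bas n j)) : X = 1 :=
  su_ext fun j hj => by rw [act_one, ← Code.dec_bas (R.code_ok hF) n j]; exact h j hj

omit hF in
theorem pow_act (X : SU n F 2) (M : List (List ℕ))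
    (h : ∀ v, vAct X (K4.dec (val R.z) n v) = K4.dec (val R.z) n (K4.op n M v)) (k : ℕ) :
    ∀ v, vAct (X ^ k) (K4.dec (val R.z) n v) =
      K4.dec (val R.z) n (Nat.rec v (fun _ x => K4.op n M x) k) := by
  induction k with
  | zero => intro v; rw [pow_zero, act_one]; rfl
  | succ k ih => intro v; rw [pow_succ', act_mul, ih, h]

omit hF in
theorem word_act (gen : ℕ → SU n F 2) (opl : ℕ → ℕ → ℕ)
    (h : ∀ g v, vAct (gen g) (K4.dec (val R.z) n v) = K4.dec (val R.z) n (opl g v)) :
    ∀ (w : List ℕ) (v : ℕ), vAct (CosetCert.act gen w) (K4.dec (val R.z) n v) =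
      K4.dec (val R.z) n (w.foldl (fun x g => opl g x) v)
  | [], v => by simp
  | g :: w, v => by rw [act_cons, act_mul, h, word_act gen opl h w, List.foldl_cons]

/-- A power that undoes a matrix is the inverse. -/
theorem inv_eq_pow (X : SU n F 2) (k : ℕ)
    (h : ∀ j, j < n → vAct (X ^ k * X) (K4.dec (val R.z) n (K4.bas n j)) = K4.dec (val R.z) n (K4.bas n j)) :
    X⁻¹ = X ^ k :=
  (eq_inv_of_mul_eq_one_left (eq_one_of_bas hF R _ h)).symm

end Act

/-- The two generators. -/
def baseA : ℕ → SU 3 F 2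
  | 0 => genU R hF
  | _ => genV R hF

include hF

theorem baseA_act (g : ℕ) (hg : g < 2) (v : ℕ) :
    vAct (baseA hF R g) (K4.dec (val R.z) 3 v) = K4.dec (val R.z) 3 (K4.op 3 (mats3.getD g []) v) := by
  refine Code.act_op (R.code_ok hF) _ _ (fun i j => ⟨?_, ?_⟩) v
  · interval_cases g <;> fin_cases i <;> fin_cases j <;> decide
  · interval_cases g <;> rfl

theorem letterA_act (g v : ℕ) :
    vAct (sgn 2 (baseA hF R) g) (K4.dec (val R.z) 3 v) = K4.dec (val R.z) 3 (oplA g v) := by
  have hm : g % 2 < 2 := Nat.mod_lt _ (by norm_num)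
  have hk := pow_act R _ _ (baseA_act hF R _ hm)
  rw [oplA, ← hk, expoA, sgn]
  split_ifs with h
  · rw [pow_one, Nat.mod_eq_of_lt h]
  · have e : ∀ j, j < 3 → vAct (baseA hF R (g % 2) ^ 11 * baseA hF R (g % 2)) (K4.dec (val R.z) 3 (K4.bas 3 j)) =
        K4.dec (val R.z) 3 (K4.bas 3 j) := by
      intro j hj
      have := ordA
      simp only [List.all_eq_true, List.mem_range, Nat.beq_eq] at this
      rw [act_mul, baseA_act hF R _ hm, hk]
      have e' := this _ hm j hj
      simp only [oplA, expoA, if_pos hm, if_neg (show ¬(g % 2 + 2 < 2) by omega), Nat.add_mod_right, Nat.mod_mod] at e'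
      exact congrArg _ e'
    rw [inv_eq_pow hF R _ 11 e]

theorem wordA_act (w : List ℕ) (v : ℕ) :
    vAct (CosetCert.act (sgn 2 (baseA hF R)) w) (K4.dec (val R.z) 3 v) =
      K4.dec (val R.z) 3 (w.foldl (fun x g => oplA g x) v) :=
  word_act R _ _ (letterA_act hF R) w v

theorem relA_one {w : List ℕ} (hw : w ∈ relA) : CosetCert.act (sgn 2 (baseA hF R)) w = 1 := by
  refine eq_one_of_bas hF R _ fun j hj => ?_
  have := List.all_eq_true.1 relsA w hw
  simp only [List.all_eq_true, List.mem_range, Nat.beq_eq] at this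
  rw [wordA_act hF R, this j hj]

omit [Field F] [Fintype F] hF in
theorem colcA_lt (i j : ℕ) : colcA i j < 4 ^ 3 := Nat.mod_lt _ (by norm_num)

theorem elA_col {i j : ℕ} (hi : i < 216) (hj : j < 3) :
    vAct (CosetCert.act (sgn 2 (baseA hF R)) (dataA.rep i)) (K4.dec (val R.z) 3 (K4.bas 3 j)) =
      K4.dec (val R.z) 3 (colcA i j) := by
  have := repColA
  simp only [List.all_eq_true, List.mem_range, Nat.beq_eq] at this
  rw [wordA_act hF R, this i hi j hj]

theorem closureA : Subgroup.closure ({genU R hF, genV R hF} : Set (SU 3 F 2)) = ⊤ := by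
  classical
  set H := Subgroup.closure ({genU R hF, genV R hF} : Set (SU 3 F 2))
  have hb : ∀ g, g < 2 → baseA hF R g ∈ H := fun g hg => by
    interval_cases g
    exacts [Subgroup.subset_closure (Or.inl rfl), Subgroup.subset_closure (Or.inr rfl)]
  have hmem : ∀ w, CosetCert.act (sgn 2 (baseA hF R)) w ∈ H := fun w => act_mem _ _ w fun g _ => by
    rw [sgn]
    split_ifs with h
    exacts [hb g h, inv_mem (hb _ (Nat.mod_lt _ (by norm_num)))]
  let el : Fin 216 → H := fun i => ⟨_, hmem (dataA.rep i)⟩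
  have hinj : Function.Injective el := by
    intro i k e
    by_contra hne
    have hd := distinctA
    simp only [List.all_eq_true, List.mem_range, Bool.not_eq_true'] at hd
    have same : ∀ a b : Fin 216, el a = el b → (b : ℕ) < a → False := by
      intro a b e h
      refine Bool.false_ne_true ((hd a a.isLt b h).symm.trans ?_)
      simp only [List.all_eq_true, List.mem_range, Nat.beq_eq]
      intro j hj
      refine Code.dec_inj (R.code_ok hF) (colcA_lt _ _) (colcA_lt _ _) ?_
      rw [← elA_col hF R a.isLt hj, ← elA_col hF R b.isLt hj, show CosetCert.act (sgn 2 (baseA hF R))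
        (dataA.rep a) = CosetCert.act (sgn 2 (baseA hF R)) (dataA.rep b) from congrArg Subtype.val e]
    rcases lt_or_gt_of_ne (fun h => hne (Fin.ext h)) with h | h
    exacts [same k i e.symm h, same i k e h]
  have hle := Nat.card_le_card_of_injective el hinj
  have hc := Classical.card_su (F := F) (q := 2) (n := 3) (by rw [hF]; norm_num) (by norm_num)
  have hu : Classical.unitaryOrder 2 3 = 648 := by decide
  rw [hu] at hc
  rw [Nat.card_fin] at hle
  exact Subgroup.eq_top_of_le_card _ (by omega)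

/-- Two generators and two relations define `SU 3` over four elements. -/
theorem boundedOn3 (R : Root U) : BoundedOn (SU 3 F 2) (Fin 2) 2 := by
  let bf : ℕ → FreeGroup (Fin 2) := fun g => FreeGroup.of (Fin.ofNat 2 g)
  let g2 : Fin 2 → SU 3 F 2 := fun i => baseA hF R i
  have hT : ∀ g, FreeGroup.lift g2 (bf g) = baseA hF R (g % 2) := fun g => by simp [bf, g2]
  have hlift : ∀ {Γ : Type u} [Group Γ] (f : Fin 2 → Γ) (b : ℕ → Γ), (∀ g, g < 2 → FreeGroup.lift f (bf g) = b g) →
      ∀ w, FreeGroup.lift f (CosetCert.act (sgn 2 bf) w) = CosetCert.act (sgn 2 b) w := by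
    intro Γ _ f b h w
    rw [map_act, map_sgn]
    refine act_congr _ _ w fun g _ => ?_
    simp only [sgn, Function.comp_apply]
    split_ifs with hg
    exacts [h g hg, congrArg _ (h _ (Nat.mod_lt _ (by norm_num)))]
  have hlift' : ∀ {Γ : Type} [Group Γ] (f : Fin 2 → Γ) (b : ℕ → Γ), (∀ g, g < 2 → FreeGroup.lift f (bf g) = b g) →
      ∀ w, FreeGroup.lift f (CosetCert.act (sgn 2 bf) w) = CosetCert.act (sgn 2 b) w := by
    intro Γ _ f b h w
    rw [map_act, map_sgn]
    refine act_congr _ _ w fun g _ => ?_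
    simp only [sgn, Function.comp_apply]
    split_ifs with hg
    exacts [h g hg, congrArg _ (h _ (Nat.mod_lt _ (by norm_num)))]
  have hrange : Subgroup.closure (Set.range g2) = ⊤ := by
    rw [← closureA hF R]
    congr 1
    ext x
    simp [g2, Fin.exists_fin_two, baseA, eq_comm]
  refine ⟨g2, relA.map (CosetCert.act (sgn 2 bf)), by simp [relA], ?_, hrange, fun Γ _ f hf => ?_⟩
  · intro r hr
    obtain ⟨w, hw, rfl⟩ := List.mem_map.1 hr
    rw [hlift g2 (baseA hF R) (fun g hg => by rw [hT, Nat.mod_eq_of_lt hg])]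
    exact relA_one hF R hw
  let bb : ℕ → SU 3 F 2 × Γ := fun g => (baseA hF R (g % 2), FreeGroup.lift f (bf g))
  have hfst : ∀ w, (CosetCert.act (sgn 2 bb) w).1 = CosetCert.act (sgn 2 (baseA hF R)) w := fun w => by
    refine (map_act (MonoidHom.fst (SU 3 F 2) Γ) _ w).trans ?_
    rw [map_sgn]
    refine act_congr _ _ w fun g _ => ?_
    simp only [sgn, bb, Function.comp_apply, MonoidHom.coe_fst, Nat.mod_mod]
    split_ifs with hg
    exacts [by rw [Nat.mod_eq_of_lt hg], rfl]
  have hsnd : ∀ w, (CosetCert.act (sgn 2 bb) w).2 = FreeGroup.lift f (CosetCert.act (sgn 2 bf) w) := fun w => by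
    refine (map_act (MonoidHom.snd (SU 3 F 2) Γ) _ w).trans ?_
    rw [map_sgn, hlift' f _ fun g _ => rfl]
    rfl
  have hrel : ∀ w ∈ dataA.rels, CosetCert.act (sgn 2 bb) w = 1 := fun w hw =>
    Prod.ext ((hfst w).trans (relA_one hF R hw)) ((hsnd w).trans (hf _ (List.mem_map.2 ⟨w, hw, rfl⟩)))
  let ac : SU 3 F 2 →* Perm (Fin 3 → Fin 3 → F) :=
    { toFun := fun X => ⟨fun c j => vAct X (c j), fun c j => vAct X⁻¹ (c j),
        fun c => funext fun j => act_inv_act X _, fun c => funext fun j => act_act_inv X _⟩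
      map_one' := Equiv.ext fun c => funext fun j => act_one _
      map_mul' := fun X Y => Equiv.ext fun c => funext fun j => act_mul X Y _ }
  have htriv := graph_trivial checkA (by norm_num) (sgn 2 bb) ⊥
    (fun g _ => Nat.mod_lt _ (by norm_num)) (fun g hg => sgn_iv bb (show g < 2 * 2 from hg)) hrel
    (fun w hw => absurd hw (List.not_mem_nil)) ac (fun i j => K4.dec (val R.z) 3 (colcA i (j : ℕ)))
    (fun i g hi hg => funext fun j => by
      have := stepA
      simp only [List.all_eq_true, List.mem_range, Nat.beq_eq] at this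
      show vAct (sgn 2 bb g).1 _ = _
      rw [show (sgn 2 bb g).1 = sgn 2 (baseA hF R) g by simpa [act_cons] using hfst [g],
        letterA_act hF R, this i hi g hg j j.isLt])
    (fun i hi e => by
      by_contra h
      have hd := distinctA
      simp only [List.all_eq_true, List.mem_range, Bool.not_eq_true'] at hd
      refine Bool.false_ne_true ((hd i hi 0 (by omega)).symm.trans ?_)
      simp only [List.all_eq_true, List.mem_range, Nat.beq_eq]
      intro j hj
      exact Code.dec_inj (R.code_ok hF) (colcA_lt _ _) (colcA_lt _ _) (congrFun e ⟨j, hj⟩))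
    (fun z hz _ => by simpa using hz)
  obtain ⟨Ψ, hΨ⟩ := hom_of_graph (Subgroup.closure (sgn 2 bb '' {g | g < dataA.ng})) htriv fun t => by
    have h : (⊤ : Subgroup (SU 3 F 2)) ≤
        (Subgroup.closure (sgn 2 bb '' {g | g < dataA.ng})).map (MonoidHom.fst _ _) := by
      rw [← hrange, Subgroup.closure_le]
      rintro _ ⟨i, rfl⟩
      refine ⟨sgn 2 bb i, Subgroup.subset_closure ⟨i, show (i : ℕ) < 4 by omega, rfl⟩, ?_⟩
      simp [sgn, bb, g2, i.isLt, Nat.mod_eq_of_lt i.isLt]
    obtain ⟨z, hz, e⟩ := h (Subgroup.mem_top t)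
    exact ⟨z, hz, e⟩
  refine ⟨Ψ, fun i => ?_⟩
  have := hΨ (sgn 2 bb i) (Subgroup.subset_closure ⟨i, show (i : ℕ) < 4 by omega, rfl⟩)
  simpa [sgn, bb, g2, i.isLt, Nat.mod_eq_of_lt i.isLt, bf] using this

end CfsgLib.Presentations.SUPres.Two
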