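/-
`SU 4` over four elements from `SU 3` and the symmetric group.
-/
import Cfsg.Agent.Lib.Presentations.SUPres.TwoThree
import Cfsg.Agent.Lib.Presentations.SUPres.Glue
import Mathlib.GroupTheory.Perm.Closure

set_option autoImplicit false
set_option maxRecDepth 100000

namespace CfsgLib.Presentations.SUPres.Two

open Matrix Cfsg CfsgLib.Chev.CT.Phan Equiv Equiv.Perm CfsgLib.CosetCert
open Carmichael

/-- The action on vectors. -/
local notation "vAct" => CfsgLib.Chev.CT.Phan.act

universe u v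

theorem repColB : (List.range 120).all (fun i =>
    Nat.beq ((dataB.rep i).foldl (fun v g => oplB g v) (K4.bas 4 3)) (colcB i)) = true := by decide +kernel

variable {F : Type u} [Field F] {N : ℕ}

theorem exists_perm {k : ℕ} (a b : Fin k → ℕ) (ha : Function.Injective a) (hb : Function.Injective b)
    (haN : ∀ i, a i < N) (hbN : ∀ i, b i < N) :
    ∃ σ : (⊤ : Subgroup (Perm (Fin N))), ∀ i, Moves (σ : Perm (Fin N)) (a i) (b i) := by
  obtain ⟨π, hπ⟩ := Equiv.Perm.exists_extending_pair (fun i => (⟨a i, haN i⟩ : Fin N))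
    (fun i => (⟨b i, hbN i⟩ : Fin N)) (fun i j h => ha (congrArg Fin.val h)) (fun i j h => hb (congrArg Fin.val h))
  exact ⟨⟨π, Subgroup.mem_top π⟩, fun i => ⟨haN i, hbN i, hπ i⟩⟩

theorem exists_shift_top (k d : ℕ) (hd : d + k ≤ N) :
    ∃ σ : (⊤ : Subgroup (Perm (Fin N))), ∀ i, i < k → Moves (σ : Perm (Fin N)) i (d + i) := by
  obtain ⟨σ, h⟩ := exists_perm (N := N) (fun i : Fin k => (i : ℕ)) (fun i => d + (i : ℕ)) Fin.val_injective
    (fun i j e => Fin.ext (by simpa using e)) (fun i => by omega) (fun i => by omega)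
  exact ⟨σ, fun i hi => h ⟨i, hi⟩⟩

/-- Gluing along the symmetric group, in characteristic two. -/
@[reducible] def topSetup (h2 : (2 : F) = 0) (hN : 4 ≤ N) : Setup F N where
  S := ⊤
  hS := top_sign h2
  hN := hN
  hc := Subgroup.mem_top _
  pair l hl := by
    obtain ⟨σ, h⟩ := exists_shift_top (N := N) 2 l hl
    exact ⟨σ, by simpa using h 0 (by norm_num), h 1 (by norm_num)⟩
  quad i j hij hj := by
    obtain ⟨σ, h⟩ := exists_perm (N := N) (fun x : Fin 4 => (x : ℕ)) ![i, i + 1, j, j + 1]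
      Fin.val_injective (fun a b e => by fin_cases a <;> fin_cases b <;> simp_all <;> omega)
      (fun x => by omega) (fun x => by fin_cases x <;> simp <;> omega)
    exact ⟨σ, h 0, h 1, h 2, h 3⟩
  triple _ l hl := exists_shift_top 3 l hl

/-- The transposition of the first two points. -/
def j4 : (⊤ : Subgroup (Perm (Fin 4))) := ⟨swap 0 1, Subgroup.mem_top _⟩

/-- The transposition of the last two points. -/
def s4 : (⊤ : Subgroup (Perm (Fin 4))) := ⟨swap 2 3, Subgroup.mem_top _⟩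

/-- The transposition of the first two coordinates in `SU 3`. -/
def J3 (h2 : (2 : F) = 0) : SU 3 F 2 :=
  pm ⊤ (top_sign h2) ⟨swap 0 1, Subgroup.mem_top _⟩

variable {U : UF F 2}

theorem emb_J3 (h2 : (2 : F) = 0) (hN : 4 ≤ N) (σ : (⊤ : Subgroup (Perm (Fin N))))
    (h0 : Moves (σ : Perm (Fin N)) 0 1) (h1 : Moves (σ : Perm (Fin N)) 1 0)
    (h : ∀ k, 2 ≤ k → k < N → Moves (σ : Perm (Fin N)) k k) :
    embSU 0 (le_trans (by norm_num) hN) U (J3 h2) = (topSetup h2 hN).p σ := by
  refine emb_pm U ⊤ (top_sign h2) σ _ (top_sign h2) _ _ (fun k => ?_) (fun k hk hkN => h k (by omega) hkN)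
  fin_cases k
  · simpa [swap_apply_def] using h0
  · simpa [swap_apply_def] using h1
  · simpa [swap_apply_def] using h 2 le_rfl (by omega)

theorem emb_J4 (h2 : (2 : F) = 0) :
    embSU 0 (by norm_num : 0 + 3 ≤ 4) U (J3 h2) = (topSetup (N := 4) h2 le_rfl).p j4 := by
  refine emb_J3 h2 le_rfl j4 ((moves_iff (by norm_num)).2 rfl) ((moves_iff (by norm_num)).2 rfl) fun k hk hk4 => ?_
  interval_cases k <;> exact (moves_iff (by norm_num)).2 rfl

/-- `S₄` is generated by the three-cycle and two transpositions. -/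
theorem top4 : Subgroup.closure ({⟨cycN (by norm_num : 3 ≤ 4), Subgroup.mem_top _⟩, j4, s4} :
    Set (⊤ : Subgroup (Perm (Fin 4)))) = ⊤ := by
  set K := Subgroup.closure ({⟨cycN (by norm_num : 3 ≤ 4), Subgroup.mem_top _⟩, j4, s4} :
    Set (⊤ : Subgroup (Perm (Fin 4))))
  have hc : (⟨cycN (by norm_num : 3 ≤ 4), Subgroup.mem_top _⟩ : (⊤ : Subgroup (Perm (Fin 4)))) ∈ K :=
    Subgroup.subset_closure (Or.inl rfl)
  have hj : j4 ∈ K := Subgroup.subset_closure (Or.inr (Or.inl rfl))
  have hs : s4 ∈ K := Subgroup.subset_closure (Or.inr (Or.inr rfl))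
  have hle : Submonoid.closure (Set.range fun i : Fin 3 => swap i.castSucc i.succ) ≤
      (K.map (⊤ : Subgroup (Perm (Fin 4))).subtype).toSubmonoid := by
    rw [Submonoid.closure_le]
    rintro _ ⟨i, rfl⟩
    fin_cases i
    · exact ⟨j4, hj, rfl⟩
    · exact ⟨_, mul_mem (mul_mem hc hj) (inv_mem hc), by decide⟩
    · exact ⟨s4, hs, rfl⟩
  rw [Equiv.Perm.mclosure_swap_castSucc_succ] at hle
  refine eq_top_iff.2 fun x _ => ?_
  obtain ⟨y, hy, e⟩ := hle (Submonoid.mem_top (x : Perm (Fin 4)))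
  rwa [Subtype.ext e] at hy

variable [Fintype F] (hF : Fintype.card F = 4) (R : Root U)

/-- The five letters in `SU 4`. -/
def baseB : ℕ → SU 4 F 2
  | 0 => embSU 0 (by norm_num) U (genU R hF)
  | 1 => embSU 0 (by norm_num) U (genV R hF)
  | 2 => (topSetup (N := 4) (two_eq_zero hF) le_rfl).p ⟨cycN (by norm_num), Subgroup.mem_top _⟩
  | 3 => (topSetup (N := 4) (two_eq_zero hF) le_rfl).p j4
  | _ => (topSetup (N := 4) (two_eq_zero hF) le_rfl).p s4

/-- The five letters in a target. -/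
def baseΓ {Γ : Type v} (α : SU 3 F 2 → Γ) (β : (⊤ : Subgroup (Perm (Fin 4))) → Γ) : ℕ → Γ
  | 0 => α (genU R hF)
  | 1 => α (genV R hF)
  | 2 => β ⟨cycN (by norm_num), Subgroup.mem_top _⟩
  | 3 => β j4
  | _ => β s4

/-- The three further relations. -/
def extra : List (FreeGroup (SU 3 F 2 ⊕ (⊤ : Subgroup (Perm (Fin 4))))) :=
  relX.map (CosetCert.act (sgn 5 (baseΓ hF R (fun x => FreeGroup.of (Sum.inl x)) fun x => FreeGroup.of (Sum.inr x))))

theorem lift_extra {Γ : Type v} [Group Γ] (α : SU 3 F 2 → Γ) (β : (⊤ : Subgroup (Perm (Fin 4))) → Γ) :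
    (∀ e ∈ extra hF R, FreeGroup.lift (Sum.elim α β) e = 1) ↔
      ∀ w ∈ relX, CosetCert.act (sgn 5 (baseΓ hF R α β)) w = 1 := by
  have e : ∀ w, FreeGroup.lift (Sum.elim α β)
      (CosetCert.act (sgn 5 (baseΓ hF R (fun x => FreeGroup.of (Sum.inl x)) fun x => FreeGroup.of (Sum.inr x))) w) =
      CosetCert.act (sgn 5 (baseΓ hF R α β)) w := fun w => by
    rw [map_act, map_sgn]
    congr 2
    funext g
    rcases g with _ | _ | _ | _ | g <;> simp [baseΓ]
  simp only [extra, List.mem_map, forall_exists_index, and_imp, forall_apply_eq_imp_iff₂, e]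

include hF

theorem baseB_act (g : ℕ) (hg : g < 5) (v : ℕ) :
    vAct (baseB hF R g) (K4.dec (val R.z) 4 v) = K4.dec (val R.z) 4 (K4.op 4 (mats4.getD g []) v) := by
  refine Code.act_op (R.code_ok hF) _ _ (fun r s => ⟨?_, ?_⟩) v
  · interval_cases g <;> fin_cases r <;> fin_cases s <;> decide
  have e : ∀ X : SU 4 F 2, X.1.1 r s = vAct X (ev F 4 (s : ℕ)) r := fun X => by
    rw [ev_fin]; unfold CfsgLib.Chev.CT.Phan.act; simp
  interval_cases g
  iterate 2
    fin_cases r <;> fin_cases s <;>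
      simp [baseB, embSU, embMat, winEquiv, genU, genV, suOf, codeMat, mats3, mats4, val]
  all_goals
    rw [e]
    simp only [baseB]
    rw [act_pm]
    fin_cases r <;> fin_cases s <;> simp [ev, mats4, val, cycN, cyc, j4, s4, swap_apply_def]

theorem letterB_act (g v : ℕ) :
    vAct (sgn 5 (baseB hF R) g) (K4.dec (val R.z) 4 v) = K4.dec (val R.z) 4 (oplB g v) := by
  have hm : g % 5 < 5 := Nat.mod_lt _ (by norm_num)
  have hk := pow_act R _ _ (baseB_act hF R _ hm)
  rw [oplB, ← hk, sgn]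
  split_ifs with h
  · rw [expoB, if_pos h, pow_one, Nat.mod_eq_of_lt h]
  · have e : ∀ k, k = [11, 11, 2, 1, 1].getD (g % 5) 1 → ∀ j, j < 4 →
        vAct (baseB hF R (g % 5) ^ k * baseB hF R (g % 5)) (K4.dec (val R.z) 4 (K4.bas 4 j)) =
          K4.dec (val R.z) 4 (K4.bas 4 j) := by
      intro k hk' j hj
      have := ordB
      simp only [List.all_eq_true, List.mem_range, Nat.beq_eq] at this
      rw [act_mul, baseB_act hF R _ hm, hk]
      have e' := this _ hm j hj
      simp only [oplB, expoB, if_pos hm, if_neg (show ¬(g % 5 + 5 < 5) by omega), Nat.add_mod_right, Nat.mod_mod] at e'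
      rw [hk']
      exact congrArg _ e'
    rw [expoB, if_neg h, inv_eq_pow hF R _ _ (e _ rfl)]

theorem wordB_act (w : List ℕ) (v : ℕ) :
    vAct (CosetCert.act (sgn 5 (baseB hF R)) w) (K4.dec (val R.z) 4 v) =
      K4.dec (val R.z) 4 (w.foldl (fun x g => oplB g x) v) :=
  word_act R _ _ (letterB_act hF R) w v

theorem relB_one {w : List ℕ} (hw : w ∈ relX ++ relP ++ relH) : CosetCert.act (sgn 5 (baseB hF R)) w = 1 := by
  refine eq_one_of_bas hF R _ fun j hj => ?_
  have := List.all_eq_true.1 relsB w hw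
  simp only [List.all_eq_true, List.mem_range, Nat.beq_eq] at this
  rw [wordB_act hF R, this j hj]

theorem unit_code {v : Fin 4 → F} (hv : hf 2 v v = 1) :
    ∃ i, i < 120 ∧ K4.dec (val R.z) 4 (colcB i) = v := by
  have hK := R.code_ok hF
  choose c hc ec using fun j => R.val_surj hF (v j)
  set n := K4.enc (List.ofFn c) with hn
  have hlt : ∀ d ∈ List.ofFn c, d < K4.Q := fun d hd => by
    obtain ⟨j, rfl⟩ := List.mem_ofFn.1 hd
    exact hc j
  have hdig : ∀ j : Fin 4, K4.dig n (j : ℕ) = c j := fun j => by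
    rw [hn, Code.dig_enc hK.pos _ _ hlt, List.getD_eq_getElem _ _ (by simp), List.getElem_ofFn]
  have hn256 : n < 256 := (Code.enc_lt hK.pos _ hlt).trans_eq (by simp)
  have hnorm : ((List.range 4).map fun i => K4.mul (K4.dig n i) (K4.mul (K4.dig n i) (K4.dig n i))).foldr K4.add 0 = 2 := by
    refine hK.inj _ _ (Code.foldr_add hK _ fun d hd => ?_).1 (by norm_num) ?_
    · obtain ⟨j, -, rfl⟩ := List.mem_map.1 hd
      exact hK.mullt _ _
    rw [(Code.foldr_add hK _ fun d hd => by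
      obtain ⟨j, -, rfl⟩ := List.mem_map.1 hd
      exact hK.mullt _ _).2, List.map_map, show val R.z 2 = 1 from hK.one, ← hv, U.hf_eq]
    rw [show List.range 4 = List.ofFn (fun j : Fin 4 => (j : ℕ)) from by decide, List.map_ofFn, List.sum_ofFn]
    refine Finset.sum_congr rfl fun j _ => ?_
    simp only [Function.comp_apply, hdig]
    rw [hK.hmul _ _ (hc j) (hK.mullt _ _), ← R.conj_val hF _ (hc j), ec]
  have h := normsB
  simp only [List.all_eq_true, List.mem_range, Bool.or_eq_true, Bool.not_eq_true', List.any_eq_true,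
    Nat.beq_eq] at h
  rcases h n hn256 with h | ⟨i, hi, e⟩
  · rw [hnorm] at h
    simp at h
  · refine ⟨i, hi, funext fun j => ?_⟩
    rw [e]
    show val R.z (K4.dig n (j : ℕ)) = v j
    rw [hdig, ec]

/-- The two subgroups generate `SU 4`. -/
theorem gen_top4 (R : Root U) : (embSU 0 (by norm_num : 0 + 3 ≤ 4) U : SU 3 F 2 →* SU 4 F 2).range ⊔
    (topSetup (N := 4) (two_eq_zero hF) le_rfl).p.range = ⊤ := by
  set H := (embSU 0 (by norm_num : 0 + 3 ≤ 4) U : SU 3 F 2 →* SU 4 F 2).range ⊔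
    (topSetup (N := 4) (two_eq_zero hF) le_rfl).p.range
  have hb : ∀ g, g < 5 → baseB hF R g ∈ H := fun g hg => by
    interval_cases g
    exacts [Subgroup.mem_sup_left ⟨_, rfl⟩, Subgroup.mem_sup_left ⟨_, rfl⟩, Subgroup.mem_sup_right ⟨_, rfl⟩,
      Subgroup.mem_sup_right ⟨_, rfl⟩, Subgroup.mem_sup_right ⟨_, rfl⟩]
  have hmem : ∀ w, CosetCert.act (sgn 5 (baseB hF R)) w ∈ H := fun w => act_mem _ _ w fun g _ => by
    rw [sgn]
    split_ifs with h
    exacts [hb g h, inv_mem (hb _ (Nat.mod_lt _ (by norm_num)))]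
  refine eq_top_iff.2 fun g _ => ?_
  obtain ⟨i, hi, e⟩ := unit_code hF R (v := vAct g (ev F 4 3)) (by
    rw [show hf 2 (vAct g (ev F 4 3)) (vAct g (ev F 4 3)) = hf 2 (ev F 4 3) (ev F 4 3) from g.2 _ _]
    rw [U.hf_eq]
    simp [ev, Fin.sum_univ_four])
  set X := CosetCert.act (sgn 5 (baseB hF R)) (dataB.rep i)
  have hX : vAct X (ev F 4 3) = vAct g (ev F 4 3) := by
    have := repColB
    simp only [List.all_eq_true, List.mem_range, Nat.beq_eq] at this
    rw [← Code.dec_bas (R.code_ok hF) 4 3, wordB_act hF R, this i hi, e, Code.dec_bas (R.code_ok hF) 4 3]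
  have hfb : X⁻¹ * g ∈ FB F 2 4 0 (0 + 3) := fun k hk hk' => by
    obtain rfl : k = 3 := by omega
    rw [CfsgLib.Chev.CT.Phan.act_mul, ← hX, act_inv_act]
  have : X⁻¹ * g ∈ H := Subgroup.mem_sup_left (mem_range_embSU 0 (by norm_num) U hfb)
  have := mul_mem (hmem (dataB.rep i)) this
  rwa [mul_inv_cancel_left] at this

omit [Fintype F] hF in
theorem p4_injective (h2 : (2 : F) = 0) :
    Function.Injective ((topSetup (N := 4) h2 le_rfl).p : _ →* SU 4 F 2) := by
  intro σ τ h
  refine Subtype.ext (Equiv.ext fun x => ?_)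
  have := congrFun (congrArg (fun X => vAct X (ev F 4 (x : ℕ))) h) ((σ : Perm (Fin 4)) x)
  simp only [act_pm] at this
  by_contra hne
  simp [ev, Fin.val_inj] at this
  exact hne ((Equiv.symm_apply_eq _).1 this)

/-- The relations make a homomorphism of `SU 4`. -/
theorem forced4 (R : Root U) {Γ : Type v} [Group Γ] {α : SU 3 F 2 →* Γ}
    {β : (⊤ : Subgroup (Perm (Fin 4))) →* Γ}
    (hc : α P3 = β ⟨cycN (by norm_num), Subgroup.mem_top _⟩) (hj : α (J3 (two_eq_zero hF)) = β j4)
    (hX : ∀ e ∈ extra hF R, FreeGroup.lift (Sum.elim α β) e = 1) :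
    ∃ Ψ : SU 4 F 2 →* Γ, Ψ.comp (embSU 0 (by norm_num) U) = α ∧
      Ψ.comp (topSetup (N := 4) (two_eq_zero hF) le_rfl).p = β := by
  classical
  have hK := R.code_ok hF
  rw [lift_extra] at hX
  let W : Setup F 4 := topSetup (two_eq_zero hF) le_rfl
  let bb : ℕ → SU 4 F 2 × Γ := fun g => (baseB hF R g, baseΓ hF R α β g)
  let fA : SU 3 F 2 →* SU 4 F 2 × Γ := (embSU 0 (by norm_num) U).prod α
  let fB : W.S →* SU 4 F 2 × Γ := W.p.prod β
  have hfst : ∀ w, (CosetCert.act (sgn 5 bb) w).1 = CosetCert.act (sgn 5 (baseB hF R)) w := fun w =>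
    (map_act (MonoidHom.fst (SU 4 F 2) Γ) _ w).trans (by rw [map_sgn]; rfl)
  have hsnd : ∀ w, (CosetCert.act (sgn 5 bb) w).2 = CosetCert.act (sgn 5 (baseΓ hF R α β)) w := fun w =>
    (map_act (MonoidHom.snd (SU 4 F 2) Γ) _ w).trans (by rw [map_sgn]; rfl)
  have hA1 : ∀ z ∈ fA.range, z.1 = 1 → z = 1 := by
    rintro _ ⟨x, rfl⟩ h
    have hx : x = 1 := embSU_injective 0 _ U (h.trans (map_one _).symm)
    rw [hx, map_one]
  have hB1 : ∀ z ∈ fB.range, z.1 = 1 → z = 1 := by
    rintro _ ⟨x, rfl⟩ h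
    have hx : x = 1 := p4_injective _ (h.trans (map_one _).symm)
    rw [hx, map_one]
  have b2 : bb 2 = fA P3 := Prod.ext (W.emb_P3 U).symm hc.symm
  have b3 : bb 3 = fA (J3 (two_eq_zero hF)) := Prod.ext (emb_J4 (two_eq_zero hF)).symm hj.symm
  have memA : ∀ g, g % 5 ≠ 4 → sgn 5 bb g ∈ fA.range := by
    intro g hg
    have key : ∀ k, k < 4 → bb k ∈ fA.range := fun k hk => by
      interval_cases k
      · exact ⟨genU R hF, rfl⟩
      · exact ⟨genV R hF, rfl⟩
      · rw [b2]; exact ⟨P3, rfl⟩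
      · rw [b3]; exact ⟨_, rfl⟩
    rw [sgn]
    split_ifs with h
    · exact key g (by omega)
    · exact inv_mem (key _ (by omega))
  have memB : ∀ g, 2 ≤ g % 5 → sgn 5 bb g ∈ fB.range := by
    intro g hg
    have key : ∀ k, 2 ≤ k → k < 5 → bb k ∈ fB.range := fun k hk hk' => by
      interval_cases k <;> exact ⟨_, rfl⟩
    rw [sgn]
    split_ifs with h
    · exact key g (by omega) h
    · exact inv_mem (key _ hg (Nat.mod_lt _ (by norm_num)))
  have hclassP : relP.all (fun w => w.all fun g => Nat.ble 2 (g % 5)) = true := by decide +kernel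
  have hclassH : relH.all (fun w => w.all fun g => !Nat.beq (g % 5) 4) = true := by decide +kernel
  have hrel : ∀ w ∈ dataB.rels, CosetCert.act (sgn 5 bb) w = 1 := by
    intro w hw
    have h1 : (CosetCert.act (sgn 5 bb) w).1 = 1 := (hfst w).trans (relB_one hF R hw)
    rcases List.mem_append.1 hw with hw | hw
    · rcases List.mem_append.1 hw with hw | hw
      · exact Prod.ext h1 ((hsnd w).trans (hX w hw))
      · exact hB1 _ (act_mem _ _ w fun g hg => memB g (by
          simpa using List.all_eq_true.1 (List.all_eq_true.1 hclassP w hw) g hg)) h1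
    · exact hA1 _ (act_mem _ _ w fun g hg => memA g fun e => by
        have := List.all_eq_true.1 (List.all_eq_true.1 hclassH w hw) g hg
        rw [e] at this
        exact absurd this (by decide)) h1
  let ac : SU 4 F 2 →* Perm (Fin 4 → F) :=
    { toFun := fun X => ⟨vAct X, vAct X⁻¹, act_inv_act X, act_act_inv X⟩
      map_one' := Equiv.ext fun v => act_one v
      map_mul' := fun X Y => Equiv.ext fun v => CfsgLib.Chev.CT.Phan.act_mul X Y v }
  have hstep : ∀ i g, i < 120 → g < 10 → ac (sgn 5 bb g).1 (K4.dec (val R.z) 4 (colcB i)) =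
      K4.dec (val R.z) 4 (colcB (dataB.tbl i g)) := by
    intro i g hi hg
    have := stepB
    simp only [List.all_eq_true, List.mem_range, Nat.beq_eq] at this
    show vAct (sgn 5 bb g).1 _ = _
    rw [show (sgn 5 bb g).1 = sgn 5 (baseB hF R) g by simpa [act_cons] using hfst [g],
      letterB_act hF R, this i hi g hg]
  have hcol : ∀ i, i < 120 → K4.dec (val R.z) 4 (colcB i) = K4.dec (val R.z) 4 (colcB 0) → i = 0 := by
    intro i hi e
    have h := colB_ok
    simp only [List.all_eq_true, List.mem_range, Bool.and_eq_true, Bool.or_eq_true, Bool.not_eq_true',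
      Nat.blt_eq, Nat.ble_eq] at h
    have := Code.dec_inj (R.code_ok hF) (h i hi).1 (h 0 (by norm_num)).1 e
    rcases (h i hi).2 with h' | h'
    · omega
    · rw [this] at h'; simp at h'
  have htriv := graph_trivial checkB (by norm_num) (sgn 5 bb) fA.range
    (fun g _ => Nat.mod_lt _ (by norm_num)) (fun g hg => sgn_iv bb (show g < 2 * 5 from hg)) hrel
    (fun w hw => act_mem _ _ w fun g hg => memA g (by
      have hw' : w = [0] ∨ w = [1] ∨ w = [2] ∨ w = [3] := by simpa using hw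
      rcases hw' with rfl | rfl | rfl | rfl <;> simp only [List.mem_singleton] at hg <;> omega))
    ac (fun i => K4.dec (val R.z) 4 (colcB i)) hstep hcol hA1
  set K : Subgroup (SU 4 F 2 × Γ) := Subgroup.closure (sgn 5 bb '' {g | g < dataB.ng}) with hKdef
  have hgK : ∀ g, g < 5 → bb g ∈ K := fun g hg => by
    have : sgn 5 bb g ∈ K := Subgroup.subset_closure ⟨g, show g < 10 by omega, rfl⟩
    simpa [sgn, hg] using this
  have hB : fB.range ≤ K := by
    rw [MonoidHom.range_eq_map, ← top4, MonoidHom.map_closure, Set.image_insert_eq, Set.image_pair,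
      Subgroup.closure_le]
    rintro z (rfl | rfl | rfl)
    exacts [hgK 2 (by norm_num), hgK 3 (by norm_num), hgK 4 (by norm_num)]
  have hA : fA.range ≤ K := by
    rw [MonoidHom.range_eq_map, ← closureA hF R, MonoidHom.map_closure, Set.image_pair, Subgroup.closure_le]
    rintro z (rfl | rfl)
    exacts [hgK 0 (by norm_num), hgK 1 (by norm_num)]
  obtain ⟨Ψ, hΨ⟩ := hom_of_graph K htriv fun t => by
    have h : (⊤ : Subgroup (SU 4 F 2)) ≤ K.map (MonoidHom.fst _ _) := by
      rw [← gen_top4 hF R, sup_le_iff]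
      exact ⟨fun _ ⟨x, hx⟩ => ⟨fA x, hA ⟨x, rfl⟩, hx⟩, fun _ ⟨x, hx⟩ => ⟨fB x, hB ⟨x, rfl⟩, hx⟩⟩
    obtain ⟨z, hz, e⟩ := h (Subgroup.mem_top t)
    exact ⟨z, hz, e⟩
  exact ⟨Ψ, MonoidHom.ext fun x => hΨ (fA x) (hA ⟨x, rfl⟩), MonoidHom.ext fun x => hΨ (fB x) (hB ⟨x, rfl⟩)⟩

theorem extra_self (R : Root U) : ∀ e ∈ extra hF R, FreeGroup.lift (Sum.elim
    (embSU 0 (by norm_num : 0 + 3 ≤ 4) U) (topSetup (N := 4) (two_eq_zero hF) le_rfl).p) e = 1 := by
  rw [lift_extra]
  intro w hw
  rw [← relB_one hF R (w := w) (by simp [hw])]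
  congr 2

/-- `SU 4` over four elements: two gluing relations and three more. -/
theorem su_four {κB : Type} {b : ℕ} (hB : BoundedOn (⊤ : Subgroup (Perm (Fin 4))) κB b) (R : Root U) :
    BoundedOn (SU 4 F 2) (Fin 2 ⊕ κB) (2 + b + 5) := by
  let W : Setup F 4 := topSetup (two_eq_zero hF) le_rfl
  let L (x : SU 3 F 2) (y : W.S) : FreeGroup (SU 3 F 2 ⊕ W.S) :=
    FreeGroup.of (Sum.inl x) * (FreeGroup.of (Sum.inr y))⁻¹
  let E : List (FreeGroup (SU 3 F 2 ⊕ W.S)) := L P3 W.c :: L (J3 (two_eq_zero hF)) j4 :: extra hF R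
  refine (BoundedOn.glue (embSU 0 (by norm_num) U) W.p (boundedOn3 hF R) hB (gen_top4 hF R) E ?_ ?_).mono
    (le_of_eq (by simp [E, extra, relX]))
  · intro e he
    simp only [E, List.mem_cons] at he
    rcases he with rfl | rfl | he
    · simp only [L, map_mul, map_inv, FreeGroup.lift_apply_of, Sum.elim_inl, Sum.elim_inr, mul_inv_eq_one]
      exact W.emb_P3 U
    · simp only [L, map_mul, map_inv, FreeGroup.lift_apply_of, Sum.elim_inl, Sum.elim_inr, mul_inv_eq_one]
      exact emb_J4 _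
    · exact extra_self hF R e he
  · intro Γ _ α β hh
    simp only [E, List.forall_mem_cons] at hh
    obtain ⟨hc, hj, hx⟩ := hh
    simp only [L, map_mul, map_inv, FreeGroup.lift_apply_of, Sum.elim_inl, Sum.elim_inr, mul_inv_eq_one] at hc hj
    exact forced4 hF R hc hj hx

end CfsgLib.Presentations.SUPres.Two
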