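/-
`SU N` over four elements.
-/
import Cfsg.Agent.Lib.Presentations.SUPres.TwoFour
import Cfsg.Agent.Lib.Presentations.SpTen
import Cfsg.Agent.Lib.Chev.CT.Phan.Two.Induct

set_option autoImplicit false
set_option maxRecDepth 100000

namespace CfsgLib.Presentations.SUPres.Two

open Matrix Cfsg CfsgLib.Chev.CT.Phan Equiv Equiv.Perm
open Carmichael
open SpPres (sym_two_generated)

/-- The action on vectors. -/
local notation "vAct" => CfsgLib.Chev.CT.Phan.act

universe u v

variable {N : ℕ}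

/-- Permutations of the first four points. -/
def ext4 (hN : 4 ≤ N) : (⊤ : Subgroup (Perm (Fin 4))) →* (⊤ : Subgroup (Perm (Fin N))) where
  toFun τ := ⟨(τ : Perm (Fin 4)).extendDomain (Fin.castLEquiv hN), Subgroup.mem_top _⟩
  map_one' := Subtype.ext (Equiv.Perm.extendDomain_one _)
  map_mul' τ τ' := Subtype.ext (Equiv.Perm.extendDomain_mul _ _ _).symm

theorem ext4_moves (hN : 4 ≤ N) (τ : (⊤ : Subgroup (Perm (Fin 4)))) :
    (∀ k : Fin 4, Moves (ext4 hN τ : Perm (Fin N)) k ((τ : Perm (Fin 4)) k : ℕ)) ∧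
      ∀ k, 4 ≤ k → k < N → Moves (ext4 hN τ : Perm (Fin N)) k k := by
  refine ⟨fun k => ⟨by omega, by omega, ?_⟩, fun k hk hkN => ⟨hkN, hkN, ?_⟩⟩
  · exact Equiv.Perm.extendDomain_apply_image _ (Fin.castLEquiv hN) k
  · exact Equiv.Perm.extendDomain_apply_not_subtype _ _ (by simp; omega)

theorem ext4_move_of (hN : 4 ≤ N) {τ : (⊤ : Subgroup (Perm (Fin 4)))} {k l : ℕ}
    (h : Moves (τ : Perm (Fin 4)) k l) : Moves (ext4 hN τ : Perm (Fin N)) k l := by
  obtain ⟨hk, hl, e⟩ := h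
  have := (ext4_moves hN τ).1 ⟨k, hk⟩
  rwa [e] at this

/-- A shift of the first `k` points. -/
noncomputable def nu {k d : ℕ} (h : d + k ≤ N) : (⊤ : Subgroup (Perm (Fin N))) :=
  (exists_shift_top k d h).choose

theorem nu_spec {k d : ℕ} (h : d + k ≤ N) {i : ℕ} (hi : i < k) :
    Moves (nu h : Perm (Fin N)) i (d + i) :=
  (exists_shift_top k d h).choose_spec i hi

/-- Two elements generate the stabiliser of the first three points. -/
theorem exists_top_fix3 (h5 : 5 ≤ N) : ∃ sa sb : (⊤ : Subgroup (Perm (Fin N))),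
    (∀ k, k < 3 → Moves (sa : Perm (Fin N)) k k) ∧ (∀ k, k < 3 → Moves (sb : Perm (Fin N)) k k) ∧
    ∀ σ : (⊤ : Subgroup (Perm (Fin N))), (∀ k, k < 3 → Moves (σ : Perm (Fin N)) k k) →
      σ ∈ Subgroup.closure ({sa, sb} : Set (⊤ : Subgroup (Perm (Fin N)))) := by
  classical
  let P : Fin N → Prop := fun x => 3 ≤ (x : ℕ)
  obtain ⟨a, b, hab⟩ := sym_two_generated (Subtype P) (Fintype.one_lt_card_iff.2
    ⟨⟨⟨3, by omega⟩, by simp [P]⟩, ⟨⟨4, by omega⟩, by simp [P]⟩, by simp⟩)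
  let ι : Perm (Subtype P) →* (⊤ : Subgroup (Perm (Fin N))) :=
    (Equiv.Perm.ofSubtype : Perm (Subtype P) →* Perm (Fin N)).codRestrict _ fun _ => Subgroup.mem_top _
  have hfix : ∀ (x : Perm (Subtype P)) k, k < 3 → Moves (ι x : Perm (Fin N)) k k := fun x k hk =>
    ⟨by omega, by omega, Equiv.Perm.ofSubtype_apply_of_not_mem _ (by simp [P]; omega)⟩
  refine ⟨ι a, ι b, hfix a, hfix b, fun σ hσ => ?_⟩
  have h0 : ∀ x : Fin N, ¬P x → (σ : Perm (Fin N)) x = x := fun x hx => by
    obtain ⟨_, _, e⟩ := hσ x (by simp [P] at hx; omega)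
    exact e
  have hP : ∀ x : Fin N, P ((σ : Perm (Fin N)) x) ↔ P x := fun x => by
    refine ⟨fun h => by_contra fun hx => hx (by rwa [h0 x hx] at h), fun h => by_contra fun hx => ?_⟩
    exact hx (by rw [(σ : Perm (Fin N)).injective (h0 _ hx)]; exact h)
  have e : ι ((σ : Perm (Fin N)).subtypePerm hP) = σ := Subtype.ext
    (Equiv.Perm.ofSubtype_subtypePerm hP fun x hx => by_contra fun h => hx (h0 x h))
  have hmem := congrArg (Subgroup.map ι) hab
  rw [MonoidHom.map_closure, Set.image_pair] at hmem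
  rw [hmem]
  exact ⟨_, trivial, e⟩

variable {F : Type u} [Field F] {U : UF F 2} (h2 : (2 : F) = 0) (h5 : 5 ≤ N)
  {Γ : Type v} [Group Γ] {α : SU 3 F 2 →* Γ} {β : (⊤ : Subgroup (Perm (Fin N))) →* Γ}

/-- Commutation with the generators gives commutation with all. -/
theorem comm_of_pair {A : Type*} [Group A] {a b : A} (hab : Subgroup.closure ({a, b} : Set A) = ⊤)
    (x : Γ) (g : A →* Γ) (ha : Commute x (g a)) (hb : Commute x (g b)) (y : A) : Commute x (g y) := by
  have hle : Subgroup.closure ({a, b} : Set A) ≤ (Subgroup.centralizer {x}).comap g := by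
    rw [Subgroup.closure_le]
    rintro z (rfl | rfl)
    · exact Subgroup.mem_centralizer_singleton_iff.2 ha.symm.eq
    · exact Subgroup.mem_centralizer_singleton_iff.2 hb.symm.eq
  exact (Commute.symm (Subgroup.mem_centralizer_singleton_iff.1 (hle (hab ▸ Subgroup.mem_top y))))

/-- Conjugation by the image of a permutation. -/
abbrev cjT (β : (⊤ : Subgroup (Perm (Fin N))) →* Γ) (σ : (⊤ : Subgroup (Perm (Fin N)))) : Γ →* Γ :=
  (MulAut.conj (β σ)).toMonoidHom

theorem cjT_mul (σ τ : (⊤ : Subgroup (Perm (Fin N)))) (x : Γ) : cjT β (σ * τ) x = cjT β σ (cjT β τ x) := by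
  simp [map_mul]

variable (U) in
/-- What the finitely many relations give directly. -/
structure Base (α : SU 3 F 2 →* Γ) (β : (⊤ : Subgroup (Perm (Fin N))) →* Γ) (f : SU 4 F 2 →* Γ) : Prop where
  hc : α P3 = β (topSetup h2 (le_trans (by norm_num) h5)).c
  hf : f.comp (embSU 0 (by norm_num) U) = α
  hf' : f.comp (topSetup (N := 4) h2 le_rfl).p = β.comp (ext4 (le_trans (by norm_num) h5))
  fix3 : ∀ σ : (⊤ : Subgroup (Perm (Fin N))), (∀ k, k < 3 → Moves (σ : Perm (Fin N)) k k) →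
    ∀ X, Commute (β σ) (α X)
  AV0 : ∀ A B, Commute (α (e0 U A)) (cjT β (nu (k := 3) (d := 2) h5) (α B))
  VV0 : ∀ h6 : 6 ≤ N, ∀ A B, Commute (α A) (cjT β (nu (k := 3) (d := 3) h6) (α B))

namespace Base

variable {h2 h5} {f : SU 4 F 2 →* Γ} (H : Base U h2 h5 α β f)
include H

theorem fix : ∀ σ : (⊤ : Subgroup (Perm (Fin N))), Moves (σ : Perm (Fin N)) 0 0 →
    Moves (σ : Perm (Fin N)) 1 1 → ∀ A, Commute (β σ) (α (e0 U A)) := by
  intro σ h0 h1 A
  set k : ℕ := (((σ : Perm (Fin N)) ⟨2, by omega⟩ : Fin N) : ℕ) with hk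
  have hm : Moves (σ : Perm (Fin N)) 2 k := ⟨by omega, Fin.isLt _, rfl⟩
  have hne : ∀ {i : ℕ}, Moves (σ : Perm (Fin N)) i i → i ≠ 2 → k ≠ i := fun {i} hi hne e => by
    obtain ⟨_, _, e1⟩ := hi
    obtain ⟨_, _, e2⟩ := hm
    refine hne ?_
    have := (σ : Perm (Fin N)).injective (e1.trans ((Fin.ext e).symm.trans e2.symm))
    simpa using congrArg Fin.val this
  by_cases h2k : k = 2
  · exact H.fix3 σ (fun i hi => by interval_cases i; exacts [h0, h1, h2k ▸ hm]) _
  have h3 : 3 ≤ k := by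
    have := hne h0 (by norm_num)
    have := hne h1 (by norm_num)
    omega
  obtain ⟨s, hs⟩ := exists_perm (N := N) (fun i : Fin 4 => (i : ℕ)) ![0, 1, 2, k]
    Fin.val_injective (fun a b e => by fin_cases a <;> fin_cases b <;> simp at e ⊢ <;> omega)
    (fun i => by omega) (fun i => by fin_cases i <;> simp <;> omega)
  have hs4 : Commute (β (ext4 (le_trans (by norm_num) h5) s4)) (α (e0 U A)) := by
    rw [← H.hf, show β (ext4 (le_trans (by norm_num) h5) s4) = f ((topSetup (N := 4) h2 le_rfl).p s4) from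
      (DFunLike.congr_fun H.hf' s4).symm, MonoidHom.comp_apply]
    exact Commute.map (((topSetup (N := 4) h2 le_rfl).self U).fix s4 ((moves_iff (by norm_num)).2 rfl)
      ((moves_iff (by norm_num)).2 rfl) A) f
  set t := ext4 (le_trans (by norm_num) h5) s4
  have ht0 : Moves (t : Perm (Fin N)) 0 0 := ext4_move_of _ ((moves_iff (by norm_num)).2 rfl)
  have ht1 : Moves (t : Perm (Fin N)) 1 1 := ext4_move_of _ ((moves_iff (by norm_num)).2 rfl)
  have ht2 : Moves (t : Perm (Fin N)) 2 3 := ext4_move_of _ ((moves_iff (by norm_num)).2 rfl)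
  have hsfix : ∀ i, i < 3 → Moves (s : Perm (Fin N)) i i := fun i hi => by
    interval_cases i
    exacts [hs 0, hs 1, hs 2]
  have hrest : ∀ i, i < 3 → Moves (((s * t)⁻¹ * σ : (⊤ : Subgroup (Perm (Fin N)))) : Perm (Fin N)) i i := by
    intro i hi
    interval_cases i
    · exact ((hsfix 0 (by norm_num)).mul ht0).inv.mul h0
    · exact ((hsfix 1 (by norm_num)).mul ht1).inv.mul h1
    · exact ((show Moves (s : Perm (Fin N)) 3 k from hs 3).mul ht2).inv.mul hm
  rw [show σ = s * t * ((s * t)⁻¹ * σ) from (mul_inv_cancel_left _ _).symm, map_mul, map_mul]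
  exact ((H.fix3 s hsfix _).mul_left hs4).mul_left (H.fix3 _ hrest _)

theorem amal : Amal U (topSetup h2 (le_trans (by norm_num) h5)) α β := by
  refine ⟨H.hc, H.fix, fun π h0 h1 A B => ?_⟩
  let π4 : (⊤ : Subgroup (Perm (Fin 4))) := ⟨swap 0 2 * swap 1 3, Subgroup.mem_top _⟩
  have p0 : Moves (π4 : Perm (Fin 4)) 0 2 := (moves_iff (by norm_num)).2 rfl
  have p1 : Moves (π4 : Perm (Fin 4)) 1 3 := (moves_iff (by norm_num)).2 rfl
  set π' := ext4 (le_trans (by norm_num) h5) π4 with hπ'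
  have hs := H.fix (π'⁻¹ * π) ((ext4_move_of _ p0).inv.mul h0) ((ext4_move_of _ p1).inv.mul h1) B
  have e : β π * α (e0 U B) * (β π)⁻¹ = β π' * α (e0 U B) * (β π')⁻¹ := by
    conv_lhs => rw [← mul_inv_cancel_left π' π]
    rw [map_mul, show β π' * β (π'⁻¹ * π) * α (e0 U B) * (β π' * β (π'⁻¹ * π))⁻¹ =
      β π' * (β (π'⁻¹ * π) * α (e0 U B) * (β (π'⁻¹ * π))⁻¹) * (β π')⁻¹ by group, hs.eq,
      mul_inv_cancel_right]
  rw [e, ← H.hf, show β π' = f ((topSetup (N := 4) h2 le_rfl).p π4) from (DFunLike.congr_fun H.hf' π4).symm,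
    MonoidHom.comp_apply, MonoidHom.comp_apply, ← map_inv, ← map_mul, ← map_mul]
  exact Commute.map (((topSetup (N := 4) h2 le_rfl).self U).far π4 p0 p1 A B) f

theorem ψ_eq {l : ℕ} (hl : l + 3 ≤ N) (σ : (⊤ : Subgroup (Perm (Fin N))))
    (hσ : ∀ k, k < 3 → Moves (σ : Perm (Fin N)) k (l + k)) (X : SU 3 F 2) :
    (H.amal.dat h5).ψ l X = cjT β σ (α X) := by
  set W : Setup F N := topSetup h2 (le_trans (by norm_num) h5)
  have e : cjT β ((W.σ l)⁻¹ * σ) (α X) = α X := by
    have := H.fix3 ((W.σ l)⁻¹ * σ) (fun k hk => (W.σ_spec h5 hl k hk).inv.mul (hσ k hk)) X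
    show β _ * _ * (β _)⁻¹ = _
    rw [this.eq, mul_inv_cancel_right]
  show cjT β (W.σ l) (α X) = _
  conv_lhs => rw [← e, ← cjT_mul, mul_inv_cancel_left]

theorem two [Fintype F] (hF : Fintype.card F = 4) : (H.amal.dat h5).Two where
  card := hF
  ext l hl := by
    set σ := nu (k := 4) (d := l) hl
    refine ⟨(cjT β σ).comp f, fun A => ?_, fun A => ?_⟩
    · rw [H.ψ_eq (by omega) σ (fun k hk => nu_spec hl (by omega)), MonoidHom.comp_apply, ← H.hf,
        MonoidHom.comp_apply]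
    · let ν4 : (⊤ : Subgroup (Perm (Fin 4))) := ⟨finRotate 4, Subgroup.mem_top _⟩
      have hν : ∀ k, k < 3 → Moves (ν4 : Perm (Fin 4)) k (1 + k) := fun k hk => by
        interval_cases k <;> exact (moves_iff (by norm_num)).2 (by decide)
      rw [H.ψ_eq (l := l + 1) (by omega) (σ * ext4 (le_trans (by norm_num) h5) ν4) (fun k hk => by
          rw [show l + 1 + k = l + (1 + k) by omega]
          exact (nu_spec hl (by omega)).mul (ext4_move_of _ (hν k hk))),
        cjT_mul, MonoidHom.comp_apply]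
      congr 1
      show _ = β (ext4 (le_trans (by norm_num) h5) ν4) * α A * (β (ext4 (le_trans (by norm_num) h5) ν4))⁻¹
      rw [← H.hf, show β (ext4 (le_trans (by norm_num) h5) ν4) = f ((topSetup (N := 4) h2 le_rfl).p ν4) from
        (DFunLike.congr_fun H.hf' ν4).symm, MonoidHom.comp_apply, ← map_inv, ← map_mul, ← map_mul,
        pm_emb U (o := 0) (o' := 1) (by norm_num) (by norm_num) _ _ ν4 (fun k hk => by simpa using hν k hk) A]
  AV i l hil hl A B := by
    obtain ⟨σ, hσ⟩ := exists_perm (N := N) (fun x : Fin 5 => (x : ℕ)) ![i, i + 1, l, l + 1, l + 2]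
      Fin.val_injective (fun a b e => by fin_cases a <;> fin_cases b <;> simp_all <;> omega)
      (fun x => by omega) (fun x => by fin_cases x <;> simp <;> omega)
    rw [Amal.dat_φ, H.amal.φ_eq (σ := σ) (l := i) (hσ 0) (hσ 1), H.ψ_eq hl (σ * nu (k := 3) (d := 2) h5) (fun k hk => by
      refine Moves.mul ?_ (nu_spec h5 hk)
      interval_cases k
      exacts [hσ 2, hσ 3, hσ 4]), cjT_mul]
    exact (Commute.map (H.AV0 A B) (cjT β σ)).eq
  VA l j hlj hj A B := by
    obtain ⟨σ, hσ⟩ := exists_perm (N := N) (fun x : Fin 5 => (x : ℕ)) ![j, j + 1, l, l + 1, l + 2]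
      Fin.val_injective (fun a b e => by fin_cases a <;> fin_cases b <;> simp_all <;> omega)
      (fun x => by omega) (fun x => by fin_cases x <;> simp <;> omega)
    rw [Amal.dat_φ, H.amal.φ_eq (σ := σ) (l := j) (hσ 0) (hσ 1), H.ψ_eq (by omega) (σ * nu (k := 3) (d := 2) h5) (fun k hk => by
      refine Moves.mul ?_ (nu_spec h5 hk)
      interval_cases k
      exacts [hσ 2, hσ 3, hσ 4]), cjT_mul]
    exact (Commute.map (H.AV0 B A) (cjT β σ)).eq.symm
  VV l m hlm hm A B := by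
    have h6 : 6 ≤ N := by omega
    obtain ⟨σ, hσ⟩ := exists_perm (N := N) (fun x : Fin 6 => (x : ℕ)) ![l, l + 1, l + 2, m, m + 1, m + 2]
      Fin.val_injective (fun a b e => by fin_cases a <;> fin_cases b <;> simp_all <;> omega)
      (fun x => by omega) (fun x => by fin_cases x <;> simp <;> omega)
    rw [H.ψ_eq (by omega) σ (fun k hk => by
      interval_cases k
      exacts [hσ 0, hσ 1, hσ 2]), H.ψ_eq hm (σ * nu (k := 3) (d := 3) h6) (fun k hk => by
      refine Moves.mul ?_ (nu_spec h6 hk)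
      interval_cases k
      exacts [hσ 3, hσ 4, hσ 5]), cjT_mul]
    exact (Commute.map (H.VV0 h6 A B) (cjT β σ)).eq

theorem forced [Fintype F] (hF : Fintype.card F = 4)
    (hj : α (J3 h2) = β (ext4 (le_trans (by norm_num) h5) j4)) : ∃ Ψ : SU N F 2 →* Γ,
    Ψ.comp (embSU 0 (by omega) U) = α ∧ Ψ.comp (topSetup h2 (le_trans (by norm_num) h5)).p = β := by
  set W : Setup F N := topSetup h2 (le_trans (by norm_num) h5) with hW
  set K := H.amal
  obtain ⟨Ψ, -, hψ⟩ := (K.dat h5).exists_hom_of_St ((H.two hF).state_all (N - 2) 0 (by omega))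
  have h0 : Ψ.comp (embSU 0 (by omega) U) = α := MonoidHom.ext fun X => by
    rw [MonoidHom.comp_apply, hψ 0 (by omega), Amal.dat_ψ, K.ψ_zero]
  have key : ∀ (y : W.S) (Y : SU 3 F 2) (σ : W.S) (l : ℕ), W.p y = embSU 0 (by omega) U Y → β y = α Y →
      l + 3 ≤ N → (∀ k, k < 3 → Moves (σ : Perm (Fin N)) k (l + k)) →
      Ψ (W.p (σ * y * σ⁻¹)) = β (σ * y * σ⁻¹) := by
    intro y Y σ l e e' hl hσ
    rw [map_mul W.p, map_mul W.p, map_inv W.p, e,
      pm_emb U (o := 0) (o' := l) _ hl W.S W.hS σ (fun k hk => by simpa using hσ k hk) Y, hψ l hl,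
      H.ψ_eq hl σ hσ, map_mul β, map_mul β, map_inv β, e']
    rfl
  refine ⟨Ψ, h0, ?_⟩
  set jN := ext4 (le_trans (by norm_num) h5) j4 with hjN
  have pj : W.p jN = embSU 0 (by omega) U (J3 h2) := by
    refine (emb_J3 h2 W.hN jN (ext4_move_of _ ((moves_iff (by norm_num)).2 rfl))
      (ext4_move_of _ ((moves_iff (by norm_num)).2 rfl)) fun k hk hkN => ?_).symm
    by_cases h4 : k < 4
    · refine ext4_move_of _ ?_
      interval_cases k <;> exact (moves_iff (by norm_num)).2 rfl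
    · exact (ext4_moves _ j4).2 k (by omega) hkN
  have hswap : ∀ (l : ℕ) (hl : l + 1 < N), ∀ x : W.S,
      (x : Perm (Fin N)) = swap ⟨l, by omega⟩ ⟨l + 1, hl⟩ → Ψ (W.p x) = β x := by
    intro l hl x hx
    have hjs : (jN : Perm (Fin N)) = swap ⟨0, by omega⟩ ⟨1, by omega⟩ := by
      refine Equiv.ext fun i => ?_
      obtain ⟨i, hi⟩ := i
      by_cases h4 : i < 4
      · obtain ⟨_, _, e⟩ := (ext4_moves (le_trans (by norm_num) h5) j4).1 ⟨i, h4⟩
        rw [e]
        interval_cases i <;> simp [j4, swap_apply_def]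
      · obtain ⟨_, _, e⟩ := (ext4_moves (le_trans (by norm_num) h5) j4).2 i (by omega) hi
        rw [e, swap_apply_of_ne_of_ne (by simp; omega) (by simp; omega)]
    have conjswap : ∀ {σ : W.S} {a b : ℕ} (ha : a < N) (hb : b < N), Moves (σ : Perm (Fin N)) 0 a →
        Moves (σ : Perm (Fin N)) 1 b → ((σ * jN * σ⁻¹ : W.S) : Perm (Fin N)) = swap ⟨a, ha⟩ ⟨b, hb⟩ := by
      intro σ a b ha hb m0 m1
      obtain ⟨_, _, e0⟩ := m0
      obtain ⟨_, _, e1⟩ := m1
      rw [Subgroup.coe_mul, Subgroup.coe_mul, Subgroup.coe_inv, hjs, ← Equiv.swap_apply_apply, e0, e1]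
    by_cases h3 : l + 3 ≤ N
    · have hσ : ∀ k, k < 3 → Moves (nu (k := 3) (d := l) h3 : Perm (Fin N)) k (l + k) := fun k hk => nu_spec h3 hk
      rw [show x = nu (k := 3) (d := l) h3 * jN * (nu (k := 3) (d := l) h3)⁻¹ from Subtype.ext (hx.trans
        (conjswap (a := l) (b := l + 1) (by omega) hl (by simpa using hσ 0 (by norm_num)) (hσ 1 (by norm_num))).symm)]
      exact key jN (J3 h2) _ l pj hj.symm h3 hσ
    · obtain ⟨l, rfl⟩ : ∃ m, l = m + 1 := ⟨l - 1, by omega⟩
      have h3' : l + 3 ≤ N := by omega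
      have hσ : ∀ k, k < 3 → Moves (nu (k := 3) (d := l) h3' : Perm (Fin N)) k (l + k) := fun k hk => nu_spec h3' hk
      obtain ⟨c0, c1, -, -⟩ := cycN_moves (N := N) (by omega)
      rw [show x = nu (k := 3) (d := l) h3' * (W.c * jN * W.c⁻¹) * (nu (k := 3) (d := l) h3')⁻¹ by
        rw [show nu (k := 3) (d := l) h3' * (W.c * jN * W.c⁻¹) * (nu (k := 3) (d := l) h3')⁻¹ =
          nu (k := 3) (d := l) h3' * W.c * jN * (nu (k := 3) (d := l) h3' * W.c)⁻¹ by group]
        exact Subtype.ext (hx.trans (conjswap (σ := nu (k := 3) (d := l) h3' * W.c) (a := l + 1) (b := l + 1 + 1)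
          (by omega) hl ((hσ 1 (by norm_num)).mul c0)
          (by rw [show l + 1 + 1 = l + 2 by omega]; exact (hσ 2 (by norm_num)).mul c1)).symm)]
      refine key (W.c * jN * W.c⁻¹) (P3 * J3 h2 * P3⁻¹) _ l ?_ ?_ h3' hσ
      · rw [map_mul, map_mul, map_inv, pj, map_mul, map_mul, map_inv, W.emb_P3 U]
      · rw [map_mul, map_mul, map_inv, map_mul, map_mul, map_inv, H.hc, hj]
  have htop : ∀ x : W.S, x ∈ (Ψ.comp W.p).eqLocus β := by
    intro x
    obtain ⟨m, rfl⟩ : ∃ m, N = m + 1 := ⟨N - 1, by omega⟩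
    have hle : Submonoid.closure (Set.range fun i : Fin m => swap i.castSucc i.succ) ≤
        (((Ψ.comp W.p).eqLocus β).map W.S.subtype).toSubmonoid := by
      rw [Submonoid.closure_le]
      rintro _ ⟨i, rfl⟩
      exact ⟨⟨_, Subgroup.mem_top _⟩, hswap i (by omega) _ rfl, rfl⟩
    rw [Equiv.Perm.mclosure_swap_castSucc_succ] at hle
    obtain ⟨y, hy, e⟩ := hle (Submonoid.mem_top (x : Perm (Fin (m + 1))))
    rwa [Subtype.ext e] at hy
  exact MonoidHom.ext fun x => htop x

end Base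

theorem self_base : Base U h2 h5 (embSU 0 (by omega) U : SU 3 F 2 →* SU N F 2)
    (topSetup h2 (le_trans (by norm_num) h5)).p (embSU 0 (by omega) U) := by
  set W : Setup F N := topSetup h2 (le_trans (by norm_num) h5) with hW
  refine ⟨W.emb_P3 U, MonoidHom.ext fun X => embSU_embSU 0 _ 0 (by norm_num) (by omega) U X,
    MonoidHom.ext fun τ => emb_pm U _ (top_sign h2) _ _ (top_sign h2) τ _ (ext4_moves _ τ).1 (ext4_moves _ τ).2,
    fun σ hσ X => ?_, fun A B => ?_, fun h6 A B => ?_⟩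
  · refine mul_inv_eq_iff_eq_mul.1 ?_
    exact pm_emb U (o := 0) (o' := 0) _ _ W.S W.hS σ (fun k hk => by simpa using hσ k hk) X
  · show Commute (embSU 0 _ U (e0 U A)) (W.p (nu (k := 3) (d := 2) h5) * embSU 0 _ U B * (W.p _)⁻¹)
    rw [embSU_embSU 0 _ 0 (by norm_num) (by omega) U A,
      pm_emb U (o := 0) (o' := 2) _ (by omega) W.S W.hS _ (fun k hk => by simpa using nu_spec h5 hk) B]
    exact U.FB_comm le_rfl (embSU_mem _ _ _ _) (embSU_mem _ _ _ _)
  · show Commute (embSU 0 _ U A) (W.p (nu (k := 3) (d := 3) h6) * embSU 0 _ U B * (W.p _)⁻¹)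
    rw [pm_emb U (o := 0) (o' := 3) _ (by omega) W.S W.hS _ (fun k hk => by simpa using nu_spec h6 hk) B]
    exact U.FB_comm le_rfl (embSU_mem _ _ _ _) (embSU_mem _ _ _ _)

theorem top_gen [Fintype F] (hF : Fintype.card F = 4) :
    (embSU 0 (by omega) U : SU 3 F 2 →* SU N F 2).range ⊔ (topSetup h2 (le_trans (by norm_num) h5)).p.range = ⊤ :=
  (topSetup h2 (le_trans (by norm_num) h5)).gen_top U h5
    (((self_base h2 h5).two hF).state_all (N - 2) 0 (by omega))

/-- `SU N` over four elements, in degree at least five. -/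
theorem su_big [Fintype F] (hF : Fintype.card F = 4) (R : Root U) (h5 : 5 ≤ N) {κB : Type} {b : ℕ}
    (hB : BoundedOn (⊤ : Subgroup (Perm (Fin N))) κB b) : BoundedOn (SU N F 2) (Fin 2 ⊕ κB) (2 + b + 17) := by
  have h2 := two_eq_zero hF
  have hN4 : 4 ≤ N := by omega
  let W : Setup F N := topSetup h2 hN4
  obtain ⟨ω, hω⟩ := U.exists_omega
  have hω1 : U.nm ω + U.nm 0 = 1 := by
    rw [U.nm_ne_zero fun e => by simp [e] at hω, U.nm_zero, add_zero]
  have h01 : U.nm 0 + U.nm 1 = 1 := by rw [U.nm_zero, U.nm_ne_zero one_ne_zero, zero_add]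
  set x := U.su2 ω 0 hω1
  set y := U.su2 0 1 h01
  have hxy : Subgroup.closure ({x, y} : Set (SU 2 F 2)) = ⊤ :=
    U.su2_gen hF hω _ (fun h => Subgroup.subset_closure (Or.inl rfl)) fun h => Subgroup.subset_closure (Or.inr rfl)
  set u := genU R hF
  set v := genV R hF
  obtain ⟨sa, sb, ha, hb, hst⟩ := exists_top_fix3 (N := N) h5
  let La (g : SU 3 F 2) : FreeGroup (SU 3 F 2 ⊕ W.S) := FreeGroup.of (Sum.inl g)
  let Lb (g : W.S) : FreeGroup (SU 3 F 2 ⊕ W.S) := FreeGroup.of (Sum.inr g)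
  let cw (g h : FreeGroup (SU 3 F 2 ⊕ W.S)) : FreeGroup (SU 3 F 2 ⊕ W.S) := g * h * (h * g)⁻¹
  let far (ν : W.S) (g : SU 3 F 2) : FreeGroup (SU 3 F 2 ⊕ W.S) := Lb ν * La g * (Lb ν)⁻¹
  let ι : FreeGroup (SU 3 F 2 ⊕ (⊤ : Subgroup (Perm (Fin 4)))) →* FreeGroup (SU 3 F 2 ⊕ W.S) :=
    FreeGroup.map (Sum.map id (ext4 hN4))
  have hι : ∀ {G : Type u} [Group G] (α : SU 3 F 2 → G) (β : W.S → G) w,
      FreeGroup.lift (Sum.elim α β) (ι w) = FreeGroup.lift (Sum.elim α (β ∘ ext4 hN4)) w := fun α β w =>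
    DFunLike.congr_fun (FreeGroup.ext_hom ((FreeGroup.lift (Sum.elim α β)).comp ι) _
      fun i => by rcases i with i | i <;> simp [ι]) w
  have hι0 : ∀ {G : Type} [Group G] (α : SU 3 F 2 → G) (β : W.S → G) w,
      FreeGroup.lift (Sum.elim α β) (ι w) = FreeGroup.lift (Sum.elim α (β ∘ ext4 hN4)) w := fun α β w =>
    DFunLike.congr_fun (FreeGroup.ext_hom ((FreeGroup.lift (Sum.elim α β)).comp ι) _
      fun i => by rcases i with i | i <;> simp [ι]) w
  set n2 : W.S := nu (k := 3) (d := 2) h5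
  let EV : List (FreeGroup (SU 3 F 2 ⊕ W.S)) :=
    if h6 : 6 ≤ N then
      [cw (La u) (far (nu (k := 3) (d := 3) h6) u), cw (La u) (far (nu (k := 3) (d := 3) h6) v),
        cw (La v) (far (nu (k := 3) (d := 3) h6) u), cw (La v) (far (nu (k := 3) (d := 3) h6) v)]
    else []
  have hEV : EV.length ≤ 4 := by simp only [EV]; split_ifs <;> simp
  let E : List (FreeGroup (SU 3 F 2 ⊕ W.S)) :=
    [La P3 * (Lb W.c)⁻¹, La (J3 h2) * (Lb (ext4 hN4 j4))⁻¹, cw (Lb sa) (La u), cw (Lb sa) (La v),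
      cw (Lb sb) (La u), cw (Lb sb) (La v), cw (La (e0 U x)) (far n2 u), cw (La (e0 U x)) (far n2 v),
      cw (La (e0 U y)) (far n2 u), cw (La (e0 U y)) (far n2 v)] ++ EV ++ (extra hF R).map ι
  have hS := self_base (U := U) h2 h5
  refine (BoundedOn.glue (embSU 0 (by omega) U) W.p (boundedOn3 hF R) hB (top_gen h2 h5 hF) E ?_ ?_).mono
    (by simp [E, extra, relX]; omega)
  · intro e he
    rcases List.mem_append.1 he with he | he
    rcases List.mem_append.1 he with he | he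
    · simp only [List.mem_cons, List.not_mem_nil, or_false] at he
      rcases he with rfl | rfl | rfl | rfl | rfl | rfl | rfl | rfl | rfl | rfl <;>
        simp only [cw, far, La, Lb, map_mul, map_inv, FreeGroup.lift_apply_of, Sum.elim_inl, Sum.elim_inr,
          mul_inv_eq_one]
      · exact hS.hc
      · rw [← (DFunLike.congr_fun hS.hf (J3 h2)), MonoidHom.comp_apply, emb_J4 h2]
        exact DFunLike.congr_fun hS.hf' j4
      · exact (hS.fix3 sa ha u).eq
      · exact (hS.fix3 sa ha v).eq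
      · exact (hS.fix3 sb hb u).eq
      · exact (hS.fix3 sb hb v).eq
      · exact (hS.AV0 x u).eq
      · exact (hS.AV0 x v).eq
      · exact (hS.AV0 y u).eq
      · exact (hS.AV0 y v).eq
    · simp only [EV] at he
      split_ifs at he with h6
      · simp only [List.mem_cons, List.not_mem_nil, or_false] at he
        rcases he with rfl | rfl | rfl | rfl <;>
          simp only [cw, far, La, Lb, map_mul, map_inv, FreeGroup.lift_apply_of, Sum.elim_inl, Sum.elim_inr,
            mul_inv_eq_one] <;>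
          exact (hS.VV0 h6 _ _).eq
      · simp at he
    · obtain ⟨w, hw, rfl⟩ := List.mem_map.1 he
      have := congrArg (embSU 0 (by omega : 0 + 4 ≤ N) U) (extra_self hF R w hw)
      rw [map_one, lift_natural, Sum.comp_elim] at this
      rw [hι]
      refine Eq.trans ?_ this
      congr 2
      refine congrArg₂ Sum.elim (funext fun X => ?_) (funext fun τ => ?_)
      · exact (DFunLike.congr_fun hS.hf X).symm
      · exact (DFunLike.congr_fun hS.hf' τ).symm
  · intro Γ _ α β hh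
    simp only [E, List.forall_mem_append, List.forall_mem_cons, List.forall_mem_map] at hh
    obtain ⟨⟨⟨r0, r1, r2, r3, r4, r5, r6, r7, r8, r9, -⟩, hv⟩, hx⟩ := hh
    simp only [cw, far, La, Lb, map_mul, map_inv, FreeGroup.lift_apply_of, Sum.elim_inl, Sum.elim_inr,
      mul_inv_eq_one] at r0 r1 r2 r3 r4 r5 r6 r7 r8 r9
    have hc4 : ext4 hN4 ⟨cycN (by norm_num), Subgroup.mem_top _⟩ = W.c := by
      refine Subtype.ext (Equiv.ext fun k => ?_)
      obtain ⟨a0, a1, a2, afix⟩ := cycN_moves (N := N) (by omega)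
      obtain ⟨b0, b1, b2, b3⟩ := cycN_moves (N := 4) (by norm_num)
      have hval : ∀ {i l : ℕ} (hi : i < N), Moves (cycN (N := N) (le_trans (by norm_num) hN4)) i l →
          Moves (ext4 hN4 ⟨cycN (by norm_num), Subgroup.mem_top _⟩ : Perm (Fin N)) i l →
          (ext4 hN4 ⟨cycN (by norm_num), Subgroup.mem_top _⟩ : Perm (Fin N)) ⟨i, hi⟩ =
            cycN (N := N) (le_trans (by norm_num) hN4) ⟨i, hi⟩ := fun {i l} hi m m' => by
        obtain ⟨_, _, e⟩ := m
        obtain ⟨_, _, e'⟩ := m'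
        rw [e, e']
      obtain ⟨k, hk⟩ := k
      obtain rfl | rfl | rfl | rfl | h4 : k = 0 ∨ k = 1 ∨ k = 2 ∨ k = 3 ∨ 4 ≤ k := by omega
      · exact hval hk a0 (ext4_move_of hN4 b0)
      · exact hval hk a1 (ext4_move_of hN4 b1)
      · exact hval hk a2 (ext4_move_of hN4 b2)
      · exact hval hk (afix 3 le_rfl hk) (ext4_move_of hN4 (b3 3 le_rfl (by norm_num)))
      · exact hval hk (afix k (by omega) hk) ((ext4_moves hN4 _).2 k h4 hk)
    obtain ⟨f, hf, hf'⟩ := forced4 hF R (α := α) (β := β.comp (ext4 hN4))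
      (by rw [r0, MonoidHom.comp_apply, hc4]) r1 fun e he => by
        have := hx e he
        rw [hι0] at this
        exact this
    have hfix3 : ∀ σ : W.S, (∀ k, k < 3 → Moves (σ : Perm (Fin N)) k k) → ∀ X, Commute (β σ) (α X) := by
      intro σ hσ X
      have hle : Subgroup.closure ({sa, sb} : Set W.S) ≤ (Subgroup.centralizer {α X}).comap β := by
        rw [Subgroup.closure_le]
        rintro z (rfl | rfl)
        · exact Subgroup.mem_centralizer_singleton_iff.2 (comm_of_pair (closureA hF R) _ α r2 r3 X).eq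
        · exact Subgroup.mem_centralizer_singleton_iff.2 (comm_of_pair (closureA hF R) _ α r4 r5 X).eq
      exact Subgroup.mem_centralizer_singleton_iff.1 (hle (hst σ hσ))
    have hAV : ∀ A B, Commute (α (e0 U A)) (cjT β n2 (α B)) := fun A B =>
      comm_of_pair (closureA hF R) _ ((cjT β n2).comp α)
        (comm_of_pair hxy _ (α.comp (e0 U)) (Commute.symm r6) (Commute.symm r8) A).symm
        (comm_of_pair hxy _ (α.comp (e0 U)) (Commute.symm r7) (Commute.symm r9) A).symm B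
    have hVV : ∀ h6 : 6 ≤ N, ∀ A B, Commute (α A) (cjT β (nu (k := 3) (d := 3) h6) (α B)) := by
      intro h6 A B
      simp only [EV, dif_pos h6, List.forall_mem_cons] at hv
      obtain ⟨v0, v1, v2, v3, -⟩ := hv
      simp only [cw, far, La, Lb, map_mul, map_inv, FreeGroup.lift_apply_of, Sum.elim_inl, Sum.elim_inr,
        mul_inv_eq_one] at v0 v1 v2 v3
      exact comm_of_pair (closureA hF R) _ ((cjT β (nu (k := 3) (d := 3) h6)).comp α)
        (comm_of_pair (closureA hF R) _ α (Commute.symm v0) (Commute.symm v2) A).symm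
        (comm_of_pair (closureA hF R) _ α (Commute.symm v1) (Commute.symm v3) A).symm B
    exact Base.forced (h2 := h2) (h5 := h5) ⟨r0, hf, hf', hfix3, hAV, hVV⟩ hF r1

end CfsgLib.Presentations.SUPres.Two
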