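/-
A model of `SU 3` for the antidiagonal Hermitian form, with its rank one Bruhat normal form.
-/
import Cfsg.Agent.Lib.Chev.CT.Phan.Basic

set_option autoImplicit false

namespace CfsgLib.Presentations.SUPres

open Matrix Cfsg CfsgLib.Chev.CT.Phan

universe u

variable {F : Type u} [Field F] {q : ℕ} (U : UF F q)

/-- The antidiagonal Hermitian form in dimension three. -/
def hJ (x y : Fin 3 → F) : F := x 0 * U.σ (y 2) + x 1 * U.σ (y 1) + x 2 * U.σ (y 0)

/-- Unitary matrices of determinant one for the antidiagonal form. -/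
abbrev T3 : Subgroup (SpecialLinearGroup (Fin 3) F) := preserving (slToMat 3 F) (hJ U)

/-- The matrix of an element. -/
abbrev mat {U : UF F q} (g : T3 U) : Matrix (Fin 3) (Fin 3) F := g.1.1

theorem mat_mul {U : UF F q} (g g' : T3 U) : mat (g * g') = mat g * mat g' := rfl

theorem mat_one : mat (1 : T3 U) = 1 := rfl

theorem mat_ext {U : UF F q} {g g' : T3 U} (h : mat g = mat g') : g = g' :=
  Subtype.ext (Subtype.ext h)

/-- Membership from preservation of the form on vectors. -/
def mkT3 (M : Matrix (Fin 3) (Fin 3) F) (hdet : M.det = 1)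
    (hM : ∀ x y, hJ U (M *ᵥ x) (M *ᵥ y) = hJ U x y) : T3 U :=
  ⟨⟨M, hdet⟩, hM⟩

theorem mat_mkT3 {M : Matrix (Fin 3) (Fin 3) F} {hdet : M.det = 1}
    {hM : ∀ x y, hJ U (M *ᵥ x) (M *ᵥ y) = hJ U x y} : mat (mkT3 U M hdet hM) = M := rfl

/-- The condition on the parameters of a unipotent element. -/
def IsU (a b : F) : Prop := b + U.σ b + a * U.σ a = 0

/-- A unipotent upper triangular element. -/
def uE (a b : F) (h : IsU U a b) : T3 U :=
  mkT3 U !![1, a, b; 0, 1, -U.σ a; 0, 0, 1] (by simp [det_fin_three]) fun x y => by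
    simp only [hJ, mulVec, dotProduct, Fin.sum_univ_three, of_apply, cons_val', cons_val_zero, cons_val_one,
      cons_val_two, cons_val, head_cons, tail_cons, empty_val', cons_val_fin_one, head_fin_const]
    simp only [map_add, map_mul, map_neg, map_zero, map_one, U.hσσ]
    unfold IsU at h
    linear_combination x 2 * U.σ (y 2) * h

/-- A diagonal element. -/
def hE (t : Fˣ) : T3 U :=
  mkT3 U !![(t : F), 0, 0; 0, U.σ t / t, 0; 0, 0, (U.σ t)⁻¹] (by
      have := (map_ne_zero U.σ).2 t.ne_zero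
      simp [det_fin_three]; field_simp) fun x y => by
    have h0 := t.ne_zero
    have h1 := (map_ne_zero U.σ).2 h0
    simp only [hJ, mulVec, dotProduct, Fin.sum_univ_three, of_apply, cons_val', cons_val_zero, cons_val_one,
      cons_val_two, cons_val, head_cons, tail_cons, empty_val', cons_val_fin_one, head_fin_const]
    simp only [map_add, map_mul, map_neg, map_zero, map_one, map_div₀, map_inv₀, U.hσσ]
    field_simp
    ring

/-- The Weyl element. -/
def wE : T3 U :=
  mkT3 U !![0, 0, 1; 0, -1, 0; 1, 0, 0] (by simp [det_fin_three]) fun x y => by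
    simp [hJ, mulVec, dotProduct, Fin.sum_univ_three]
    ring

theorem mat_uE (a b : F) (h : IsU U a b) : mat (uE U a b h) = !![1, a, b; 0, 1, -U.σ a; 0, 0, 1] := rfl

theorem mat_hE (t : Fˣ) : mat (hE U t) = !![(t : F), 0, 0; 0, U.σ t / t, 0; 0, 0, (U.σ t)⁻¹] := rfl

theorem mat_wE : mat (wE U) = !![0, 0, 1; 0, -1, 0; 1, 0, 0] := rfl

variable {U}

theorem IsU.add {a b c d : F} (h : IsU U a b) (h' : IsU U c d) :
    IsU U (a + c) (b + d - a * U.σ c) := by
  unfold IsU at *
  simp only [map_add, map_sub, map_mul, U.hσσ]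
  linear_combination h + h'

theorem IsU.neg {a b : F} (h : IsU U a b) : IsU U (-a) (U.σ b) := by
  unfold IsU at *
  simp only [map_neg, U.hσσ]
  linear_combination h

theorem IsU.zero : IsU U (0 : F) 0 := by simp [IsU]

theorem IsU.scale {a b : F} (h : IsU U a b) (t : Fˣ) :
    IsU U ((t : F) * t / U.σ t * a) ((t : F) * U.σ t * b) := by
  have h0 := t.ne_zero
  have h1 := (map_ne_zero U.σ).2 h0
  unfold IsU at *
  simp only [map_mul, map_div₀, U.hσσ]
  field_simp
  linear_combination ((t : F) * U.σ t) * h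

theorem uE_congr {a b a' b' : F} (ea : a = a') (eb : b = b') (h : IsU U a b) :
    uE U a b h = uE U a' b' (ea ▸ eb ▸ h) := by subst ea eb; rfl

theorem uE_mul {a b c d : F} (h : IsU U a b) (h' : IsU U c d) :
    uE U a b h * uE U c d h' = uE U _ _ (h.add h') := by
  refine mat_ext (Matrix.ext fun i j => ?_)
  rw [mat_mul, mat_uE, mat_uE, mat_uE]
  fin_cases i <;> fin_cases j <;> simp [Matrix.mul_apply, Fin.sum_univ_three] <;> ring

theorem uE_zero : uE U 0 0 IsU.zero = 1 := by
  refine mat_ext (Matrix.ext fun i j => ?_)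
  rw [mat_uE, mat_one]
  fin_cases i <;> fin_cases j <;> simp

theorem uE_inv {a b : F} (h : IsU U a b) : (uE U a b h)⁻¹ = uE U _ _ h.neg := by
  apply inv_eq_of_mul_eq_one_right
  rw [uE_mul, ← uE_zero]
  refine uE_congr (by ring) ?_ _
  unfold IsU at h
  simp only [map_neg]
  linear_combination h

theorem hE_mul (t s : Fˣ) : hE U t * hE U s = hE U (t * s) := by
  have h0 := t.ne_zero
  have h1 := (map_ne_zero U.σ).2 h0
  refine mat_ext (Matrix.ext fun i j => ?_)
  rw [mat_mul, mat_hE, mat_hE, mat_hE]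
  fin_cases i <;> fin_cases j <;> simp [Matrix.mul_apply, Fin.sum_univ_three, map_mul] <;> field_simp

theorem hE_one : hE U 1 = 1 := by
  refine mat_ext (Matrix.ext fun i j => ?_)
  rw [mat_hE, mat_one]
  fin_cases i <;> fin_cases j <;> simp

theorem hE_inv (t : Fˣ) : (hE U t)⁻¹ = hE U t⁻¹ := by
  apply inv_eq_of_mul_eq_one_right
  rw [hE_mul, mul_inv_cancel, hE_one]

/-- The diagonal elements as a homomorphism. -/
def hHom (U : UF F q) : Fˣ →* T3 U := MonoidHom.mk' (hE U) fun t s => (hE_mul t s).symm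

theorem hHom_apply (t : Fˣ) : hHom U t = hE U t := rfl

theorem hE_uE (t : Fˣ) {a b : F} (h : IsU U a b) :
    hE U t * uE U a b h * (hE U t)⁻¹ = uE U _ _ (h.scale t) := by
  have h0 := t.ne_zero
  have h1 := (map_ne_zero U.σ).2 h0
  rw [mul_inv_eq_iff_eq_mul]
  refine mat_ext (Matrix.ext fun i j => ?_)
  rw [mat_mul, mat_mul, mat_hE, mat_uE, mat_uE]
  fin_cases i <;> fin_cases j <;>
    simp [Matrix.mul_apply, Fin.sum_univ_three, map_mul, map_div₀, U.hσσ] <;> field_simp

theorem wE_sq : wE U * wE U = 1 := by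
  refine mat_ext (Matrix.ext fun i j => ?_)
  rw [mat_mul, mat_wE, mat_one]
  fin_cases i <;> fin_cases j <;> simp [Matrix.mul_apply, Fin.sum_univ_three]

/-- The image of a torus parameter under the Weyl element. -/
def wt (U : UF F q) (t : Fˣ) : Fˣ := (Units.map (U.σ : F →* F) t)⁻¹

theorem wt_val (t : Fˣ) : (wt U t : F) = (U.σ t)⁻¹ := by simp [wt]

theorem wt_wt (t : Fˣ) : wt U (wt U t) = t :=
  Units.ext (by simp [wt_val, U.hσσ])

theorem wE_hE (t : Fˣ) : wE U * hE U t = hE U (wt U t) * wE U := by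
  have h0 := t.ne_zero
  have h1 := (map_ne_zero U.σ).2 h0
  refine mat_ext (Matrix.ext fun i j => ?_)
  rw [mat_mul, mat_mul, mat_hE, mat_hE, mat_wE, wt_val]
  fin_cases i <;> fin_cases j <;> simp [Matrix.mul_apply, Fin.sum_univ_three, U.hσσ] <;> field_simp

theorem IsU.flip_left {a b : F} (h : IsU U a b) (hb : b ≠ 0) : IsU U (-a / U.σ b) (1 / b) := by
  have h1 := (map_ne_zero U.σ).2 hb
  unfold IsU at *
  simp only [map_neg, map_div₀, map_one, U.hσσ]
  field_simp
  linear_combination h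

theorem IsU.flip_right {a b : F} (h : IsU U a b) (hb : b ≠ 0) : IsU U (-a / b) (1 / b) := by
  have h1 := (map_ne_zero U.σ).2 hb
  unfold IsU at *
  simp only [map_neg, map_div₀, map_one]
  field_simp
  linear_combination h

theorem wuw {a b : F} (h : IsU U a b) (hb : b ≠ 0) :
    wE U * uE U a b h * wE U = uE U _ _ (h.flip_left hb) * wE U *
      (hE U (Units.mk0 b hb) * uE U _ _ (h.flip_right hb)) := by
  have h1 := (map_ne_zero U.σ).2 hb
  have h' : b + U.σ b + a * U.σ a = 0 := h
  refine mat_ext (Matrix.ext fun i j => ?_)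
  simp only [mat_mul, mat_uE, mat_hE, mat_wE]
  fin_cases i <;> fin_cases j <;>
    simp [Matrix.mul_apply, Fin.sum_univ_three, map_neg, map_div₀, U.hσσ] <;> field_simp
  all_goals first | ring1 | linear_combination h' | linear_combination -h'

variable (U)

/-- The upper triangular elements. -/
def IsB (g : T3 U) : Prop := ∃ (a b : F) (h : IsU U a b) (t : Fˣ), g = uE U a b h * hE U t

/-- The Borel subgroup. -/
def BB : Subgroup (T3 U) where
  carrier := {g | IsB U g}
  one_mem' := ⟨0, 0, IsU.zero, 1, by rw [uE_zero, hE_one, mul_one]⟩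
  mul_mem' := by
    rintro _ _ ⟨a, b, h, t, rfl⟩ ⟨c, d, h', s, rfl⟩
    refine ⟨_, _, h.add (h'.scale t), t * s, ?_⟩
    rw [← uE_mul h (h'.scale t), ← hE_uE t h', ← hE_mul]
    group
  inv_mem' := by
    rintro _ ⟨a, b, h, t, rfl⟩
    refine ⟨_, _, h.neg.scale t⁻¹, t⁻¹, ?_⟩
    rw [← hE_uE t⁻¹ h.neg, ← uE_inv h, hE_inv t⁻¹, inv_inv, _root_.mul_inv_rev, hE_inv]
    rw [show hE U t⁻¹ * (uE U a b h)⁻¹ * hE U t * hE U t⁻¹ = hE U t⁻¹ * (uE U a b h)⁻¹ * (hE U t * hE U t⁻¹)
      by group, hE_mul, mul_inv_cancel, hE_one, mul_one]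

theorem uE_mem {a b : F} (h : IsU U a b) : uE U a b h ∈ BB U :=
  ⟨a, b, h, 1, by rw [hE_one, mul_one]⟩

theorem hE_mem (t : Fˣ) : hE U t ∈ BB U := ⟨0, 0, IsU.zero, t, by rw [uE_zero, one_mul]⟩

theorem mat_uh {a b : F} (h : IsU U a b) (t : Fˣ) :
    mat (uE U a b h * hE U t) =
      !![(t : F), a * (U.σ t / t), b * (U.σ t)⁻¹; 0, U.σ t / t, -U.σ a * (U.σ t)⁻¹; 0, 0, (U.σ t)⁻¹] := by
  rw [mat_mul, mat_uE, mat_hE]
  ext i j
  fin_cases i <;> fin_cases j <;> simp [Matrix.mul_apply, Fin.sum_univ_three]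

theorem mat_uwuh {a b a' b' : F} (h : IsU U a b) (h' : IsU U a' b') (t : Fˣ) :
    (mat (uE U a b h * wE U * (uE U a' b' h' * hE U t))) 2 0 = t ∧
    (mat (uE U a b h * wE U * (uE U a' b' h' * hE U t))) 1 0 = -U.σ a * t ∧
    (mat (uE U a b h * wE U * (uE U a' b' h' * hE U t))) 0 0 = b * t := by
  rw [mat_mul, mat_mul, mat_uE, mat_wE, mat_uh]
  simp [Matrix.mul_apply, Fin.sum_univ_three]

theorem not_mem_BB {a b : F} (h : IsU U a b) {x : T3 U} (hx : x ∈ BB U) :
    uE U a b h * wE U * x ∉ BB U := by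
  obtain ⟨a', b', h', t, rfl⟩ := hx
  rintro ⟨c, d, k, s, e⟩
  have := (mat_uwuh U h h' t).1
  rw [e, mat_uh] at this
  exact t.ne_zero (by simpa using this.symm)

theorem nf_unique {a b a' b' : F} (h : IsU U a b) (h' : IsU U a' b') {x x' : T3 U} (hx : x ∈ BB U)
    (hx' : x' ∈ BB U) (e : uE U a b h * wE U * x = uE U a' b' h' * wE U * x') :
    a = a' ∧ b = b' ∧ x = x' := by
  obtain ⟨c, d, k, t, rfl⟩ := hx
  obtain ⟨c', d', k', t', rfl⟩ := hx'
  obtain ⟨e2, e1, e0⟩ := mat_uwuh U h k t
  obtain ⟨f2, f1, f0⟩ := mat_uwuh U h' k' t'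
  rw [e] at e2 e1 e0
  have ht : (t : F) = t' := e2.symm.trans f2
  have hb : b = b' := mul_right_cancel₀ t.ne_zero (by rw [← e0, f0, ht])
  have ha : a = a' := by
    have := mul_right_cancel₀ t.ne_zero (show -U.σ a * t = -U.σ a' * t by rw [← e1, f1, ht])
    exact U.σ.injective (neg_injective this)
  subst ha hb
  exact ⟨rfl, rfl, mul_left_cancel e⟩

/-- Every element has a normal form. -/
theorem exists_nf (g : T3 U) :
    g ∈ BB U ∨ ∃ (a b : F) (h : IsU U a b), ∃ x ∈ BB U, g = uE U a b h * wE U * x := by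
  have key : ∀ g : T3 U, mat g 2 0 = 0 → g ∈ BB U := by
    intro g h20
    set M := mat g with hM
    have hdet : M.det = 1 := g.1.2
    have C : ∀ i j, hJ U (M *ᵥ Pi.single i 1) (M *ᵥ Pi.single j 1) = hJ U (Pi.single i 1) (Pi.single j 1) :=
      fun i j => g.2 _ _
    have h10 : M 1 0 = 0 := by
      have := C 0 0
      simp [hJ, h20] at this
      exact this
    rw [det_fin_three, h20, h10] at hdet
    simp only [mul_zero, zero_mul, sub_zero, add_zero] at hdet
    have h00 : M 0 0 ≠ 0 := fun e => by rw [e] at hdet; simp at hdet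
    have h21 : M 2 1 = 0 := by
      have := C 0 1
      simp [hJ, h20, h10, h00] at this
      exact this
    rw [h21] at hdet
    simp only [mul_zero, sub_zero] at hdet
    have e11 : M 1 1 * U.σ (M 1 1) = 1 := by
      have := C 1 1
      simpa [hJ, h21] using this
    have e02 : M 0 0 * U.σ (M 2 2) = 1 := by
      have := C 0 2
      simpa [hJ, h20, h10] using this
    have e12 : M 0 1 * U.σ (M 2 2) + M 1 1 * U.σ (M 1 2) = 0 := by
      have := C 1 2
      simpa [hJ, h21] using this
    have e22 : M 0 2 * U.σ (M 2 2) + M 1 2 * U.σ (M 1 2) + M 2 2 * U.σ (M 0 2) = 0 := by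
      have := C 2 2
      simpa [hJ] using this
    have hs := (map_ne_zero U.σ).2 h00
    have h22 : M 2 2 = (U.σ (M 0 0))⁻¹ := by
      have := congrArg U.σ e02
      rw [map_mul, map_one, U.hσσ] at this
      exact eq_inv_of_mul_eq_one_right this
    have h11 : M 1 1 = U.σ (M 0 0) / M 0 0 := by
      rw [h22] at hdet
      field_simp at hdet ⊢
      linear_combination hdet
    have h12 : M 1 2 = -U.σ (M 0 1 * (M 0 0 / U.σ (M 0 0))) * (U.σ (M 0 0))⁻¹ := by
      have := congrArg U.σ e12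
      simp only [map_add, map_mul, map_zero, U.hσσ, h22, h11, map_div₀] at this
      simp only [map_mul, map_div₀, U.hσσ]
      field_simp at this ⊢
      linear_combination this
    refine ⟨M 0 1 * (M 0 0 / U.σ (M 0 0)), M 0 2 * U.σ (M 0 0), ?_, Units.mk0 _ h00, mat_ext ?_⟩
    · rw [h22, h12] at e22
      unfold IsU
      simp only [map_mul, map_neg, map_inv₀, map_div₀, U.hσσ] at e22 ⊢
      field_simp at e22 ⊢
      linear_combination e22
    · rw [mat_uh, ← hM]
      ext i j
      fin_cases i <;> fin_cases j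
      · simp
      · simp; field_simp
      · simp; field_simp
      · simpa using h10
      · simpa using h11
      · simpa using h12
      · simpa using h20
      · simpa using h21
      · simpa using h22
  by_cases h20 : mat g 2 0 = 0
  · exact Or.inl (key g h20)
  · right
    set M := mat g with hM
    have hC := g.2 (Pi.single 0 1) (Pi.single 0 1)
    have hC' : M 0 0 * U.σ (M 2 0) + M 1 0 * U.σ (M 1 0) + M 2 0 * U.σ (M 0 0) = 0 := by
      simpa [hJ] using hC
    have hs := (map_ne_zero U.σ).2 h20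
    have hab : IsU U (-U.σ (M 1 0 / M 2 0)) (M 0 0 / M 2 0) := by
      unfold IsU
      simp only [map_neg, map_div₀, U.hσσ]
      field_simp
      linear_combination hC'
    set g' := wE U * (uE U _ _ hab)⁻¹ * g with hg'
    have h20' : mat g' 2 0 = 0 := by
      rw [hg', uE_inv, mat_mul, mat_mul, mat_wE, mat_uE, ← hM]
      simp [Matrix.mul_apply, Fin.sum_univ_three, map_div₀]
      field_simp
      linear_combination hC'
    refine ⟨_, _, hab, g', key g' h20', ?_⟩
    rw [hg', ← mul_assoc, mul_assoc _ (wE U), ← mul_assoc (wE U), wE_sq, one_mul, mul_inv_cancel, one_mul]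

theorem closure_eq_top : BB U ⊔ Subgroup.zpowers (wE U) = ⊤ := by
  rw [eq_top_iff]
  intro g _
  rcases exists_nf U g with h | ⟨a, b, h, x, hx, rfl⟩
  · exact Subgroup.mem_sup_left h
  · exact mul_mem (mul_mem (Subgroup.mem_sup_left (uE_mem U h))
      (Subgroup.mem_sup_right (Subgroup.mem_zpowers _))) (Subgroup.mem_sup_left hx)

end CfsgLib.Presentations.SUPres
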