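/-
Multipliers of the torus of `SU 3`: triangle data generating the fields.
-/
import Cfsg.Agent.Lib.Presentations.SUPres.U3Model
import Cfsg.Agent.Lib.Classical.HermBasic
import Cfsg.Agent.Lib.SL2Pres.Existence

set_option autoImplicit false

namespace CfsgLib.Presentations.SUPres

open Polynomial CfsgLib.Chev.CT.Phan

universe u

variable {F : Type u} [Field F] {q : ℕ} (U : UF F q)

/-- The fixed subfield. -/
abbrev KK : Subfield F := U.σ.eqLocusField (RingHom.id F)

theorem mem_KK {x : F} : x ∈ KK U ↔ U.σ x = x := Iff.rfl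

/-- The multiplier of a torus element on the first coordinate. -/
def sOf : Fˣ →* F where
  toFun t := (t : F) * t / U.σ t
  map_one' := by simp
  map_mul' t s := by
    have h0 := t.ne_zero
    have h1 := (map_ne_zero U.σ).2 h0
    simp only [Units.val_mul, map_mul]
    field_simp

/-- The multiplier of a torus element on the centre. -/
def nOf : Fˣ →* KK U where
  toFun t := ⟨(t : F) * U.σ t, by rw [mem_KK, map_mul, U.hσσ, mul_comm]⟩
  map_one' := Subtype.ext (by simp)
  map_mul' t s := Subtype.ext (by simp only [Units.val_mul, map_mul, Subfield.coe_mul]; ring)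

theorem sOf_apply (t : Fˣ) : sOf U t = (t : F) * t / U.σ t := rfl

theorem coe_nOf (t : Fˣ) : (nOf U t : F) = (t : F) * U.σ t := rfl

/-- Triangle data for a torus generator. -/
structure Tri (g : Fˣ) where
  i : ℕ
  j : ℕ
  htri : sOf U g ^ i = sOf U g ^ j + 1
  hj : nOf U g ^ j = 1
  genF : ∀ c : F, ∃ P : ℤ[X], aeval (sOf U g ^ i) P = c
  genK : ∀ c : KK U, ∃ P : ℤ[X], aeval (nOf U g ^ i) P = c

theorem exceptional {p f d : ℕ} (hp : p.Prime) (hd : 0 < d) (hdn : d ∣ 2 * f) (hlt : d < 2 * f)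
    (h : p ^ f + 1 ∣ 3 * (p ^ d - 1)) : p ^ f = 2 ∨ p ^ f = 5 ∨ p ^ f = 8 := by
  have hp2 := hp.two_le
  have hf : 1 ≤ f := by omega
  have hq2 : 2 ≤ p ^ f := hp2.trans (Nat.le_self_pow (by omega) p)
  by_cases hdf : d ∣ f
  · have h1 : p ^ d - 1 ∣ p ^ f - 1 := Nat.pow_sub_one_dvd_pow_sub_one p hdf
    have h2 := h.trans (Nat.mul_dvd_mul_left 3 h1)
    have h6 : p ^ f + 1 ∣ 6 := by
      have e : 3 * (p ^ f + 1) = 3 * (p ^ f - 1) + 6 := by omega
      exact (Nat.dvd_add_right h2).1 (e ▸ dvd_mul_left _ _)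
    have := Nat.le_of_dvd (by norm_num) h6
    have hb : p ^ f ≤ 5 := by omega
    generalize p ^ f = Q at hb hq2 h6 ⊢
    interval_cases Q <;> first | omega | norm_num at h6
  · obtain ⟨m, hm⟩ := hdn
    rcases Nat.even_or_odd m with ⟨k, rfl⟩ | hodd
    · exact absurd ⟨k, by rw [mul_add] at hm; omega⟩ hdf
    have hm3 : 3 ≤ m := by
      obtain ⟨k, rfl⟩ := hodd
      rcases k with _ | k
      · omega
      · omega
    obtain ⟨d', rfl⟩ : Even d := by
      have : Even (d * m) := ⟨f, by omega⟩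
      exact (Nat.even_mul.1 this).resolve_right (Nat.not_even_iff_odd.2 hodd)
    have hfd : 3 * d' ≤ f := by nlinarith
    have hpd : 1 ≤ p ^ (d' + d') := Nat.one_le_pow _ _ (by omega)
    have hne : 0 < 3 * (p ^ (d' + d') - 1) := by
      have : 2 ≤ p ^ (d' + d') := hp2.trans (Nat.le_self_pow (by omega) p)
      omega
    have hle := Nat.le_of_dvd hne h
    have h3 : p ^ (3 * d') ≤ p ^ f := Nat.pow_le_pow_right (by omega) hfd
    rw [show 3 * d' = d' + (d' + d') by ring, pow_add] at h3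
    have hsmall : p ^ d' < 3 := by
      by_contra hc
      push Not at hc
      have := Nat.mul_le_mul_right (p ^ (d' + d')) hc
      omega
    have hp' : p ^ d' = 2 := by
      have : 2 ≤ p ^ d' := hp2.trans (Nat.le_self_pow (by omega) p)
      omega
    have hd4 : p ^ (d' + d') = 4 := by rw [pow_add, hp']; norm_num
    rw [hd4] at hle h
    have hb : p ^ f ≤ 8 := by omega
    generalize p ^ f = Q at hb hq2 h ⊢
    interval_cases Q <;> first | omega | norm_num at h

theorem exists_short {p D : ℕ} [Fact p.Prime] {L : Type*} [Field L] [Algebra (ZMod p) L] [Finite L]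
    (hD : Module.finrank (ZMod p) L ≤ D) (s : L) (hspan : ∀ c : L, ∃ P : ℤ[X], aeval s P = c) (c : L) :
    ∃ R : ℤ[X], R.natDegree < D ∧ aeval s R = c := by
  obtain ⟨P, rfl⟩ := hspan c
  have hsurj : Function.Surjective (Polynomial.map (Int.castRingHom (ZMod p))) :=
    Polynomial.map_surjective _ ZMod.intCast_surjective
  have hmap : ∀ P : ℤ[X], aeval s (P.map (Int.castRingHom (ZMod p))) = aeval s P := fun P => by
    rw [← algebraMap_int_eq, aeval_map_algebraMap]
  have hint : IsIntegral (ZMod p) s := IsIntegral.of_finite _ _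
  set M := minpoly (ZMod p) s
  set r := P.map (Int.castRingHom (ZMod p)) %ₘ M with hr
  have hrD : r.natDegree < D := (natDegree_modByMonic_lt _ (minpoly.monic hint) (minpoly.ne_one _ _)).trans_le
    ((minpoly.natDegree_le s).trans hD)
  refine ⟨∑ i ∈ Finset.range D, C ((r.coeff i).val : ℤ) * X ^ i, ?_, ?_⟩
  · refine lt_of_le_of_lt (natDegree_sum_le_of_forall_le (n := D - 1) _ _ fun i hi => ?_) (by omega)
    exact (natDegree_C_mul_X_pow_le _ _).trans (by have := Finset.mem_range.1 hi; omega)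
  · have hs : aeval s r = aeval s P := by
      have := congrArg (aeval s) (modByMonic_add_div (P.map (Int.castRingHom (ZMod p))) M)
      rw [map_add, map_mul, minpoly.aeval, zero_mul, add_zero, hmap] at this
      exact this
    rw [← hs, aeval_eq_sum_range' hrD, map_sum]
    refine Finset.sum_congr rfl fun i _ => ?_
    rw [map_mul, aeval_C, map_pow, aeval_X, Algebra.smul_def]
    congr 1
    rw [map_natCast, ← map_natCast (algebraMap (ZMod p) L), ZMod.natCast_zmod_val]

variable [Fintype F] (hF : Fintype.card F = q ^ 2) (g : Fˣ) (hg : ∀ x : Fˣ, ∃ k : ℕ, g ^ k = x)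

include hF hg

theorem orderOf_gen : orderOf g = (q + 1) * (q - 1) := by
  rw [orderOf_eq_card_of_forall_mem_zpowers (fun x => by
      obtain ⟨k, hk⟩ := hg x; exact ⟨k, by rw [← hk]; simp⟩), Nat.card_units, Nat.card_eq_fintype_card, hF,
    ← Nat.sq_sub_sq, one_pow]

theorem nOf_surj (c : KK U) (hc : c ≠ 0) : ∃ k : ℕ, nOf U g ^ k = c := by
  obtain ⟨x, hx⟩ := U.exists_norm c c.2
  have hx0 : x ≠ 0 := fun e => hc (Subtype.ext (by rw [← hx, e, zero_mul]; rfl))
  obtain ⟨k, hk⟩ := hg (Units.mk0 x hx0)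
  exact ⟨k, Subtype.ext (by rw [← map_pow, hk, coe_nOf, Units.val_mk0, hx])⟩

theorem nOf_span (c : KK U) : ∃ P : ℤ[X], aeval (nOf U g) P = c := by
  rcases eq_or_ne c 0 with rfl | hc
  · exact ⟨0, map_zero _⟩
  · obtain ⟨k, hk⟩ := nOf_surj U hF g hg c hc
    exact ⟨X ^ k, by rw [map_pow, aeval_X, hk]⟩

theorem nOf_ne_one (hq : 3 ≤ q) : nOf U g ≠ 1 := by
  intro e
  have h : g ^ (q + 1) = 1 := Units.ext (by
    have := congrArg (fun c : KK U => (c : F)) e
    simp only [coe_nOf, U.hσ] at this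
    rw [Units.val_pow_eq_pow_val, pow_succ', this]
    rfl)
  have hd := Nat.le_of_dvd (by omega) (orderOf_dvd_of_pow_eq_one h)
  rw [orderOf_gen hF g hg] at hd
  have h2 : (q + 1) * 2 ≤ (q + 1) * (q - 1) := Nat.mul_le_mul_left _ (by omega)
  omega

theorem sOf_moved (hq : 3 ≤ q) : U.σ (sOf U g) ≠ sOf U g := by
  intro e
  have h0 := g.ne_zero
  have h1 := (map_ne_zero U.σ).2 h0
  rw [sOf_apply] at e
  simp only [map_div₀, map_mul, U.hσσ] at e
  field_simp at e
  have h : g ^ (3 * (q - 1)) = 1 := by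
    have e3 : (g : F) ^ (3 * q) = (g : F) ^ 3 := by
      rw [mul_comm, pow_mul, ← U.hσ]
      linear_combination e
    refine Units.ext (mul_right_cancel₀ (pow_ne_zero 3 h0) ?_)
    rw [Units.val_pow_eq_pow_val, ← pow_add, show 3 * (q - 1) + 3 = 3 * q by omega, e3, Units.val_one,
      one_mul]
  have hd := orderOf_dvd_of_pow_eq_one h
  rw [orderOf_gen hF g hg] at hd
  have h3 := Nat.le_of_dvd (by norm_num) (Nat.dvd_of_mul_dvd_mul_right (by omega) hd)
  omega

theorem exists_tri (h2 : q ≠ 2) (h5 : q ≠ 5) (h8 : q ≠ 8) : Nonempty (Tri U g) := by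
  have hq := CfsgLib.Classical.two_le_q hF
  obtain ⟨p, hpc⟩ := CharP.exists F
  have hp : Fact p.Prime := ⟨CharP.char_is_prime F p⟩
  obtain ⟨n, -, hn⟩ := FiniteField.card F p
  rw [hF] at hn
  obtain ⟨f, -, hqf⟩ := (Nat.dvd_prime_pow hp.out).1 (hn ▸ dvd_pow_self q two_ne_zero : q ∣ p ^ (n : ℕ))
  have hnf : (n : ℕ) = 2 * f := by
    refine Nat.pow_right_injective hp.out.two_le ?_
    show p ^ (n : ℕ) = p ^ (2 * f)
    rw [← hn, hqf, ← pow_mul, mul_comm]
  have hN := orderOf_gen hF g hg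
  set y : Fˣ := g ^ (q - 1) with hy
  have hyo : orderOf y = q + 1 := by
    rw [hy, orderOf_pow' g (by omega), hN, Nat.gcd_eq_right (dvd_mul_left _ _),
      Nat.mul_div_cancel _ (by omega)]
  have hyn : (y : F) * U.σ y = 1 := by
    rw [U.hσ, ← pow_succ', ← Units.val_pow_eq_pow_val, ← hyo, pow_orderOf_eq_one, Units.val_one]
  have hy0 := y.ne_zero
  have hσy : U.σ y = (y : F)⁻¹ := eq_inv_of_mul_eq_one_right hyn
  have hsy : sOf U y = (y : F) ^ 3 := by
    rw [sOf_apply, hσy]; field_simp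
  have no : ∀ k, 0 < k → k < q + 1 → y ^ k ≠ 1 := fun k hk hlt e =>
    absurd (Nat.le_of_dvd hk (hyo ▸ orderOf_dvd_of_pow_eq_one e)) (by omega)
  have h6 : ¬ q + 1 ∣ 6 := by
    intro h
    have := Nat.le_of_dvd (by norm_num) h
    have h7 : q ≤ 5 := by omega
    revert h
    interval_cases q <;> norm_num
    all_goals omega
  have he2 : (y : F) ^ 3 * (y : F) ^ 3 ≠ 1 := by
    intro e
    refine h6 (hyo ▸ orderOf_dvd_of_pow_eq_one (Units.ext ?_))
    rw [Units.val_pow_eq_pow_val, show 6 = 3 + 3 by norm_num, pow_add, e, Units.val_one]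
  set A := (y : F) ^ 3 + 1 with hA
  have hA0 : A ≠ 0 := fun e => he2 (by
    have : (y : F) ^ 3 = -1 := by linear_combination e
    rw [this]; ring)
  have hσA : U.σ A = A / (y : F) ^ 3 := by
    rw [hA, map_add, map_pow, map_one, hσy]; field_simp; ring
  obtain ⟨i, hi⟩ := hg (Units.mk0 A hA0 * y⁻¹)
  have hsi : sOf U g ^ i = A := by
    rw [← map_pow, hi, sOf_apply]
    simp only [Units.val_mul, Units.val_mk0, Units.val_inv_eq_inv_val, map_mul, map_inv₀, hσA, hσy, inv_inv]
    field_simp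
  have hni : (nOf U g ^ i : KK U) = nOf U (Units.mk0 A hA0 * y⁻¹) := by rw [← map_pow, hi]
  have hr : ((nOf U g ^ i : KK U) : F) = A + U.σ A := by
    rw [hni, coe_nOf]
    simp only [Units.val_mul, Units.val_mk0, Units.val_inv_eq_inv_val, map_mul, map_inv₀, hσA, hσy, inv_inv]
    rw [hA]
    field_simp
  have hmul : A * U.σ A = A + U.σ A := by rw [hσA, hA]; field_simp
  have genF : ∀ c : F, ∃ P : ℤ[X], aeval A P = c := by
    refine CfsgLib.SL2Pres.aeval_surjective_of_not_fixed (p := p) (n := 2 * f) (by rw [hF, hn, hnf]) A hA0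
      fun d hd0 hdlt hdvd e => ?_
    rw [hA, add_pow_char_pow, one_pow, add_left_inj, ← pow_mul, ← Units.val_pow_eq_pow_val,
      ← Units.val_pow_eq_pow_val, Units.val_inj] at e
    have hd' : y ^ (3 * (p ^ d - 1)) = 1 := by
      have h1 : 1 ≤ p ^ d := Nat.one_le_pow _ _ hp.out.pos
      have : y ^ (3 * (p ^ d - 1)) * y ^ 3 = 1 * y ^ 3 := by
        rw [← pow_add, show 3 * (p ^ d - 1) + 3 = 3 * p ^ d by omega, e, one_mul]
      exact mul_right_cancel this
    have hdv := orderOf_dvd_of_pow_eq_one hd'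
    rw [hyo, hqf] at hdv
    rcases exceptional hp.out hd0 hdvd hdlt hdv with h | h | h <;> rw [← hqf] at h <;> contradiction
  have hAmoved : U.σ A ≠ A := by
    intro e
    apply he2
    rw [hσA, div_eq_iff (pow_ne_zero _ hy0)] at e
    have : A * ((y : F) ^ 3 - 1) = 0 := by linear_combination -e
    rw [sub_eq_zero.1 ((mul_eq_zero.1 this).resolve_left hA0), one_mul]
  have genK : ∀ c : KK U, ∃ P : ℤ[X], aeval (nOf U g ^ i) P = c := by
    have hmap : ∀ P : ℤ[X], aeval ((nOf U g ^ i : KK U) : F) P = ((aeval (nOf U g ^ i) P : KK U) : F) :=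
      fun P => Polynomial.aeval_algHom_apply (RingHom.toIntAlgHom (KK U).subtype) (nOf U g ^ i) P
    have key : ∀ P : ℤ[X], ∃ a b : ℤ[X], aeval A P =
        aeval ((nOf U g ^ i : KK U) : F) a + aeval ((nOf U g ^ i : KK U) : F) b * A := by
      intro P
      induction P using Polynomial.induction_on with
      | C n => exact ⟨C n, 0, by simp⟩
      | add P Q hP hQ =>
        obtain ⟨a, b, e⟩ := hP
        obtain ⟨a', b', e'⟩ := hQ
        exact ⟨a + a', b + b', by rw [map_add, e, e', map_add, map_add]; ring⟩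
      | monomial n m hP =>
        obtain ⟨a, b, e⟩ := hP
        refine ⟨-(b * X), a + b * X, ?_⟩
        rw [pow_succ, ← mul_assoc, map_mul, e, aeval_X, map_neg, map_mul, map_add, map_mul, aeval_X, hr]
        linear_combination (-(aeval (A + U.σ A) b)) * hmul
    intro c
    obtain ⟨P, hP⟩ := genF c
    obtain ⟨a, b, e⟩ := key P
    rw [hP, hmap, hmap] at e
    have e' := congrArg U.σ e
    rw [map_add, map_mul, c.2, (aeval (nOf U g ^ i) a).2, (aeval (nOf U g ^ i) b).2] at e'
    simp only [RingHom.id_apply] at e'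
    have hb : ((aeval (nOf U g ^ i) b : KK U) : F) = 0 := by
      have : ((aeval (nOf U g ^ i) b : KK U) : F) * (U.σ A - A) = 0 := by linear_combination e - e'
      exact (mul_eq_zero.1 this).resolve_right (sub_ne_zero.2 hAmoved)
    exact ⟨a, Subtype.ext (by rw [e, hb, zero_mul, add_zero])⟩
  exact ⟨{
    i := i
    j := q - 1
    htri := by rw [hsi, ← map_pow, ← hy, hsy]
    hj := by rw [← map_pow, ← hy]; exact Subtype.ext (by rw [coe_nOf, hyn]; rfl)
    genF := fun c => by rw [hsi]; exact genF c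
    genK := genK }⟩

theorem sOf_span (hq : 3 ≤ q) (c : F) : ∃ P : ℤ[X], aeval (sOf U g) P = c := by
  by_cases h58 : q = 5 ∨ q = 8
  swap
  · push Not at h58
    obtain ⟨T⟩ := exists_tri U hF g hg (by omega) h58.1 h58.2
    obtain ⟨P, hP⟩ := T.genF c
    exact ⟨P.comp (X ^ T.i), by rw [aeval_comp, map_pow, aeval_X, hP]⟩
  obtain ⟨p, hpc⟩ := CharP.exists F
  have hp : Fact p.Prime := ⟨CharP.char_is_prime F p⟩
  obtain ⟨n, -, hn⟩ := FiniteField.card F p
  refine CfsgLib.SL2Pres.aeval_surjective_of_not_fixed (p := p) hn (sOf U g)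
    (div_ne_zero (mul_ne_zero g.ne_zero g.ne_zero) ((map_ne_zero U.σ).2 g.ne_zero)) (fun d hd0 hdlt hdvd e => ?_) c
  have h0 := g.ne_zero
  have h1 := (map_ne_zero U.σ).2 h0
  set m := p ^ d with hm
  have e1 : g ^ (2 * m + q) = g ^ (2 + q * m) := by
    rw [sOf_apply, U.hσ, div_pow, div_eq_div_iff (pow_ne_zero _ (pow_ne_zero _ h0)) (pow_ne_zero _ h0)] at e
    apply Units.ext
    simp only [Units.val_pow_eq_pow_val]
    rw [← pow_two, ← pow_mul, ← pow_mul, ← pow_add, ← pow_add] at e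
    exact e
  rw [hF] at hn
  have hN := orderOf_gen hF g hg
  rw [pow_eq_pow_iff_modEq, hN, Nat.ModEq] at e1
  have hnb : (n : ℕ) ≤ 6 := by
    by_contra h
    have h7 : 2 ^ 7 ≤ p ^ (n : ℕ) := (Nat.pow_le_pow_left hp.out.two_le 7).trans
      (Nat.pow_le_pow_right hp.out.pos (by omega))
    rcases h58 with rfl | rfl <;> omega
  rcases h58 with rfl | rfl
  · have hpe : p = 5 := by
      have h : p ∣ 5 ^ 2 := hn ▸ dvd_pow_self p n.pos.ne'
      exact (Nat.prime_dvd_prime_iff_eq hp.out (by norm_num)).1 (hp.out.dvd_of_dvd_pow h)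
    subst hpe
    have hn2 : (n : ℕ) = 2 := (Nat.pow_right_injective (le_refl 2 |>.trans (by norm_num)) hn).symm
    rw [hn2] at hdlt
    interval_cases d
    norm_num [hm] at e1
  · have hpe : p = 2 := by
      have h : p ∣ 2 ^ 6 := by rw [show (2 : ℕ) ^ 6 = 8 ^ 2 by norm_num]; exact hn ▸ dvd_pow_self p n.pos.ne'
      exact (Nat.prime_dvd_prime_iff_eq hp.out (by norm_num)).1 (hp.out.dvd_of_dvd_pow h)
    subst hpe
    have hn6 : (n : ℕ) = 6 := (Nat.pow_right_injective le_rfl
      ((show (2 : ℕ) ^ 6 = 8 ^ 2 by norm_num).trans hn)).symm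
    rw [hn6] at hdlt hdvd
    interval_cases d <;> first | norm_num [hm] at e1 | norm_num at hdvd

end CfsgLib.Presentations.SUPres
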