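/-
Extending a map of the Borel subgroup of `SU 3` by one involution: a criterion on unipotent elements.
-/
import Cfsg.Agent.Lib.Presentations.SUPres.U3Model

set_option autoImplicit false

namespace CfsgLib.Presentations.SUPres

open Matrix Cfsg CfsgLib.Chev.CT.Phan

universe u v

variable {F : Type u} [Field F] {q : ℕ} {U : UF F q} {Γ : Type v} [Group Γ]

variable (U)

/-- A unipotent element as a member of the Borel subgroup. -/
def uB (a b : F) (h : IsU U a b) : BB U := ⟨uE U a b h, uE_mem U h⟩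

/-- A diagonal element as a member of the Borel subgroup. -/
def hB : Fˣ →* BB U := (hHom U).codRestrict (BB U) (hE_mem U)

theorem coe_uB {a b : F} (h : IsU U a b) : ((uB U a b h : BB U) : T3 U) = uE U a b h := rfl

theorem coe_hB (t : Fˣ) : ((hB U t : BB U) : T3 U) = hE U t := rfl

/-- The data of an extension problem. -/
structure Ext (Γ : Type v) [Group Γ] where
  β : BB U →* Γ
  w : Γ
  w_sq : w * w = 1
  w_h : ∀ t : Fˣ, w * β (hB U t) = β (hB U (wt U t)) * w

variable {U}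

namespace Ext

variable (E : Ext U Γ)

/-- The graph of the map on the Borel subgroup. -/
def γ : BB U →* T3 U × Γ := (BB U).subtype.prod E.β

/-- The pair of Weyl elements. -/
def W : T3 U × Γ := (wE U, E.w)

/-- The elements in normal form. -/
def X : Set (T3 U × Γ) :=
  {p | (∃ x, p = E.γ x) ∨ ∃ (a b : F) (h : IsU U a b) (x : BB U), p = E.γ (uB U a b h) * E.W * E.γ x}

theorem γ_fst (x : BB U) : (E.γ x).1 = x := rfl

theorem W_sq : E.W * E.W = 1 := Prod.ext wE_sq E.w_sq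

theorem W_h (t : Fˣ) : E.W * E.γ (hB U t) = E.γ (hB U (wt U t)) * E.W :=
  Prod.ext (wE_hE t) (E.w_h t)

theorem mem_unique {p p' : T3 U × Γ} (hp : p ∈ E.X) (hp' : p' ∈ E.X) (e : p.1 = p'.1) : p = p' := by
  rcases hp with ⟨x, rfl⟩ | ⟨a, b, h, x, rfl⟩ <;> rcases hp' with ⟨x', rfl⟩ | ⟨a', b', h', x', rfl⟩
  · rw [Subtype.ext (a1 := x) (a2 := x') e]
  · have e' : (x : T3 U) = uE U a' b' h' * wE U * x' := e
    exact absurd (e' ▸ x.2) (not_mem_BB U h' x'.2)
  · have e' : uE U a b h * wE U * x = (x' : T3 U) := e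
    exact absurd (e' ▸ x'.2) (not_mem_BB U h x.2)
  · obtain ⟨ea, eb, ex⟩ := nf_unique U h h' x.2 x'.2 e
    subst ea eb
    rw [Subtype.ext ex]

theorem mul_γ {p : T3 U × Γ} (hp : p ∈ E.X) (y : BB U) : p * E.γ y ∈ E.X := by
  rcases hp with ⟨x, rfl⟩ | ⟨a, b, h, x, rfl⟩
  · exact Or.inl ⟨x * y, by rw [map_mul]⟩
  · exact Or.inr ⟨a, b, h, x * y, by rw [map_mul, mul_assoc]⟩

theorem γ_mul (y : BB U) {p : T3 U × Γ} (hp : p ∈ E.X) : E.γ y * p ∈ E.X := by
  rcases hp with ⟨x, rfl⟩ | ⟨a, b, h, x, rfl⟩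
  · exact Or.inl ⟨y * x, by rw [map_mul]⟩
  · obtain ⟨c, d, k, t, e⟩ := (y * uB U a b h).2
    have e' : y * uB U a b h = uB U c d k * hB U t := Subtype.ext e
    refine Or.inr ⟨c, d, k, hB U (wt U t) * x, ?_⟩
    rw [← mul_assoc, ← mul_assoc, ← map_mul, e', map_mul, map_mul, mul_assoc (E.γ (uB U c d k)),
      show E.γ (hB U t) * E.W = E.W * E.γ (hB U (wt U t)) by rw [E.W_h, wt_wt]]
    simp only [mul_assoc]

/-- The Weyl element may be moved past a unipotent element. -/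
def R (a b : F) : Prop := ∀ h : IsU U a b, E.W * E.γ (uB U a b h) * E.W ∈ E.X

theorem R_of_eq {a b : F} (h : IsU U a b) (hb : b ≠ 0)
    (e : E.w * E.β (uB U a b h) * E.w = E.β (uB U _ _ (h.flip_left hb)) * E.w *
      E.β (hB U (Units.mk0 b hb) * uB U _ _ (h.flip_right hb))) : E.R a b := fun _ =>
  Or.inr ⟨_, _, h.flip_left hb, hB U (Units.mk0 b hb) * uB U _ _ (h.flip_right hb),
    Prod.ext (wuw h hb) e⟩

theorem R_eq {a b : F} (h : IsU U a b) (hb : b ≠ 0) (hR : E.R a b) :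
    E.W * E.γ (uB U a b h) * E.W = E.γ (uB U _ _ (h.flip_left hb)) * E.W *
      E.γ (hB U (Units.mk0 b hb) * uB U _ _ (h.flip_right hb)) :=
  E.mem_unique (hR h) (Or.inr ⟨_, _, _, _, rfl⟩) (wuw h hb)

theorem R_zero : E.R 0 0 := fun _ => by
  rw [show uB U (0 : F) 0 IsU.zero = 1 from Subtype.ext uE_zero, map_one, mul_one, E.W_sq]
  exact Or.inl ⟨1, (map_one _).symm⟩

theorem R_scale {a b : F} (h : IsU U a b) (t : Fˣ) (hR : E.R a b) :
    E.R ((t : F) * t / U.σ t * a) ((t : F) * U.σ t * b) := fun h' => by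
  have e : uB U _ _ h' = hB U t * uB U a b h * (hB U t)⁻¹ := Subtype.ext (hE_uE t h).symm
  rw [e, map_mul, map_mul, ← map_inv (hB U)]
  have e2 : E.γ (hB U t⁻¹) * E.W = E.W * E.γ (hB U (wt U t⁻¹)) := by rw [E.W_h, wt_wt]
  have e3 : E.W * (E.γ (hB U t) * E.γ (uB U a b h) * E.γ (hB U t⁻¹)) * E.W
      = E.γ (hB U (wt U t)) * (E.W * E.γ (uB U a b h) * E.W) * E.γ (hB U (wt U t⁻¹)) := by
    simp only [mul_assoc]
    rw [e2, ← mul_assoc E.W, E.W_h, mul_assoc]
  rw [e3]
  exact E.mul_γ (E.γ_mul _ (hR h)) _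

theorem R_add {a b c : F} (h : IsU U a b) (hc : IsU U 0 c) (hb : b ≠ 0) (hc0 : c ≠ 0)
    (hR : E.R a b) (hRc : E.R 0 c) (hm : E.R (-a / b) (1 / b + 1 / c)) : E.R a (b + c) := fun h' => by
  have e : uB U a (b + c) h' = uB U a b h * uB U 0 c hc := Subtype.ext (by
    rw [Subgroup.coe_mul, coe_uB, coe_uB, coe_uB, uE_mul]
    exact uE_congr (add_zero a).symm (by simp) _)
  have hcc := hc.flip_left hc0
  have hm' : IsU U (-a / b) (1 / b + 1 / c) := by
    have := (h.flip_right hb).add hcc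
    simpa using this
  have em : uB U _ _ hm' = uB U _ _ (h.flip_right hb) * uB U _ _ hcc := Subtype.ext (by
    rw [Subgroup.coe_mul, coe_uB, coe_uB, coe_uB, uE_mul]
    exact uE_congr (by simp) (by simp) _)
  have e1 : E.W * E.γ (uB U a (b + c) h') * E.W
      = (E.W * E.γ (uB U a b h) * E.W) * (E.W * E.γ (uB U 0 c hc) * E.W) := by
    rw [e, map_mul]
    simp only [mul_assoc]
    rw [← mul_assoc E.W E.W, E.W_sq, one_mul]
  rw [e1, E.R_eq h hb hR, E.R_eq hc hc0 hRc, map_mul, map_mul]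
  set k := hB U (Units.mk0 b hb)
  set A := E.γ (uB U _ _ (h.flip_left hb))
  set C := E.γ (hB U (Units.mk0 c hc0)) * E.γ (uB U _ _ (hc.flip_right hc0))
  have e4 : A * E.W * (E.γ k * E.γ (uB U _ _ (h.flip_right hb))) * (E.γ (uB U _ _ hcc) * E.W * C)
      = A * E.γ (hB U (wt U (Units.mk0 b hb))) * (E.W * E.γ (uB U _ _ hm') * E.W) * C := by
    rw [em, map_mul]
    simp only [mul_assoc]
    rw [← mul_assoc E.W (E.γ k), show E.W * E.γ k = _ from E.W_h _, mul_assoc]
  rw [e4]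
  simp only [C, ← map_mul E.γ]
  refine E.mul_γ ?_ _
  rw [mul_assoc]
  exact E.γ_mul _ (E.γ_mul _ (hm hm'))

theorem W_mul (hR : ∀ a b, IsU U a b → E.R a b) {p : T3 U × Γ} (hp : p ∈ E.X) : E.W * p ∈ E.X := by
  rcases hp with ⟨x, rfl⟩ | ⟨a, b, h, x, rfl⟩
  · exact Or.inr ⟨0, 0, IsU.zero, x, by
      rw [show uB U (0 : F) 0 IsU.zero = 1 from Subtype.ext uE_zero, map_one, one_mul]⟩
  · rw [← mul_assoc, ← mul_assoc]
    exact E.mul_γ (hR a b h h) x

/-- The extension exists once every unipotent element passes. -/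
theorem exists_hom (hR : ∀ a b, IsU U a b → E.R a b) :
    ∃ Ψ : T3 U →* Γ, Ψ.comp (BB U).subtype = E.β ∧ Ψ (wE U) = E.w := by
  set H : Subgroup (T3 U × Γ) := E.γ.range ⊔ Subgroup.zpowers E.W with hH
  have hWi : E.W⁻¹ = E.W := inv_eq_of_mul_eq_one_right E.W_sq
  have hle : ∀ p ∈ H, p ∈ E.X := by
    intro p hp
    have hp' : p ∈ Subgroup.closure ((E.γ.range : Set (T3 U × Γ)) ∪ {E.W}) := by
      rwa [Subgroup.closure_union, Subgroup.closure_eq, ← Subgroup.zpowers_eq_closure]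
    induction hp' using Subgroup.closure_induction_left with
    | one => exact Or.inl ⟨1, (map_one _).symm⟩
    | mul_left x hx y hy ih =>
      rcases hx with ⟨z, rfl⟩ | rfl
      · exact E.γ_mul z (ih (by rwa [hH, Subgroup.closure_union, Subgroup.closure_eq,
          ← Subgroup.zpowers_eq_closure] at *))
      · exact E.W_mul hR (ih (by rwa [hH, Subgroup.closure_union, Subgroup.closure_eq,
          ← Subgroup.zpowers_eq_closure] at *))
    | inv_mul_cancel x hx y hy ih =>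
      rcases hx with ⟨z, rfl⟩ | rfl
      · rw [← map_inv]
        exact E.γ_mul _ (ih (by rwa [hH, Subgroup.closure_union, Subgroup.closure_eq,
          ← Subgroup.zpowers_eq_closure] at *))
      · rw [hWi]
        exact E.W_mul hR (ih (by rwa [hH, Subgroup.closure_union, Subgroup.closure_eq,
          ← Subgroup.zpowers_eq_closure] at *))
  let f : H →* T3 U := (MonoidHom.fst _ _).comp H.subtype
  have finj : Function.Injective f := fun p p' e => Subtype.ext (E.mem_unique (hle _ p.2) (hle _ p'.2) e)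
  have fsurj : Function.Surjective f := by
    rw [← MonoidHom.range_eq_top, eq_top_iff, ← closure_eq_top U, sup_le_iff, Subgroup.zpowers_le]
    refine ⟨fun x hx => ⟨⟨E.γ ⟨x, hx⟩, Subgroup.mem_sup_left ⟨_, rfl⟩⟩, rfl⟩,
      ⟨⟨E.W, Subgroup.mem_sup_right (Subgroup.mem_zpowers _)⟩, rfl⟩⟩
  let e := MulEquiv.ofBijective f ⟨finj, fsurj⟩
  have key : ∀ p : H, e.symm (p : T3 U × Γ).1 = p := fun p => e.symm_apply_apply p
  refine ⟨(MonoidHom.snd _ _).comp (H.subtype.comp e.symm.toMonoidHom), MonoidHom.ext fun x => ?_, ?_⟩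
  · have := key ⟨E.γ x, Subgroup.mem_sup_left ⟨x, rfl⟩⟩
    show (e.symm (x : T3 U)).1.2 = E.β x
    exact (congrArg (fun p : H => p.1.2) this)
  · have := key ⟨E.W, Subgroup.mem_sup_right (Subgroup.mem_zpowers _)⟩
    show (e.symm (wE U)).1.2 = E.w
    exact (congrArg (fun p : H => p.1.2) this)

end Ext

end CfsgLib.Presentations.SUPres
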