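/-
Four unipotent elements passing the Weyl element force all of them to pass.
-/
import Cfsg.Agent.Lib.Presentations.SUPres.U3Bruhat
import Cfsg.Agent.Lib.Classical.HermBasic

set_option autoImplicit false

namespace CfsgLib.Presentations.SUPres

open Matrix Cfsg CfsgLib.Chev.CT.Phan

universe u v

variable {F : Type u} [Field F] {q : ℕ} {U : UF F q} {Γ : Type v} [Group Γ]

theorem isU_point {s : F} (hs : s * U.σ s = 1) (hs1 : s ≠ 1) (a : F) :
    IsU U a (a * U.σ a / (s - 1)) := by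
  have h1 : s - 1 ≠ 0 := sub_ne_zero.2 hs1
  have h2 : U.σ s - 1 ≠ 0 := sub_ne_zero.2 fun e => hs1 (by rw [e, mul_one] at hs; exact hs)
  unfold IsU
  simp only [map_div₀, map_mul, map_sub, map_one, U.hσσ]
  field_simp
  linear_combination (a * U.σ a) * hs

theorem IsU.ratio {a b : F} (h : IsU U a b) (ha : a ≠ 0) :
    ∃ s : F, s * U.σ s = 1 ∧ s ≠ 1 ∧ b = a * U.σ a / (s - 1) := by
  have hn : a * U.σ a ≠ 0 := mul_ne_zero ha ((map_ne_zero U.σ).2 ha)
  have h' : b + U.σ b + a * U.σ a = 0 := h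
  have hb : b ≠ 0 := fun e => hn (by simpa [e] using h')
  have hbs := (map_ne_zero U.σ).2 hb
  have hne : -U.σ b / b ≠ 1 := by
    rw [Ne, div_eq_one_iff_eq hb]
    exact fun e => hn (by linear_combination h' + e)
  refine ⟨-U.σ b / b, ?_, hne, ?_⟩
  · simp only [map_div₀, map_neg, U.hσσ]
    field_simp
  · rw [eq_div_iff (sub_ne_zero.2 hne)]
    field_simp
    linear_combination -h'

namespace Ext

variable (E : Ext U Γ)

theorem all_R_of_seeds (g : Fˣ) (hg : ∀ x : Fˣ, ∃ k : ℕ, g ^ k = x) (ζ : F) (hζ : ζ * U.σ ζ = 1)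
    (hord : ∀ k, 0 < k → k ≤ q → ζ ^ k ≠ 1) (hsurj : ∀ s, s * U.σ s = 1 → s ≠ 1 → ∃ k, 0 < k ∧ k ≤ q ∧ ζ ^ k = s)
    {c₀ : F} (hc₀ : c₀ ≠ 0) (hc₀' : IsU U 0 c₀) (hRc : E.R 0 c₀)
    (hRs : ∀ i : Fin 3, E.R ((g : F) ^ (i : ℕ)) ((g : F) ^ (i : ℕ) * U.σ ((g : F) ^ (i : ℕ)) / (ζ - 1))) :
    ∀ a b, IsU U a b → E.R a b := by
  have hq : 1 ≤ q := by
    by_contra h
    obtain rfl : q = 0 := by omega
    obtain ⟨z, hz⟩ := U.exists_moved
    have h0 := U.hσ 0
    simp at h0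
  have hζ1 : ζ ≠ 1 := by simpa using hord 1 one_pos hq
  have hR0 : ∀ c, IsU U 0 c → E.R 0 c := by
    intro c hc
    rcases eq_or_ne c 0 with rfl | hc0
    · exact E.R_zero
    have e1 : U.σ c = -c := by
      have : c + U.σ c + 0 * U.σ 0 = 0 := hc
      linear_combination this
    have e2 : U.σ c₀ = -c₀ := by
      have : c₀ + U.σ c₀ + 0 * U.σ 0 = 0 := hc₀'
      linear_combination this
    obtain ⟨x, hx⟩ := U.exists_norm (c / c₀) (by rw [map_div₀, e1, e2, neg_div_neg_eq])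
    have hx0 : x ≠ 0 := by
      rintro rfl
      rw [zero_mul, eq_comm, div_eq_zero_iff] at hx
      exact hx.elim hc0 hc₀
    have := E.R_scale hc₀' (Units.mk0 x hx0) hRc
    rwa [mul_zero, Units.val_mk0, hx, div_mul_cancel₀ _ hc₀] at this
  have hseed : ∀ a, a ≠ 0 → E.R a (a * U.σ a / (ζ - 1)) := by
    intro a ha
    obtain ⟨k, hk⟩ := hg (Units.mk0 a ha)
    have hka : (g : F) ^ k = a := by
      have := congrArg Units.val hk
      simpa using this
    obtain ⟨m, i, hi, rfl⟩ : ∃ m i, i < 3 ∧ k = 3 * m + i :=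
      ⟨k / 3, k % 3, Nat.mod_lt _ (by norm_num), by omega⟩
    set x := g ^ m with hx
    have hxσ := (map_ne_zero U.σ).2 x.ne_zero
    set t : Fˣ := x * x * Units.map (U.σ : F →* F) x
    have h := isU_point (U := U) hζ hζ1 ((g : F) ^ i)
    have := E.R_scale h t (hRs ⟨i, hi⟩)
    have e : (t : F) * t / U.σ t * (g : F) ^ i = a := by
      rw [← hka, pow_add, mul_comm 3 m, pow_mul, ← Units.val_pow_eq_pow_val g m, ← hx]
      simp only [t, Units.val_mul, Units.coe_map, MonoidHom.coe_coe, map_mul, U.hσσ]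
      field_simp
    rw [e] at this
    convert this using 1
    rw [← e]
    have htσ : U.σ t ≠ 0 := (map_ne_zero U.σ).2 t.ne_zero
    simp only [map_mul, map_div₀, U.hσσ]
    field_simp
  have hall : ∀ k, 0 < k → k ≤ q → ∀ a, a ≠ 0 → E.R a (a * U.σ a / (ζ ^ k - 1)) := by
    intro k
    induction k with
    | zero => intro h; omega
    | succ k ih =>
      intro _ hk a ha
      rcases Nat.eq_zero_or_pos k with rfl | hk0
      · simpa using hseed a ha
      have hn : a * U.σ a ≠ 0 := mul_ne_zero ha ((map_ne_zero U.σ).2 ha)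
      have hk1 : ζ ^ (k + 1) ≠ 1 := hord _ (by omega) hk
      have hk' : ζ ^ k ≠ 1 := hord _ hk0 (by omega)
      have hζk : ∀ j, ζ ^ j * U.σ (ζ ^ j) = 1 := fun j => by rw [map_pow, ← mul_pow, hζ, one_pow]
      have hζ0 : ζ ≠ 0 := fun e => zero_ne_one (α := F) (by rw [e, zero_mul] at hζ; exact hζ)
      set b := a * U.σ a / (ζ - 1) with hbdef
      set b' := a * U.σ a / (ζ ^ (k + 1) - 1) with hb'def
      have h := isU_point (U := U) hζ hζ1 a
      have h' := isU_point (U := U) (hζk (k + 1)) hk1 a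
      rw [← hbdef] at h
      rw [← hb'def] at h'
      have hc : IsU U 0 (b' - b) := by
        unfold IsU at h h' ⊢
        rw [map_sub]
        linear_combination h' - h
      have d1 : ζ - 1 ≠ 0 := sub_ne_zero.2 hζ1
      have d2 : ζ ^ (k + 1) - 1 ≠ 0 := sub_ne_zero.2 hk1
      have d3 : ζ ^ k - 1 ≠ 0 := sub_ne_zero.2 hk'
      have hb : b ≠ 0 := div_ne_zero hn d1
      have hc0 : b' - b ≠ 0 := by
        rw [hbdef, hb'def, div_sub_div _ _ d2 d1]
        refine div_ne_zero (fun e => ?_) (mul_ne_zero d2 d1)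
        have : (a * U.σ a * ζ) * (ζ ^ k - 1) = 0 := by linear_combination -e
        exact mul_ne_zero (mul_ne_zero hn hζ0) d3 this
      have hma : -a / b ≠ 0 := div_ne_zero (neg_ne_zero.2 ha) hb
      have := E.R_add h hc hb hc0 (hseed a ha) (hR0 _ hc) ?_
      · rwa [add_sub_cancel] at this
      convert ih hk0 (by omega) _ hma using 1
      have hσa := (map_ne_zero U.σ).2 ha
      have hσζ : U.σ ζ = ζ⁻¹ := eq_inv_of_mul_eq_one_right hζ
      have d4 : ζ⁻¹ - 1 ≠ 0 := sub_ne_zero.2 fun e => hζ1 (inv_eq_one.1 e)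
      have d5 : 1 - ζ ^ k ≠ 0 := sub_ne_zero.2 (Ne.symm hk')
      have ec : b' - b = a * U.σ a * ζ * (1 - ζ ^ k) / ((ζ ^ (k + 1) - 1) * (ζ - 1)) := by
        rw [hbdef, hb'def, div_sub_div _ _ d2 d1, div_left_inj' (mul_ne_zero d2 d1)]
        ring
      rw [ec, hbdef]
      simp only [map_div₀, map_mul, map_neg, map_sub, map_one, U.hσσ, hσζ]
      field_simp
      ring
  intro a b h
  rcases eq_or_ne a 0 with rfl | ha
  · exact hR0 b h
  obtain ⟨s, hs, hs1, rfl⟩ := h.ratio ha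
  obtain ⟨k, hk0, hkq, rfl⟩ := hsurj s hs hs1
  exact hall k hk0 hkq a ha

end Ext

theorem exists_norm_gen [Fintype F] (hF : Fintype.card F = q ^ 2) (g : Fˣ)
    (hg : ∀ x : Fˣ, ∃ k : ℕ, g ^ k = x) :
    ∃ ζ : F, ζ * U.σ ζ = 1 ∧ (∀ k, 0 < k → k ≤ q → ζ ^ k ≠ 1) ∧
      ∀ s, s * U.σ s = 1 → s ≠ 1 → ∃ k, 0 < k ∧ k ≤ q ∧ ζ ^ k = s := by
  classical
  have hq := CfsgLib.Classical.two_le_q hF
  have hN : orderOf g = (q + 1) * (q - 1) := by
    rw [orderOf_eq_card_of_forall_mem_zpowers (fun x => by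
      obtain ⟨k, hk⟩ := hg x; exact ⟨k, by rw [← hk]; simp⟩), Nat.card_units, Nat.card_eq_fintype_card, hF,
      ← Nat.sq_sub_sq, one_pow]
  set z : Fˣ := g ^ (q - 1) with hz
  have hzo : orderOf z = q + 1 := by
    rw [hz, orderOf_pow' g (by omega), hN, Nat.gcd_eq_right (dvd_mul_left _ _),
      Nat.mul_div_cancel _ (by omega)]
  have hzn : ∀ x : Fˣ, (x : F) * U.σ x = ((x ^ (q + 1) : Fˣ) : F) := fun x => by
    rw [U.hσ, Units.val_pow_eq_pow_val, pow_succ']
  refine ⟨(z : F), by rw [hzn, ← hzo, pow_orderOf_eq_one, Units.val_one], fun k hk hkq e => ?_, fun s hs hs1 => ?_⟩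
  · have : z ^ k = 1 := Units.ext (by rw [Units.val_pow_eq_pow_val, e, Units.val_one])
    have := Nat.le_of_dvd hk (orderOf_dvd_of_pow_eq_one this)
    omega
  · have hs0 : s ≠ 0 := fun e => by rw [e, zero_mul] at hs; exact zero_ne_one hs
    obtain ⟨m, hm⟩ := hg (Units.mk0 s hs0)
    have h1 : g ^ (m * (q + 1)) = 1 := by
      rw [pow_mul, hm]
      exact Units.ext (by rw [← hzn]; simpa using hs)
    have hd : (q + 1) * (q - 1) ∣ m * (q + 1) := hN ▸ orderOf_dvd_of_pow_eq_one h1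
    rw [mul_comm m] at hd
    obtain ⟨j, rfl⟩ := Nat.dvd_of_mul_dvd_mul_left (by omega) hd
    refine ⟨j % (q + 1), ?_, Nat.lt_succ_iff.1 (Nat.mod_lt _ (by omega)), ?_⟩
    · rw [Nat.pos_iff_ne_zero]
      intro e
      apply hs1
      have e' : z ^ j = 1 := by rw [← hzo] at e; rw [← pow_mod_orderOf, e, pow_zero]
      have e'' := congrArg Units.val hm
      rw [pow_mul, ← hz, e'] at e''
      simpa using e''.symm
    · rw [← Units.val_pow_eq_pow_val, ← hzo, pow_mod_orderOf, hz, ← pow_mul, hm, Units.val_mk0]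

end CfsgLib.Presentations.SUPres
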