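/-
The Borel subgroup of the unitary model: centre, two by two image, order.
-/
import Cfsg.Agent.Lib.Presentations.SUPres.U3Seeds
import Cfsg.Agent.Lib.Presentations.SUPres.U3Field

set_option autoImplicit false

namespace CfsgLib.Presentations.SUPres

open Matrix Cfsg CfsgLib.Chev.CT.Phan CfsgLib.SL2Pres
open Multiplicative (ofAdd toAdd)
open Polynomial (aeval)

universe u

variable {F : Type u} [Field F] {q : ℕ} (U : UF F q)

/-- The upper left corner. -/
def corner : BB U →* Matrix (Fin 2) (Fin 2) F where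
  toFun x := !![mat x.1 0 0, mat x.1 0 1; mat x.1 1 0, mat x.1 1 1]
  map_one' := by
    ext i j
    rw [show ((1 : BB U) : T3 U) = 1 from rfl, mat_one]
    fin_cases i <;> fin_cases j <;> simp
  map_mul' x y := by
    obtain ⟨a, b, h, t, e⟩ := y.2
    rw [Subgroup.coe_mul, mat_mul, e, mat_uh]
    ext i j
    fin_cases i <;> fin_cases j <;> simp [Matrix.mul_apply, Fin.sum_univ_three, Fin.sum_univ_two]

/-- The upper left corner as an invertible matrix. -/
def cornerU : BB U →* (Matrix (Fin 2) (Fin 2) F)ˣ := (corner U).toHomUnits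

theorem coe_cornerU (x : BB U) : (cornerU U x : Matrix (Fin 2) (Fin 2) F) = corner U x := rfl

theorem cornerU_uB {a b : F} (h : IsU U a b) :
    (cornerU U (uB U a b h) : Matrix (Fin 2) (Fin 2) F) = !![1, a; 0, 1] := by
  rw [coe_cornerU]
  show !![mat (uE U a b h) 0 0, mat (uE U a b h) 0 1; mat (uE U a b h) 1 0, mat (uE U a b h) 1 1] = _
  rw [mat_uE]
  simp

theorem cornerU_hB (t : Fˣ) :
    (cornerU U (hB U t) : Matrix (Fin 2) (Fin 2) F) = !![(t : F), 0; 0, U.σ t / t] := by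
  rw [coe_cornerU]
  show !![mat (hE U t) 0 0, mat (hE U t) 0 1; mat (hE U t) 1 0, mat (hE U t) 1 1] = _
  rw [mat_hE]
  simp

/-- Upper unitriangular two by two matrices. -/
def X2 : Multiplicative F →* (Matrix (Fin 2) (Fin 2) F)ˣ :=
  MonoidHom.toHomUnits
    { toFun := fun c => !![1, toAdd c; 0, 1]
      map_one' := by ext i j; fin_cases i <;> fin_cases j <;> simp
      map_mul' := fun c d => by
        ext i j
        fin_cases i <;> fin_cases j <;> simp [Matrix.mul_apply, Fin.sum_univ_two, add_comm] }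

theorem coe_X2 (c : F) : (X2 (ofAdd c) : Matrix (Fin 2) (Fin 2) F) = !![1, c; 0, 1] := rfl

theorem cornerU_conj (t : Fˣ) :
    IsConjHom (sOf U t) X2 (cornerU U (hB U t)) := by
  intro c
  rw [mul_inv_eq_iff_eq_mul]
  refine Units.ext ?_
  have h0 := t.ne_zero
  have h1 := (map_ne_zero U.σ).2 h0
  rw [Units.val_mul, Units.val_mul, cornerU_hB, coe_X2, coe_X2, sOf_apply]
  ext i j
  fin_cases i <;> fin_cases j <;> simp [Matrix.mul_apply, Fin.sum_univ_two] <;> field_simp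

/-- A nonzero element of trace zero, attached to a torus element. -/
def cZ (g : Fˣ) : F := sOf U g - U.σ (sOf U g)

theorem cZ_skew (g : Fˣ) : U.σ (cZ U g) = -cZ U g := by simp [cZ, map_sub, U.hσσ]

theorem isU_cZ (g : Fˣ) (c : KK U) : IsU U 0 (cZ U g * c) := by
  unfold IsU
  rw [map_mul, cZ_skew, c.2]
  simp

/-- The centre of the unipotent group. -/
def XZm (g : Fˣ) : Multiplicative (KK U) →* BB U :=
  MonoidHom.mk' (fun c => uB U 0 _ (isU_cZ U g (toAdd c))) fun c d => Subtype.ext (by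
    rw [Subgroup.coe_mul, coe_uB, coe_uB, coe_uB, uE_mul]
    exact uE_congr (zero_add _).symm (by simp [mul_add]) _)

theorem XZm_apply (g : Fˣ) (c : KK U) : XZm U g (ofAdd c) = uB U 0 _ (isU_cZ U g c) := rfl

theorem XZm_conj (g : Fˣ) : IsConjHom (nOf U g) (XZm U g) (hB U g) := by
  intro c
  refine Subtype.ext ?_
  simp only [Subgroup.coe_mul, Subgroup.coe_inv, XZm_apply, coe_uB, coe_hB]
  rw [hE_uE]
  exact uE_congr (mul_zero _) (by simp only [Subfield.coe_mul, coe_nOf]; ring) _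

/-- The unipotent generator. -/
def u0 (ζ : F) (hζ : ζ * U.σ ζ = 1) (hζ1 : ζ ≠ 1) : BB U := uB U 1 _ (isU_point (U := U) hζ hζ1 1)

variable {U}

theorem cornerU_u0 {ζ : F} (hζ : ζ * U.σ ζ = 1) (hζ1 : ζ ≠ 1) : cornerU U (u0 U ζ hζ hζ1) = X2 (ofAdd 1) := by
  refine Units.ext ?_
  rw [u0, cornerU_uB, coe_X2]

theorem u0_comm (g : Fˣ) {ζ : F} (hζ : ζ * U.σ ζ = 1) (hζ1 : ζ ≠ 1) :
    u0 U ζ hζ hζ1 * (hB U g * u0 U ζ hζ hζ1 * (hB U g)⁻¹) * (u0 U ζ hζ hζ1)⁻¹ *
      (hB U g * u0 U ζ hζ hζ1 * (hB U g)⁻¹)⁻¹ = XZm U g (ofAdd 1) := by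
  rw [mul_inv_eq_iff_eq_mul, mul_inv_eq_iff_eq_mul]
  refine Subtype.ext ?_
  simp only [Subgroup.coe_mul, Subgroup.coe_inv, XZm_apply, u0, coe_uB, coe_hB]
  rw [hE_uE, uE_mul, uE_mul, uE_mul]
  refine uE_congr (by ring) ?_ _
  have h0 := g.ne_zero
  have h1 := (map_ne_zero U.σ).2 h0
  simp only [cZ, sOf_apply, map_mul, map_div₀, map_one, map_zero, U.hσσ, OneMemClass.coe_one, mul_zero,
    zero_mul, sub_zero, mul_one, one_mul]
  field_simp
  ring

theorem corner_ker (g : Fˣ) (hz : cZ U g ≠ 0) {x : BB U} (hx : cornerU U x = 1) :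
    ∃ c : KK U, x = XZm U g (ofAdd c) := by
  obtain ⟨a, b, h, t, e⟩ := x.2
  have e' : x = uB U a b h * hB U t := Subtype.ext e
  rw [e'] at hx
  have hx' := congrArg Units.val hx
  rw [map_mul, Units.val_mul, cornerU_uB, cornerU_hB, Units.val_one] at hx'
  have h00 := congrFun (congrFun hx' 0) 0
  have h01 := congrFun (congrFun hx' 0) 1
  simp [Matrix.mul_apply, Fin.sum_univ_two] at h00 h01
  subst h00
  have ha : a = 0 := h01
  subst ha
  have hb : b + U.σ b + 0 * U.σ 0 = 0 := h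
  have hbs : U.σ b = -b := by linear_combination hb
  refine ⟨⟨b / cZ U g, by rw [mem_KK, map_div₀, hbs, cZ_skew, neg_div_neg_eq]⟩, ?_⟩
  rw [e', map_one, mul_one, XZm_apply]
  exact Subtype.ext (uE_congr rfl (by field_simp) h)

variable [Fintype F] (hF : Fintype.card F = q ^ 2) (g : Fˣ) (hg : ∀ x : Fˣ, ∃ k : ℕ, g ^ k = x)
  {ζ : F} (hζ : ζ * U.σ ζ = 1) (hζ1 : ζ ≠ 1)

include hF hg

theorem cZ_ne_zero (hq : 3 ≤ q) : cZ U g ≠ 0 :=
  sub_ne_zero.2 (Ne.symm (sOf_moved U hF g hg hq))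

theorem gen_BB (hq : 3 ≤ q) : Subgroup.closure ({u0 U ζ hζ hζ1, hB U g} : Set (BB U)) = ⊤ := by
  set H := Subgroup.closure ({u0 U ζ hζ hζ1, hB U g} : Set (BB U))
  have hu : u0 U ζ hζ hζ1 ∈ H := Subgroup.subset_closure (Or.inl rfl)
  have hh : hB U g ∈ H := Subgroup.subset_closure (Or.inr rfl)
  have hpw : ∀ (z : BB U), z ∈ H → ∀ P, polyWord (hB U g) z ((1 : ℕ) : ℤ) P ∈ H := by
    intro z hz P
    refine Subgroup.list_prod_mem _ fun x hx => ?_
    obtain ⟨i, -, rfl⟩ := List.mem_map.1 hx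
    exact zpow_mem (mul_mem (mul_mem (zpow_mem hh _) hz) (inv_mem (zpow_mem hh _))) _
  have hZ : ∀ c : KK U, XZm U g (ofAdd c) ∈ H := by
    intro c
    obtain ⟨P, hP⟩ := nOf_span U hF g hg c
    rw [← hP, ← pow_one (nOf U g), ← (XZm_conj U g).polyWord_eq]
    refine hpw _ ?_ P
    rw [← u0_comm g hζ hζ1]
    exact mul_mem (mul_mem (mul_mem hu (mul_mem (mul_mem hh hu) (inv_mem hh))) (inv_mem hu))
      (inv_mem (mul_mem (mul_mem hh hu) (inv_mem hh)))
  rw [eq_top_iff]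
  intro x _
  obtain ⟨a, b, h, t, e⟩ := x.2
  have e' : x = uB U a b h * hB U t := Subtype.ext e
  obtain ⟨P, hP⟩ := sOf_span U hF g hg hq a
  set y := polyWord (hB U g) (u0 U ζ hζ hζ1) ((1 : ℕ) : ℤ) P with hy
  have hyc : cornerU U y = cornerU U (uB U a b h) := by
    rw [hy, map_polyWord, cornerU_u0, (cornerU_conj U g).polyWord_eq, pow_one, hP]
    exact Units.ext (by rw [coe_X2, cornerU_uB])
  obtain ⟨c, hc⟩ := corner_ker g (cZ_ne_zero hF g hg hq) (x := y⁻¹ * uB U a b h)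
    (by rw [map_mul, map_inv, hyc, inv_mul_cancel])
  rw [e', inv_mul_eq_iff_eq_mul.1 hc]
  obtain ⟨k, rfl⟩ := hg t
  rw [map_pow]
  exact mul_mem (mul_mem (hpw _ hu P) (hZ c)) (pow_mem hh k)

theorem card_BB_ge (hq : 3 ≤ q) :
    Nat.card (KK U) * Nat.card F * ((q + 1) * (q - 1)) ≤ Nat.card (BB U) := by
  obtain ⟨ζ, hζ, hord, -⟩ := exists_norm_gen (U := U) hF g hg
  have hζ1 : ζ ≠ 1 := by simpa using hord 1 one_pos (by omega)
  let pt : F → F := fun a => a * U.σ a / (ζ - 1)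
  have hI : ∀ (c : KK U) (a : F), IsU U a (pt a + cZ U g * c) := fun c a => by
    have h1 := isU_point (U := U) hζ hζ1 a
    have h2 := isU_cZ U g c
    unfold IsU at h1 h2 ⊢
    rw [map_add]
    linear_combination h1 + h2
  let Φ : KK U × F × Fin ((q + 1) * (q - 1)) → BB U := fun p =>
    uB U _ _ (hI p.1 p.2.1) * hB U (g ^ (p.2.2 : ℕ))
  have hinj : Function.Injective Φ := by
    rintro ⟨c, a, i⟩ ⟨c', a', i'⟩ e
    have e' := congrArg (fun x : BB U => mat (x : T3 U)) e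
    simp only [Φ, Subgroup.coe_mul, coe_uB, coe_hB, mat_uh] at e'
    have h00 := congrFun (congrFun e' 0) 0
    have h01 := congrFun (congrFun e' 0) 1
    have h02 := congrFun (congrFun e' 0) 2
    simp at h00 h01 h02
    have hii : i = i' := Fin.ext (pow_injOn_Iio_orderOf (x := g)
      (by rw [Set.mem_Iio, orderOf_gen hF g hg]; exact i.2)
      (by rw [Set.mem_Iio, orderOf_gen hF g hg]; exact i'.2) (Units.ext (by simpa using h00)))
    subst hii
    have hne : U.σ ((g : F) ^ (i : ℕ)) ≠ 0 := (map_ne_zero U.σ).2 (pow_ne_zero _ g.ne_zero)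
    have hne' : ((g : F) ^ (i : ℕ)) ≠ 0 := pow_ne_zero _ g.ne_zero
    simp only [← map_pow] at h01 h02
    have haa : a = a' := mul_right_cancel₀ (div_ne_zero hne hne') h01
    subst haa
    have hcc : c = c' := Subtype.ext (mul_left_cancel₀ (cZ_ne_zero hF g hg hq)
      (add_left_cancel (mul_right_cancel₀ (inv_ne_zero hne) h02)))
    subst hcc
    rfl
  have := Nat.card_le_card_of_injective Φ hinj
  simpa [Nat.card_prod, mul_assoc] using this

end CfsgLib.Presentations.SUPres
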