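/-
Few relations force the Borel subgroup of `SU 3`.
-/
import Cfsg.Agent.Lib.Presentations.SUPres.GraphHom
import Cfsg.Agent.Lib.Presentations.SUPres.U3BorelModel
import Cfsg.Agent.Lib.Presentations.Bounded

set_option autoImplicit false

namespace CfsgLib.Presentations.SUPres

open Cfsg CfsgLib.Chev.CT.Phan CfsgLib.SL2Pres Polynomial
open Multiplicative (ofAdd toAdd)

universe u v

/-- The commutator word generating the centre. -/
def zW : FreeGroup (Fin 3) := gU * (gH * gU * gH⁻¹) * gU⁻¹ * (gH * gU * gH⁻¹)⁻¹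

/-- A commutator word. -/
def commW (a b : FreeGroup (Fin 3)) : FreeGroup (Fin 3) := a * b * a⁻¹ * b⁻¹

theorem commW_lift {G : Type*} [Group G] (f : Fin 3 → G) (a b : FreeGroup (Fin 3)) :
    FreeGroup.lift f (commW a b) = 1 ↔ Commute (FreeGroup.lift f a) (FreeGroup.lift f b) := by
  rw [commW, map_mul, map_mul, map_mul, map_inv, map_inv, mul_inv_eq_one, mul_inv_eq_iff_eq_mul]
  rfl

theorem lift_mem_closure {G : Type*} [Group G] (u h w : G) (H : Subgroup G) (hu : u ∈ H) (hh : h ∈ H) (hw : w ∈ H)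
    (W : FreeGroup (Fin 3)) : FreeGroup.lift ![u, h, w] W ∈ H := by
  have : (FreeGroup.lift ![u, h, w]).range ≤ H := by
    rw [FreeGroup.range_lift_eq_closure, Subgroup.closure_le]
    rintro _ ⟨i, rfl⟩
    fin_cases i <;> assumption
  exact this ⟨W, rfl⟩

theorem conj_pow_hom {R : Type*} [Field R] {G : Type*} [Group G] {X : Multiplicative R →* G} {h : G} {μ : R}
    (hX : IsConjHom μ X h) (n : ℕ) (c : R) : h ^ n * X (ofAdd c) * (h ^ n)⁻¹ = X (ofAdd (μ ^ n * c)) := by
  induction n with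
  | zero => simp
  | succ n ih =>
    rw [pow_succ', pow_succ', mul_assoc μ, ← hX, ← ih]
    group

variable {F : Type u} [Field F] [Fintype F] {q : ℕ} {U : UF F q} (hF : Fintype.card F = q ^ 2)
  (hq : 3 ≤ q) (g : Fˣ) (hg : ∀ x : Fˣ, ∃ k : ℕ, g ^ k = x) {ζ : F} (hζ : ζ * U.σ ζ = 1) (hζ1 : ζ ≠ 1)

/-- The generators of the Borel subgroup, with a dummy third one. -/
def mB : Fin 3 → BB U := ![u0 U ζ hζ hζ1, hB U g, 1]

/-- Short polynomial expressions for the elements of the fixed field. -/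
structure ShortK (U : UF F q) (g : Fˣ) where
  P : KK U → ℤ[X]
  hP : ∀ c, aeval (nOf U g) (P c) = c

variable (S : ShortK U g)

/-- The word of a central element. -/
noncomputable def cW (c : KK U) : FreeGroup (Fin 3) := polyWord gH zW ((1 : ℕ) : ℤ) (S.P c)

/-- A relation word corrected by a central word. -/
noncomputable def fixW (W : FreeGroup (Fin 3)) : FreeGroup (Fin 3) :=
  W * (cW g S (Classical.epsilon fun c => FreeGroup.lift (mB g hζ hζ1) W = XZm U g (ofAdd c)))⁻¹

theorem mB_zW : FreeGroup.lift (mB g hζ hζ1) zW = XZm U g (ofAdd 1) := by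
  rw [← u0_comm g hζ hζ1]
  simp [zW, gU, gH, mB]

theorem mB_cW (c : KK U) : FreeGroup.lift (mB g hζ hζ1) (cW g S c) = XZm U g (ofAdd c) := by
  rw [cW, map_polyWord, mB_zW, mB, lift_gH, (XZm_conj U g).polyWord_eq, pow_one, S.hP]

include hF hq hg in
theorem fixW_sound {W : FreeGroup (Fin 3)} (h : cornerU U (FreeGroup.lift (mB g hζ hζ1) W) = 1) :
    FreeGroup.lift (mB g hζ hζ1) (fixW g hζ hζ1 S W) = 1 := by
  have hex : ∃ c, FreeGroup.lift (mB g hζ hζ1) W = XZm U g (ofAdd c) :=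
    corner_ker g (cZ_ne_zero hF g hg hq) h
  have := Classical.epsilon_spec hex
  rw [fixW, map_mul, map_inv, mB_cW, ← this, mul_inv_cancel]

/-- What the relations on the centre give in any group. -/
structure ZHom {P : Type v} [Group P] (uu hh ww : P) where
  X : Multiplicative (KK U) →* P
  one : X (ofAdd 1) = FreeGroup.lift ![uu, hh, ww] zW
  conj : IsConjHom (nOf U g) X hh
  word : ∀ c, FreeGroup.lift ![uu, hh, ww] (cW g S c) = X (ofAdd c)

/-- Relations on the torus and the centre. -/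
noncomputable def relsZ (p b : ℕ) (f : ℤ[X]) : List (FreeGroup (Fin 3)) :=
  [gH ^ ((q + 1) * (q - 1)), cj gH zW 1 * (cj gH zW (b : ℤ) * zW)⁻¹, commW zW (cj gH zW 1), zW ^ p,
    polyWord gH zW ((1 : ℕ) : ℤ) f]

include hF hg in
theorem relsZ_sound {p b : ℕ} {f : ℤ[X]} [CharP F p] (hb : nOf U g = nOf U g ^ b + 1)
    (hf : aeval (nOf U g) f = 0) :
    ∀ r ∈ relsZ (q := q) p b f, FreeGroup.lift (mB g hζ hζ1) r = 1 := by
  have hX := XZm_conj U g
  have e1 : FreeGroup.lift (mB g hζ hζ1) gH = hB U g := by simp [mB, gH]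
  haveI : CharP (KK U) p := (RingHom.charP_iff (KK U).subtype Subtype.val_injective p).2 inferInstance
  intro r hr
  simp only [relsZ, List.mem_cons, List.not_mem_nil, or_false] at hr
  rcases hr with rfl | rfl | rfl | rfl | rfl
  · rw [map_pow, e1, ← map_pow, ← orderOf_gen hF g hg, pow_orderOf_eq_one, map_one]
  · rw [map_mul, map_inv, map_mul, map_cj, map_cj, e1, mB_zW, show (1 : ℤ) = ((1 : ℕ) : ℤ) from rfl,
      hX.cj_eq, hX.cj_eq, ← map_mul, ← ofAdd_add, pow_one, ← hb, mul_inv_cancel]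
  · rw [commW_lift, map_cj, e1, mB_zW, show (1 : ℤ) = ((1 : ℕ) : ℤ) from rfl, hX.cj_eq]
    exact (Commute.all _ _).map (XZm U g)
  · rw [map_pow, mB_zW]
    exact hom_pow_char (XZm U g)
  · rw [map_polyWord, e1, mB_zW, hX.polyWord_eq, pow_one, hf, ofAdd_zero, map_one]

theorem zhom_of_rels {p b : ℕ} {f : ℤ[X]} [CharP F p] (hgen : ∀ c : KK U, ∃ P : ℤ[X], aeval (nOf U g) P = c)
    (hfker : ∀ P : ℤ[X], aeval (nOf U g) P = 0 → ∃ Q R : ℤ[X], P = f * Q + C (p : ℤ) * R)
    {P : Type v} [Group P] {uu hh ww : P}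
    (h : ∀ r ∈ relsZ (q := q) p b f, FreeGroup.lift ![uu, hh, ww] r = 1) :
    hh ^ ((q + 1) * (q - 1)) = 1 ∧ Nonempty (ZHom g S uu hh ww) := by
  haveI : CharP (KK U) p := (RingHom.charP_iff (KK U).subtype Subtype.val_injective p).2 inferInstance
  simp only [relsZ, List.mem_cons, List.not_mem_nil, or_false, forall_eq_or_imp, forall_eq, map_pow, map_mul,
    map_inv, map_cj, map_polyWord, lift_gH, commW_lift] at h
  obtain ⟨h1, h2, h3, h4, h5⟩ := h
  refine ⟨h1, ?_⟩
  set z := FreeGroup.lift ![uu, hh, ww] zW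
  have hall : ∀ i : ℤ, Commute z (cj hh z (i * ((1 : ℕ) : ℤ))) := fun i => by
    simpa using commute_lattice (mul_inv_eq_one.1 h2) h3 i 0
  obtain ⟨X, hX1, hXc⟩ := exists_hom hh z ((1 : ℕ) : ℤ) hall (nOf U g) (nOf U g) hgen f Polynomial.X h4 h5 hfker
    (by simp [polyWord, List.range_succ, cj, coeff_X]) (aeval_X _)
  refine ⟨⟨X, hX1, hXc, fun c => ?_⟩⟩
  rw [cW, map_polyWord, lift_gH, show FreeGroup.lift ![uu, hh, ww] zW = X (ofAdd 1) from hX1.symm,
    IsConjHom.polyWord_eq (s := nOf U g) hXc, pow_one, S.hP]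

variable {g S} {P : Type v} [Group P] {uu hh ww : P} (Z : ZHom g S uu hh ww)

theorem ZHom.mem_closure (c : KK U) : Z.X (ofAdd c) ∈ Subgroup.closure ({uu, hh} : Set P) := by
  rw [← Z.word c, cW, map_polyWord, lift_gH]
  have hu : uu ∈ Subgroup.closure ({uu, hh} : Set P) := Subgroup.subset_closure (Or.inl rfl)
  have hh' : hh ∈ Subgroup.closure ({uu, hh} : Set P) := Subgroup.subset_closure (Or.inr rfl)
  refine Subgroup.list_prod_mem _ fun x hx => ?_
  obtain ⟨i, -, rfl⟩ := List.mem_map.1 hx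
  refine zpow_mem (mul_mem (mul_mem (zpow_mem hh' _) ?_) (inv_mem (zpow_mem hh' _))) _
  simp only [zW, map_mul, map_inv, lift_gU, lift_gH]
  exact mul_mem (mul_mem (mul_mem hu (mul_mem (mul_mem hh' hu) (inv_mem hh'))) (inv_mem hu))
    (inv_mem (mul_mem (mul_mem hh' hu) (inv_mem hh')))

theorem ZHom.of_fixW {W : FreeGroup (Fin 3)}
    (h : FreeGroup.lift ![uu, hh, ww] (fixW g hζ hζ1 S W) = 1) :
    FreeGroup.lift ![uu, hh, ww] W ∈ Z.X.range := by
  rw [fixW, map_mul, map_inv, mul_inv_eq_one, Z.word] at h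
  exact ⟨_, h.symm⟩

/-- The centre commutes with the unipotent generator as soon as it does so on a spanning set. -/
theorem ZHom.central_of_eq {A : KK U} {D : ℕ} {R : ℤ[X]} (hR : R.natDegree < D)
    (h : ∀ d, d < D → Commute (Z.X (ofAdd (A ^ d))) uu) : Commute (Z.X (ofAdd (aeval A R))) uu := by
  rw [aeval_eq_sum_range' hR]
  refine Finset.sum_induction _ (fun x => Commute (Z.X (ofAdd x)) uu)
    (fun a b h1 h2 => by rw [ofAdd_add, map_mul]; exact h1.mul_left h2)
    (by rw [ofAdd_zero, map_one]; exact Commute.one_left _) fun i hi => ?_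
  rw [ofAdd_zsmul, map_zpow]
  exact (h i (Finset.mem_range.1 hi)).zpow_left _

/-- The group generated by the two elements is small. -/
theorem ZHom.card_le (hN : hh ^ ((q + 1) * (q - 1)) = 1) (hN0 : 0 < (q + 1) * (q - 1)) (s : F)
    (hww : ww = 1) (hcen : ∀ c, Commute (Z.X (ofAdd c)) uu)
    (hA : ∀ (Q : Type v) [Group Q] (ub hb : Q),
      (∀ W, FreeGroup.lift ![uu, hh, ww] W ∈ Z.X.range → FreeGroup.lift ![ub, hb, 1] W = 1) →
        ∃ X : Multiplicative F →* Q, X (ofAdd 1) = ub ∧ IsConjHom s X hb) :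
    Finite (Subgroup.closure ({uu, hh} : Set P)) ∧
      Nat.card (Subgroup.closure ({uu, hh} : Set P)) ≤ Nat.card (KK U) * Nat.card F * ((q + 1) * (q - 1)) := by
  have e : Subgroup.closure ({uu, hh} : Set P) = Subgroup.closure ({uu, hh} ∪ Set.range Z.X) := by
    refine le_antisymm (Subgroup.closure_mono Set.subset_union_left) ((Subgroup.closure_le _).2 ?_)
    rintro x (hx | ⟨c, rfl⟩)
    · exact Subgroup.subset_closure hx
    · exact Z.mem_closure (toAdd c)
  rw [e]
  refine card_triple_le (K := KK U) hN0 hN (nOf U g) s Z.X Z.conj hcen fun Q _ φ hφ => ?_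
  refine hA Q _ _ fun W hW => ?_
  let u' : Subgroup.closure ({uu, hh} ∪ Set.range Z.X) := ⟨uu, Subgroup.subset_closure (Or.inl (Or.inl rfl))⟩
  let h' : Subgroup.closure ({uu, hh} ∪ Set.range Z.X) := ⟨hh, Subgroup.subset_closure (Or.inl (Or.inr rfl))⟩
  have e1 : FreeGroup.lift ![φ u', φ h', 1] W = φ (FreeGroup.lift ![u', h', 1] W) := by
    rw [CfsgLib.Presentations.lift_natural φ]
    congr 1
    exact congrArg _ (funext fun i => by fin_cases i <;> simp)
  have e2 : ((FreeGroup.lift ![u', h', 1] W : Subgroup.closure ({uu, hh} ∪ Set.range Z.X)) : P) = FreeGroup.lift ![uu, hh, ww] W := by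
    rw [show ((FreeGroup.lift ![u', h', 1] W : Subgroup.closure ({uu, hh} ∪ Set.range Z.X)) : P) = (Subgroup.closure ({uu, hh} ∪ Set.range Z.X)).subtype (FreeGroup.lift ![u', h', 1] W) from rfl,
      CfsgLib.Presentations.lift_natural (Subgroup.closure ({uu, hh} ∪ Set.range Z.X)).subtype]
    congr 1
    exact congrArg _ (funext fun i => by fin_cases i <;> simp [u', h', hww])
  show FreeGroup.lift ![φ u', φ h', 1] W = 1
  rw [e1]
  exact hφ _ (e2 ▸ hW)

end CfsgLib.Presentations.SUPres
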