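/-
The relations presenting the Borel subgroup of `SU 3`.
-/
import Cfsg.Agent.Lib.Presentations.SUPres.U3Borel

set_option autoImplicit false

namespace CfsgLib.Presentations.SUPres

open Cfsg CfsgLib.Chev.CT.Phan CfsgLib.SL2Pres Polynomial
open CfsgLib.Presentations (lift_natural)
open Multiplicative (ofAdd toAdd)

universe u

/-- Conjugates stay in the span of the first ones, which commute. -/
theorem commute_all_of_monic {G : Type*} [Group G] {h u : G} {N : ℕ} (hN0 : 0 < N) (hN : h ^ N = 1)
    (f : ℤ[X]) (hf : f.Monic) (hD : ∀ d : ℕ, d < f.natDegree → Commute u (cj h u (d : ℤ)))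
    (hpoly : polyWord h u ((1 : ℕ) : ℤ) f = 1) (i : ℤ) : Commute u (cj h u i) := by
  set D := f.natDegree with hDdef
  set C := Subgroup.closure (Set.range fun k : Fin D => cj h u ((k : ℕ) : ℤ)) with hC
  have hmem : ∀ k, k < D → cj h u (k : ℤ) ∈ C := fun k hk => Subgroup.subset_closure ⟨⟨k, hk⟩, rfl⟩
  have hDC : cj h u (D : ℤ) ∈ C := by
    rw [polyWord, List.range_succ, List.map_append, List.prod_append, List.map_singleton, List.prod_singleton,
      ← hDdef, show f.coeff D = 1 from hf.coeff_natDegree, zpow_one, Nat.cast_one, mul_one] at hpoly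
    rw [eq_inv_of_mul_eq_one_right hpoly]
    refine inv_mem (Subgroup.list_prod_mem _ fun x hx => ?_)
    obtain ⟨k, hk, rfl⟩ := List.mem_map.1 hx
    rw [mul_one]
    exact zpow_mem (hmem k (List.mem_range.1 hk)) _
  have hshift : ∀ x ∈ C, h * x * h⁻¹ ∈ C := by
    intro x hx
    refine Subgroup.closure_induction (p := fun x _ => h * x * h⁻¹ ∈ C) ?_ (by simp) ?_ ?_ hx
    · rintro _ ⟨k, rfl⟩
      have e : h * cj h u ((k : ℕ) : ℤ) * h⁻¹ = cj h u (((k : ℕ) + 1 : ℕ) : ℤ) := by
        push_cast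
        rw [add_comm, ← cj_conj, zpow_one]
      rw [e]
      rcases Nat.lt_or_ge (k + 1) D with hk | hk
      · exact hmem _ hk
      · rw [show (k : ℕ) + 1 = D by omega]; exact hDC
    · intro x y _ _ h1 h2
      rw [show h * (x * y) * h⁻¹ = (h * x * h⁻¹) * (h * y * h⁻¹) by group]
      exact mul_mem h1 h2
    · intro x _ h1
      rw [show h * x⁻¹ * h⁻¹ = (h * x * h⁻¹)⁻¹ by group]
      exact inv_mem h1
  have hnat : ∀ k : ℕ, cj h u (k : ℤ) ∈ C := by
    intro k
    induction k with
    | zero =>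
      rcases Nat.eq_zero_or_pos D with h0 | h0
      · rw [h0] at hDC; exact hDC
      · exact hmem 0 h0
    | succ k ih =>
      rw [show ((k + 1 : ℕ) : ℤ) = 1 + (k : ℤ) by push_cast; ring, ← cj_conj, zpow_one]
      exact hshift _ ih
  have hi : cj h u i ∈ C := by
    have e : cj h u i = cj h u ((i % (N : ℤ)).toNat : ℤ) := by
      rw [Int.toNat_of_nonneg (Int.emod_nonneg _ (by omega))]
      conv_lhs => rw [← Int.emod_add_mul_ediv i (N : ℤ)]
      simp only [cj, zpow_add, zpow_mul, zpow_natCast, hN, one_zpow, mul_one]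
    rw [e]; exact hnat _
  refine Subgroup.closure_induction (p := fun x _ => Commute u x) ?_ (Commute.one_right u)
    (fun _ _ _ _ h1 h2 => h1.mul_right h2) (fun _ _ h1 => h1.inv_right) hi
  rintro _ ⟨k, rfl⟩
  exact hD k k.2

theorem exists_monic_ker {p : ℕ} [Fact p.Prime] {L : Type*} [Field L] [Algebra (ZMod p) L] [Finite L] (A : L) :
    ∃ f : ℤ[X], f.Monic ∧ f.natDegree ≤ Module.finrank (ZMod p) L ∧ aeval A f = 0 ∧
      ∀ P : ℤ[X], aeval A P = 0 → ∃ Q R : ℤ[X], P = f * Q + C (p : ℤ) * R := by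
  have hsurj : Function.Surjective (Polynomial.map (Int.castRingHom (ZMod p))) :=
    Polynomial.map_surjective _ ZMod.intCast_surjective
  have hint : IsIntegral (ZMod p) A := IsIntegral.of_finite _ _
  obtain ⟨g, hg⟩ := hsurj (minpoly (ZMod p) A)
  obtain ⟨f, hf, hdeg, hmon⟩ := Polynomial.lifts_and_natDegree_eq_and_monic
    (p := minpoly (ZMod p) A) (f := Int.castRingHom (ZMod p)) (Polynomial.mem_lifts _ |>.2 ⟨g, hg⟩)
    (minpoly.monic hint)
  have hmap : ∀ P : ℤ[X], aeval A (P.map (Int.castRingHom (ZMod p))) = aeval A P := by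
    intro P
    rw [← algebraMap_int_eq, aeval_map_algebraMap]
  refine ⟨f, hmon, hdeg ▸ minpoly.natDegree_le A, by rw [← hmap, hf, minpoly.aeval], fun P hP => ?_⟩
  obtain ⟨Q₀, hQ₀⟩ := minpoly.dvd (ZMod p) A (show aeval A (P.map (Int.castRingHom (ZMod p))) = 0 by
    rw [hmap, hP])
  obtain ⟨Q, rfl⟩ := hsurj Q₀
  have h0 : (P - f * Q).map (Int.castRingHom (ZMod p)) = 0 := by
    rw [Polynomial.map_sub, Polynomial.map_mul, hf, hQ₀, sub_self]
  obtain ⟨R, hR⟩ : C (p : ℤ) ∣ P - f * Q := by
    rw [C_dvd_iff_dvd_coeff]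
    intro i
    have := congrArg (fun q => q.coeff i) h0
    simp only [coeff_map, coeff_zero, eq_intCast] at this
    exact (ZMod.intCast_zmod_eq_zero_iff_dvd _ p).1 this
  exact ⟨Q, R, by rw [← hR]; ring⟩

variable {F : Type u} [Field F] [Fintype F] {q : ℕ} (U : UF F q)

/-- Relations on `u` and `h` that force the Borel subgroup. -/
structure BRels (g : Fˣ) {ζ : F} (hζ : ζ * U.σ ζ = 1) (hζ1 : ζ ≠ 1) where
  L : List (FreeGroup (Fin 3))
  len : L.length ≤ 14
  sound : ∀ r ∈ L, FreeGroup.lift (mB g hζ hζ1) r = 1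
  force : ∀ (P : Type u) [Group P] (uu hh : P), (∀ r ∈ L, FreeGroup.lift ![uu, hh, 1] r = 1) →
    Finite (Subgroup.closure ({uu, hh} : Set P)) ∧
      Nat.card (Subgroup.closure ({uu, hh} : Set P)) ≤ Nat.card (KK U) * Nat.card F * ((q + 1) * (q - 1))

variable {U} (hF : Fintype.card F = q ^ 2) (hq : 3 ≤ q) (g : Fˣ) (hg : ∀ x : Fˣ, ∃ k : ℕ, g ^ k = x)
  {ζ : F} (hζ : ζ * U.σ ζ = 1) (hζ1 : ζ ≠ 1)

theorem corner_lift (W : FreeGroup (Fin 3)) : cornerU U (FreeGroup.lift (mB g hζ hζ1) W) =
    FreeGroup.lift ![X2 (ofAdd 1), cornerU U (hB U g), 1] W := by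
  rw [lift_natural (cornerU U)]
  congr 1
  exact congrArg _ (funext fun i => by fin_cases i <;> simp [mB, cornerU_u0])

include hF hq hg in
theorem exists_brels : Nonempty (BRels U g hζ hζ1) := by
  classical
  have hN0 : 0 < (q + 1) * (q - 1) := Nat.mul_pos (by omega) (by omega)
  obtain ⟨p, hpc⟩ := CharP.exists F
  have hp : Fact p.Prime := ⟨CharP.char_is_prime F p⟩
  haveI : CharP (KK U) p := (RingHom.charP_iff (KK U).subtype Subtype.val_injective p).2 inferInstance
  letI : Algebra (ZMod p) (KK U) := ZMod.algebra _ p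
  letI : Algebra (ZMod p) F := ZMod.algebra F p
  obtain ⟨fK, -, -, hfK0, hfKker⟩ := exists_monic_ker (p := p) (nOf U g)
  have hspanK := nOf_span U hF g hg
  obtain ⟨b, hb⟩ : ∃ b, nOf U g = nOf U g ^ b + 1 := by
    obtain ⟨b, hb⟩ := nOf_surj U hF g hg (nOf U g - 1) (sub_ne_zero.2 (nOf_ne_one U hF g hg hq))
    exact ⟨b, by rw [hb, sub_add_cancel]⟩
  have hZs := relsZ_sound (U := U) hF g hg hζ hζ1 (p := p) hb hfK0
  have hX2 := cornerU_conj U g
  set L2 := FreeGroup.lift ![(X2 (ofAdd 1) : (Matrix (Fin 2) (Fin 2) F)ˣ), cornerU U (hB U g), 1]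
  have hfix : ∀ (S : ShortK U g) (W : FreeGroup (Fin 3)), L2 W = 1 →
      FreeGroup.lift (mB g hζ hζ1) (fixW g hζ hζ1 S W) = 1 := fun S W h =>
    fixW_sound hF hq g hg hζ hζ1 S (by rw [corner_lift]; exact h)
  by_cases h58 : q = 5 ∨ q = 8
  swap
  · -- triangle data
    push Not at h58
    obtain ⟨T⟩ := exists_tri U hF g hg (by omega) h58.1 h58.2
    obtain ⟨f, hf0, hfker⟩ := poly_ker (p := p) (sOf U g ^ T.i)
    obtain ⟨Ps, hPs⟩ := T.genF (sOf U g)
    choose PK hPK using hspanK
    let S : ShortK U g := ⟨PK, hPK⟩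
    let A1 := gU ^ p
    let A2 := commW gU (cj gH gU (T.i : ℤ))
    let A3 := cj gH gU (T.j : ℤ) * gU * (cj gH gU (T.i : ℤ))⁻¹
    let A4 := polyWord gH gU (T.i : ℤ) f
    let A5 := gH * gU * gH⁻¹ * (polyWord gH gU (T.i : ℤ) Ps)⁻¹
    refine ⟨⟨relsZ (q := q) p b fK ++ commW zW gU :: [A1, A2, A3, A4, A5].map (fixW g hζ hζ1 S),
      by simp [relsZ], ?_, ?_⟩⟩
    · intro r hr
      rcases List.mem_append.1 hr with hr | hr
      · exact hZs r hr
      rcases List.mem_cons.1 hr with rfl | hr
      · rw [commW_lift, mB_zW]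
        refine Subtype.ext ?_
        simp only [mB, lift_gU, u0, XZm_apply, Subgroup.coe_mul, coe_uB]
        rw [uE_mul, uE_mul]
        refine uE_congr (by ring) ?_ _
        simp [add_comm]
      obtain ⟨W, hW, rfl⟩ := List.mem_map.1 hr
      refine hfix S W ?_
      simp only [List.mem_cons, List.not_mem_nil, or_false] at hW
      rcases hW with rfl | rfl | rfl | rfl | rfl
      · simp only [A1, L2, map_pow, lift_gU]; exact hom_pow_char X2
      · simp only [A2, L2]
        rw [commW_lift, map_cj, lift_gU, lift_gH, hX2.cj_eq]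
        exact (Commute.all _ _).map X2
      · simp only [A3, L2, map_mul, map_inv, map_cj, lift_gU, lift_gH, hX2.cj_eq]
        rw [← map_mul, ← ofAdd_add, T.htri, mul_inv_cancel]
      · simp only [A4, L2, map_polyWord, lift_gU, lift_gH, hX2.polyWord_eq, hf0, ofAdd_zero, map_one]
      · simp only [A5, L2, map_mul, map_inv, map_polyWord, lift_gU, lift_gH, hX2.polyWord_eq, hPs]
        rw [hX2, mul_one, mul_inv_cancel]
    · intro P _ uu hh h
      simp only [List.forall_mem_append, List.forall_mem_cons, List.map_cons, List.map_nil] at h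
      obtain ⟨hz, hc, h1, h2, h3, h4, h5, -⟩ := h
      obtain ⟨hhN, ⟨Z⟩⟩ := zhom_of_rels g S (p := p) (nOf_span U hF g hg) hfKker hz
      have hcen : ∀ c, Commute (Z.X (ofAdd c)) uu := by
        set K0 := fun r => Commute (Z.X (ofAdd r)) uu
        have h10 : K0 1 := by
          rw [commW_lift, lift_gU, ← Z.one] at hc; exact hc
        obtain ⟨d, hd⟩ := Z.of_fixW hζ hζ1 h3
        simp only [A3, map_mul, map_inv, map_cj, lift_gU, lift_gH] at hd
        have hdown : ∀ r, K0 (nOf U g ^ T.i * r) → K0 r := by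
          intro r hr
          have e1 : Commute (Z.X (ofAdd (nOf U g ^ T.i * r))) (cj hh uu (T.j : ℤ)) := by
            have := hr.map (MulAut.conj (hh ^ T.j)).toMonoidHom
            rw [show (MulAut.conj (hh ^ T.j)).toMonoidHom (Z.X (ofAdd (nOf U g ^ T.i * r))) =
              hh ^ T.j * Z.X (ofAdd (nOf U g ^ T.i * r)) * (hh ^ T.j)⁻¹ from rfl, conj_pow_hom Z.conj,
              T.hj, one_mul] at this
            rwa [cj, zpow_natCast]
          have e2 : Commute (Z.X (ofAdd (nOf U g ^ T.i * r))) (cj hh uu (T.i : ℤ)) := by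
            rw [show cj hh uu (T.i : ℤ) = (Z.X d)⁻¹ * (cj hh uu (T.j : ℤ) * uu) by rw [hd]; group]
            exact ((Commute.all _ d).map Z.X).inv_right.mul_right (e1.mul_right hr)
          rw [← conj_pow_hom Z.conj, cj, zpow_natCast] at e2
          have := e2.map (MulAut.conj (hh ^ T.i)⁻¹).toMonoidHom
          simp only [MulEquiv.coe_toMonoidHom, MulAut.conj_apply] at this
          show Commute _ _
          convert this using 1 <;> group
        have hpow : ∀ k m, K0 ((nOf U g ^ T.i) ^ (k + m)) → K0 ((nOf U g ^ T.i) ^ m) := by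
          intro k
          induction k with
          | zero => intro m hm; rwa [zero_add] at hm
          | succ k ih => exact fun m hm => ih m (hdown _ (by
              rwa [← pow_succ', show k + m + 1 = k + 1 + m by omega]))
        have hall : ∀ m, K0 ((nOf U g ^ T.i) ^ m) := fun m => by
          refine hpow (m * ((q + 1) * (q - 1)) - m) m ?_
          rw [Nat.sub_add_cancel (Nat.le_mul_of_pos_right _ hN0), ← map_pow, ← map_pow,
            mul_comm m, ← pow_mul, mul_left_comm, pow_mul, ← orderOf_gen hF g hg, pow_orderOf_eq_one,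
            one_pow, map_one]
          exact h10
        intro c
        obtain ⟨R, hR⟩ := T.genK c
        exact hR ▸ Z.central_of_eq (Nat.lt_succ_self R.natDegree) fun d _ => hall d
      refine Z.card_le (g := g) hhN hN0 (sOf U g) rfl hcen fun Q _ ub hb0 hk => ?_
      have k1 := hk _ (Z.of_fixW hζ hζ1 h1)
      have k2 := hk _ (Z.of_fixW hζ hζ1 h2)
      have k3 := hk _ (Z.of_fixW hζ hζ1 h3)
      have k4 := hk _ (Z.of_fixW hζ hζ1 h4)
      have k5 := hk _ (Z.of_fixW hζ hζ1 h5)
      simp only [A1, A2, A3, A4, A5, map_pow, map_mul, map_inv, map_cj, map_polyWord, lift_gU, lift_gH,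
        commW_lift] at k1 k2 k3 k4 k5
      have hall' : ∀ i : ℤ, Commute ub (cj hb0 ub (i * (T.i : ℤ))) := fun i => by
        simpa using commute_lattice (mul_inv_eq_one.1 k3).symm k2 i 0
      exact exists_hom hb0 ub (T.i : ℤ) hall' (sOf U g ^ T.i) (sOf U g) T.genF f Ps k1 k4 hfker
        (mul_inv_eq_one.1 k5) hPs
  · -- small fields
    have hKF : Nat.card (KK U) * Nat.card (KK U) ≤ Nat.card F := by
      obtain ⟨z, hz⟩ := U.exists_moved
      have hinj : Function.Injective fun p : KK U × KK U => (p.1 : F) + p.2 * z := by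
        rintro ⟨a, b⟩ ⟨c, d⟩ e
        simp only at e
        have e' := congrArg U.σ e
        simp only [map_add, map_mul] at e'
        rw [a.2, b.2, c.2, d.2] at e'
        simp only [RingHom.id_apply] at e'
        have hbd : (b : F) = d := sub_eq_zero.1 ((mul_eq_zero.1
          (show ((b : F) - d) * (U.σ z - z) = 0 by linear_combination e' - e)).resolve_right (sub_ne_zero.2 hz))
        rw [hbd] at e
        exact Prod.ext (Subtype.ext (add_right_cancel e)) (Subtype.ext hbd)
      simpa [Nat.card_prod] using Nat.card_le_card_of_injective _ hinj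
    have hF64 : Nat.card F ≤ 2 ^ 6 := by
      rw [Nat.card_eq_fintype_card, hF]
      rcases h58 with rfl | rfl <;> norm_num
    have hdF : Module.finrank (ZMod p) F ≤ 6 := by
      have h := Module.natCard_eq_pow_finrank (K := ZMod p) (V := F)
      rw [Nat.card_zmod] at h
      refine (Nat.pow_le_pow_iff_right (le_refl 2)).1 ?_
      exact ((Nat.pow_le_pow_left hp.out.two_le _).trans h.ge).trans hF64
    letI : Module (ZMod p) (KK U) := Algebra.toModule
    have hdK : Module.finrank (ZMod p) (KK U) ≤ 3 := by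
      have h := Module.natCard_eq_pow_finrank (K := ZMod p) (V := KK U)
      rw [Nat.card_zmod] at h
      have h2 : 2 ^ (2 * Module.finrank (ZMod p) (KK U)) ≤ 2 ^ 6 := by
        refine ((Nat.pow_le_pow_left hp.out.two_le _).trans ?_).trans (hKF.trans hF64)
        rw [h, two_mul, pow_add]
      have := (Nat.pow_le_pow_iff_right (le_refl 2)).1 h2
      omega
    have hshort : ∀ c : KK U, ∃ R : ℤ[X], R.natDegree < 3 ∧ aeval (nOf U g) R = c :=
      exists_short (p := p) hdK _ hspanK
    choose PK hPK using hspanK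
    let S : ShortK U g := ⟨PK, hPK⟩
    obtain ⟨f, hfm, hfdeg, hf0, hfker⟩ := exists_monic_ker (p := p) (sOf U g)
    let Lc := (List.range 3).map fun d : ℕ => commW (cj gH zW (d : ℤ)) gU
    let La := gU ^ p :: polyWord gH gU ((1 : ℕ) : ℤ) f ::
      (List.range' 2 (f.natDegree - 2)).map fun d : ℕ => commW gU (cj gH gU (d : ℤ))
    refine ⟨⟨relsZ (q := q) p b fK ++ Lc ++ La.map (fixW g hζ hζ1 S),
      by simp [relsZ, Lc, La]; omega, ?_, ?_⟩⟩
    · intro r hr
      rcases List.mem_append.1 hr with hr | hr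
      · rcases List.mem_append.1 hr with hr | hr
        · exact hZs r hr
        obtain ⟨d, -, rfl⟩ := List.mem_map.1 hr
        have e : FreeGroup.lift (mB g hζ hζ1) gH = hB U g := by simp [mB, gH]
        rw [commW_lift, map_cj, e, mB_zW, (XZm_conj U g).cj_eq]
        refine Subtype.ext ?_
        simp only [mB, lift_gU, u0, XZm_apply, Subgroup.coe_mul, coe_uB]
        rw [uE_mul, uE_mul]
        refine uE_congr (by ring) ?_ _
        simp [add_comm]
      obtain ⟨W, hW, rfl⟩ := List.mem_map.1 hr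
      refine hfix S W ?_
      rcases List.mem_cons.1 hW with rfl | hW
      · simp only [L2, map_pow, lift_gU]; exact hom_pow_char X2
      rcases List.mem_cons.1 hW with rfl | hW
      · simp only [L2, map_polyWord, lift_gU, lift_gH, hX2.polyWord_eq, pow_one, hf0, ofAdd_zero, map_one]
      obtain ⟨d, -, rfl⟩ := List.mem_map.1 hW
      simp only [L2]
      rw [commW_lift, map_cj, lift_gU, lift_gH, hX2.cj_eq]
      exact (Commute.all _ _).map X2
    · intro P _ uu hh h
      simp only [List.forall_mem_append] at h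
      obtain ⟨⟨hz, hc⟩, ha⟩ := h
      obtain ⟨hhN, ⟨Z⟩⟩ := zhom_of_rels g S (p := p) (nOf_span U hF g hg) hfKker hz
      have hcen : ∀ c, Commute (Z.X (ofAdd c)) uu := fun c => by
        obtain ⟨R, hR, rfl⟩ := hshort c
        refine Z.central_of_eq hR fun d hd => ?_
        have := hc _ (List.mem_map.2 ⟨d, List.mem_range.2 hd, rfl⟩)
        rwa [commW_lift, map_cj, lift_gU, lift_gH, ← Z.one, IsConjHom.cj_eq (s := nOf U g) Z.conj] at this
      refine Z.card_le (g := g) hhN hN0 (sOf U g) rfl hcen fun Q _ ub hb0 hk => ?_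
      have key : ∀ W ∈ La, FreeGroup.lift ![ub, hb0, 1] W = 1 := fun W hW =>
        hk _ (Z.of_fixW hζ hζ1 (ha _ (List.mem_map.2 ⟨W, hW, rfl⟩)))
      have k1 := key _ (List.mem_cons_self ..)
      have k2 := key _ (List.mem_cons_of_mem _ (List.mem_cons_self ..))
      simp only [map_pow, map_polyWord, lift_gU, lift_gH] at k1 k2
      have hbN : hb0 ^ ((q + 1) * (q - 1)) = 1 := by
        have := hk (gH ^ ((q + 1) * (q - 1))) (by
          rw [map_pow, lift_gH, hhN]; exact one_mem _)
        rwa [map_pow, lift_gH] at this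
      have hall : ∀ i : ℤ, Commute ub (cj hb0 ub (i * ((1 : ℕ) : ℤ))) := fun i => by
        rw [Nat.cast_one, mul_one]
        refine commute_all_of_monic hN0 hbN f hfm (fun d hd => ?_) k2 i
        rcases d with _ | _ | d
        · rw [Nat.cast_zero, cj_zero]
        · have := hk zW (Z.one ▸ ⟨_, rfl⟩)
          simp only [zW, map_mul, map_inv, lift_gU, lift_gH] at this
          rw [mul_inv_eq_one, mul_inv_eq_iff_eq_mul] at this
          simpa [cj, Commute, SemiconjBy] using this
        · have := key _ (List.mem_cons_of_mem _ (List.mem_cons_of_mem _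
            (List.mem_map.2 ⟨d + 2, List.mem_range'_1.2 ⟨by omega, by omega⟩, rfl⟩)))
          rwa [commW_lift, map_cj, lift_gU, lift_gH] at this
      exact exists_hom hb0 ub ((1 : ℕ) : ℤ) hall (sOf U g) (sOf U g) (sOf_span U hF g hg hq) f Polynomial.X
        k1 k2 hfker (by simp [polyWord, List.range_succ, cj, coeff_X]) (aeval_X _)

end CfsgLib.Presentations.SUPres
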