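/-
`SU 3` has a presentation with three generators and twenty relations.
-/
import Cfsg.Agent.Lib.Presentations.SUPres.U3BorelRels
import Cfsg.Agent.Lib.Presentations.PresOn
import Cfsg.Agent.Lib.Chev.CT.Phan.Main

set_option autoImplicit false

namespace CfsgLib.Presentations.SUPres

open Matrix Cfsg CfsgLib.Chev.CT.Phan CfsgLib.SL2Pres
open Multiplicative (ofAdd toAdd)

universe u

variable {F : Type u} [Field F] {q : ℕ}

/-- Forget the Weyl generator. -/
def dropW : FreeGroup (Fin 3) →* FreeGroup (Fin 3) := FreeGroup.lift ![gU, gH, 1]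

theorem lift_dropW {G : Type*} [Group G] (f : Fin 3 → G) (r : FreeGroup (Fin 3)) :
    FreeGroup.lift f (dropW r) = FreeGroup.lift ![f 0, f 1, 1] r := by
  rw [dropW, lift_natural]
  congr 1
  exact congrArg _ (funext fun i => by fin_cases i <;> simp [gU, gH])

theorem t3_boundedOn [Fintype F] (U : UF F q) (hF : Fintype.card F = q ^ 2) (hq : 3 ≤ q) :
    BoundedOn (T3 U) (Fin 3) 20 := by
  classical
  obtain ⟨g, hg'⟩ := IsCyclic.exists_generator (α := Fˣ)
  have hg : ∀ x : Fˣ, ∃ k : ℕ, g ^ k = x := fun x => by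
    obtain ⟨k, hk⟩ := mem_powers_iff_mem_zpowers.2 (hg' x); exact ⟨k, hk⟩
  obtain ⟨ζ, hζ, hord, hsurj⟩ := exists_norm_gen (U := U) hF g hg
  have hζ1 : ζ ≠ 1 := by simpa using hord 1 one_pos (by omega)
  obtain ⟨D⟩ := exists_brels (U := U) hF hq g hg hζ hζ1
  have hgenB : Subgroup.closure (Set.range (mB g hζ hζ1)) = ⊤ := by
    rw [eq_top_iff, ← gen_BB (U := U) hF g hg hζ hζ1 hq, Subgroup.closure_le]
    rintro x (rfl | rfl)
    · exact Subgroup.subset_closure ⟨0, rfl⟩
    · exact Subgroup.subset_closure ⟨1, rfl⟩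
  obtain ⟨WB, hWB⟩ := exists_words _ hgenB
  let gT : Fin 3 → T3 U := ![(u0 U ζ hζ hζ1 : T3 U), hE U g, wE U]
  have hT : ∀ x : BB U, FreeGroup.lift gT (dropW (WB x)) = x := fun x => by
    conv_rhs => rw [← hWB x]
    rw [lift_dropW, show ((FreeGroup.lift (mB g hζ hζ1) (WB x) : BB U) : T3 U) =
      (BB U).subtype (FreeGroup.lift (mB g hζ hζ1) (WB x)) from rfl, lift_natural (BB U).subtype]
    congr 1
    exact congrArg _ (funext fun i => by fin_cases i <;> simp [gT, mB] <;> rfl)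
  obtain ⟨kw, hkw⟩ := hg (wt U g)
  let wd : BB U → FreeGroup (Fin 3) := fun x => dropW (WB x)
  let seed : ∀ (a b : F), IsU U a b → FreeGroup (Fin 3) := fun a b h =>
    if hb : b = 0 then 1 else
      gW * wd (uB U a b h) * gW * (wd (uB U _ _ (h.flip_left hb)) * gW *
        wd (hB U (Units.mk0 b hb) * uB U _ _ (h.flip_right hb)))⁻¹
  have hseed : ∀ a b (h : IsU U a b), FreeGroup.lift gT (seed a b h) = 1 := by
    intro a b h
    simp only [seed]
    split_ifs with hb
    · exact map_one _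
    · have e : FreeGroup.lift gT gW = wE U := by simp [gT, gW]
      simp only [wd, map_mul, map_inv, hT, e, coe_uB, Subgroup.coe_mul, coe_hB, mul_inv_eq_one]
      exact wuw h hb
  have hc0 : cZ U g * ((1 : KK U) : F) ≠ 0 := by
    rw [OneMemClass.coe_one, mul_one]; exact cZ_ne_zero (U := U) hF g hg hq
  let sa : Fin 3 → F := fun i => (g : F) ^ (i : ℕ)
  have hsa : ∀ i, IsU U (sa i) (sa i * U.σ (sa i) / (ζ - 1)) := fun i => isU_point (U := U) hζ hζ1 _
  refine ⟨gT, D.L.map dropW ++ [gW * gW, gW * gH * (gH ^ kw * gW)⁻¹, seed 0 _ (isU_cZ U g 1)] ++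
    List.ofFn fun i => seed (sa i) _ (hsa i), ?_, ?_, ?_, ?_⟩
  · have := D.len
    simp; omega
  · intro r hr
    simp only [List.mem_append, List.mem_map, List.mem_cons, List.not_mem_nil, or_false, List.mem_ofFn] at hr
    rcases hr with (⟨r, hr, rfl⟩ | rfl | rfl | rfl) | ⟨i, rfl⟩
    · have := congrArg (BB U).subtype (D.sound r hr)
      rw [map_one, lift_natural (BB U).subtype] at this
      refine Eq.trans ?_ this
      rw [lift_dropW]
      congr 1
      exact congrArg _ (funext fun i => by fin_cases i <;> simp [gT, mB] <;> rfl)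
    · simp [gT, gW, wE_sq]
    · simp only [map_mul, map_inv, map_pow, gT, gW, gH, FreeGroup.lift_apply_of]
      show wE U * hE U g * (hE U g ^ kw * wE U)⁻¹ = 1
      rw [← hHom_apply g, ← map_pow, hkw, hHom_apply, hHom_apply, wE_hE, mul_inv_cancel]
    · exact hseed _ _ _
    · exact hseed _ _ _
  · rw [eq_top_iff, ← closure_eq_top U, sup_le_iff, Subgroup.zpowers_le]
    refine ⟨fun x hx => ?_, Subgroup.subset_closure ⟨2, rfl⟩⟩
    rw [← FreeGroup.range_lift_eq_closure]
    exact ⟨_, hT ⟨x, hx⟩⟩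
  · intro Γ _ f hf
    simp only [List.forall_mem_append, List.forall_mem_cons] at hf
    obtain ⟨⟨hB', hw2, hwh, hsd, -⟩, hss⟩ := hf
    let uu : BB U × Γ := (u0 U ζ hζ hζ1, f 0)
    let hh : BB U × Γ := (hB U g, f 1)
    have hrels : ∀ r ∈ D.L, FreeGroup.lift ![uu, hh, 1] r = 1 := fun r hr => by
      refine Prod.ext ?_ ?_
      · refine Eq.trans ?_ (D.sound r hr)
        rw [show (FreeGroup.lift ![uu, hh, 1] r).1 = MonoidHom.fst _ _ (FreeGroup.lift ![uu, hh, 1] r) from rfl,
          lift_natural (MonoidHom.fst (BB U) Γ)]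
        congr 1
        exact congrArg _ (funext fun i => by fin_cases i <;> simp [uu, hh, mB])
      · refine Eq.trans ?_ (hB' _ (List.mem_map.2 ⟨r, hr, rfl⟩))
        rw [show (FreeGroup.lift ![uu, hh, 1] r).2 = MonoidHom.snd _ _ (FreeGroup.lift ![uu, hh, 1] r) from rfl,
          lift_natural (MonoidHom.snd (BB U) Γ), lift_dropW]
        congr 1
        exact congrArg _ (funext fun i => by fin_cases i <;> simp [uu, hh])
    obtain ⟨hfin, hcard⟩ := D.force _ uu hh hrels
    have hclo : Subgroup.closure (Set.range fun i => (mB g hζ hζ1 i, (![f 0, f 1, 1] : Fin 3 → Γ) i)) =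
        Subgroup.closure ({uu, hh} : Set (BB U × Γ)) := by
      refine le_antisymm ((Subgroup.closure_le _).2 ?_) (Subgroup.closure_mono ?_)
      · rintro _ ⟨i, rfl⟩
        fin_cases i
        · exact Subgroup.subset_closure (Or.inl rfl)
        · exact Subgroup.subset_closure (Or.inr rfl)
        · exact one_mem _
      · rintro x (rfl | rfl)
        · exact ⟨0, rfl⟩
        · exact ⟨1, rfl⟩
    obtain ⟨β, hβ⟩ := exists_hom_of_card (mB g hζ hζ1) ![f 0, f 1, 1] hgenB (hclo ▸ hfin)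
      (by rw [hclo]; exact hcard.trans (card_BB_ge (U := U) hF g hg hq))
    have hβW : ∀ x, FreeGroup.lift f (dropW (WB x)) = β x := fun x => by
      conv_rhs => rw [← hWB x, lift_natural β]
      rw [lift_dropW]
      congr 1
      exact congrArg _ (funext fun i => (hβ i).symm)
    have hb1 : β (hB U g) = f 1 := hβ 1
    have ew : FreeGroup.lift f gW = f 2 := by simp [gW]
    have ew2 : f 2 * f 2 = 1 := by rwa [map_mul, ew] at hw2
    have ewh : ∀ t : Fˣ, f 2 * β (hB U t) = β (hB U (wt U t)) * f 2 := by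
      have h1 : SemiconjBy (f 2) (β (hB U g)) (β (hB U (wt U g))) := by
        rw [map_mul, map_inv, map_mul, map_mul, map_pow, ew, show FreeGroup.lift f gH = f 1 by simp [gH],
          mul_inv_eq_one] at hwh
        show _ = _
        rw [hb1, ← hkw, map_pow, map_pow, hb1]
        exact hwh
      intro t
      obtain ⟨k, rfl⟩ := hg t
      have e : wt U (g ^ k) = wt U g ^ k := by
        refine Units.ext ?_
        rw [Units.val_pow_eq_pow_val, wt_val, wt_val, Units.val_pow_eq_pow_val, map_pow, inv_pow]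
      rw [e, map_pow, map_pow, map_pow, map_pow]
      exact (h1.pow_right k).eq
    let E : Ext U Γ := ⟨β, f 2, ew2, ewh⟩
    have hR : ∀ a b (h : IsU U a b), b ≠ 0 → FreeGroup.lift f (seed a b h) = 1 → E.R a b := by
      intro a b h hb hs
      refine E.R_of_eq h hb ?_
      simp only [seed, dif_neg hb, wd, map_mul, map_inv, ew, hβW, mul_inv_eq_one] at hs
      show f 2 * β _ * f 2 = β _ * f 2 * β _
      rw [map_mul β]
      exact hs
    have hall := E.all_R_of_seeds g hg ζ hζ hord hsurj hc0 (isU_cZ U g 1) (hR _ _ _ hc0 hsd)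
      (fun i => hR _ _ (hsa i) (div_ne_zero (mul_ne_zero (pow_ne_zero _ g.ne_zero)
        ((map_ne_zero U.σ).2 (pow_ne_zero _ g.ne_zero))) (sub_ne_zero.2 hζ1))
        (hss _ (List.mem_ofFn.2 ⟨i, rfl⟩)))
    obtain ⟨Ψ, hΨ, hΨw⟩ := E.exists_hom hall
    refine ⟨Ψ, fun i => ?_⟩
    fin_cases i
    · exact (DFunLike.congr_fun hΨ (u0 U ζ hζ hζ1)).trans (hβ 0)
    · exact (DFunLike.congr_fun hΨ (hB U g)).trans (hβ 1)
    · exact hΨw

variable (U : UF F q)

/-- The antidiagonal model is isomorphic to the standard one. -/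
theorem t3_equiv : Nonempty (T3 U ≃* SU 3 F q) := by
  obtain ⟨a, ha⟩ := U.exists_norm (-1) (by simp)
  obtain ⟨z, hz⟩ := U.exists_trace
  have ha0 : a ≠ 0 := by
    rintro rfl
    exact neg_ne_zero.2 (one_ne_zero (α := F)) (by rw [← ha, zero_mul])
  set P : Matrix (Fin 3) (Fin 3) F := !![1, 0, z; a, 0, (z - 1) * a; 0, 1, 0] with hP
  have hdet : P.det = a := by simp [hP, det_fin_three]; ring
  let PG : GL (Fin 3) F := GeneralLinearGroup.mkOfDetNeZero P (hdet ▸ ha0)
  have hform : ∀ x y, hermForm 3 F q (P *ᵥ x) (P *ᵥ y) = hJ U x y := by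
    intro x y
    simp [hermForm, ← U.hσ, hJ, hP, mulVec, dotProduct, Fin.sum_univ_three]
    linear_combination (x 0 * U.σ (y 0) + x 0 * U.σ (y 2) * (U.σ z - 1) + x 2 * U.σ (y 0) * (z - 1) +
      x 2 * U.σ (y 2) * ((z - 1) * (U.σ z - 1))) * ha + (x 0 * U.σ (y 2) * 0 + x 2 * U.σ (y 2)) * hz
  let c : SpecialLinearGroup (Fin 3) F ≃* SpecialLinearGroup (Fin 3) F :=
    { toFun := fun M => ⟨(PG : Matrix _ _ F) * M.1 * ((PG⁻¹ : GL (Fin 3) F) : Matrix _ _ F),
        by rw [det_units_conj, M.2]⟩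
      invFun := fun M => ⟨((PG⁻¹ : GL (Fin 3) F) : Matrix _ _ F) * M.1 * (PG : Matrix _ _ F),
        by have := det_units_conj PG⁻¹ M.1; rw [inv_inv] at this; rw [this, M.2]⟩
      left_inv := fun M => Subtype.ext (by simp [mul_assoc])
      right_inv := fun M => Subtype.ext (by simp [mul_assoc])
      map_mul' := fun M N => Subtype.ext (by show _ = (_ * _ : Matrix (Fin 3) (Fin 3) F); simp [mul_assoc]) }
  have hmap : (T3 U).map c.toMonoidHom = SU 3 F q := by
    ext M
    have hc : ∀ N, (c N).1 * P = P * N.1 := fun N => by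
      show (PG : Matrix _ _ F) * N.1 * ((PG⁻¹ : GL (Fin 3) F) : Matrix _ _ F) * (PG : Matrix _ _ F) = _
      rw [mul_assoc, Units.inv_mul, mul_one]; rfl
    constructor
    · rintro ⟨N, hN, rfl⟩ x y
      obtain ⟨x', rfl⟩ : ∃ x', P *ᵥ x' = x := ⟨((PG⁻¹ : GL (Fin 3) F) : Matrix _ _ F) *ᵥ x, by
        rw [mulVec_mulVec, show P = (PG : Matrix _ _ F) from rfl, Units.mul_inv, one_mulVec]⟩
      obtain ⟨y', rfl⟩ : ∃ y', P *ᵥ y' = y := ⟨((PG⁻¹ : GL (Fin 3) F) : Matrix _ _ F) *ᵥ y, by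
        rw [mulVec_mulVec, show P = (PG : Matrix _ _ F) from rfl, Units.mul_inv, one_mulVec]⟩
      show hermForm 3 F q ((c N).1 *ᵥ (P *ᵥ x')) ((c N).1 *ᵥ (P *ᵥ y')) = _
      rw [mulVec_mulVec, mulVec_mulVec, hc, ← mulVec_mulVec, ← mulVec_mulVec, hform, hform]
      exact hN x' y'
    · intro hM
      refine ⟨c.symm M, fun x y => ?_, c.apply_symm_apply M⟩
      show hJ U ((c.symm M).1 *ᵥ x) ((c.symm M).1 *ᵥ y) = hJ U x y
      rw [← hform, ← hform, mulVec_mulVec, mulVec_mulVec, ← hc, c.apply_symm_apply, ← mulVec_mulVec,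
        ← mulVec_mulVec]
      exact hM _ _
  exact ⟨((T3 U).equivMapOfInjective c.toMonoidHom c.injective).trans (MulEquiv.subgroupCongr hmap)⟩

theorem su3_boundedOn [Fintype F] (hF : Fintype.card F = q ^ 2) (hq : 3 ≤ q) :
    BoundedOn (SU 3 F q) (Fin 3) 20 := by
  obtain ⟨U⟩ := UF.of_card (F := F) hF
  obtain ⟨e⟩ := t3_equiv U
  exact (t3_boundedOn U hF hq).map e

end CfsgLib.Presentations.SUPres
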