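/-
Six generators and few relations for the special unitary groups.
-/
import Cfsg.Agent.Lib.Presentations.SUPres.TwoBig
import Cfsg.Agent.Lib.Presentations.SUPres.ThreeBig
import Cfsg.Agent.Lib.Presentations.SUPres.U3Pres
import Cfsg.Agent.Lib.Presentations.SUPres.Center
import Cfsg.Agent.Lib.Presentations.SLTight.Main
import Cfsg.Agent.Lib.Presentations.PresOn

set_option autoImplicit false

namespace CfsgLib.Presentations.SUPres

open Cfsg CfsgLib.Chev.CT.Phan Equiv Equiv.Perm

universe u

variable {F : Type u} [Field F] [Fintype F] {q n : ℕ}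

theorem alt_four : BoundedOn (alternatingGroup (Fin 4)) (Fin 2) 3 :=
  (Carmichael.bounded_small_on 2 (by norm_num)).reindex
    (Fintype.equivFinOfCardEq (Carmichael.card_idx 2))

theorem alt_five : BoundedOn (alternatingGroup (Fin 5)) (Fin 2) 4 :=
  AltSeven.alt_five_four.map
    (Equiv.altCongrHom (Fintype.equivFinOfCardEq (by simp) : AltSeven.Pts 3 ≃ Fin 5))

theorem sym_four : BoundedOn (⊤ : Subgroup (Perm (Fin 4))) (Fin 2 ⊕ Unit) 6 :=
  ((AltSeven.sym_of_alt alt_four (show (0 : Fin 4) ≠ 1 by decide)).map Subgroup.topEquiv.symm).mono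
    (by simp)

theorem exact_six {T : Type u} [Group T] {κ : Type} [Fintype κ] {m r : ℕ} (h : BoundedOn T κ m)
    (hk : Fintype.card κ ≤ 6) (hr : m + (6 - Fintype.card κ) ≤ r) : BoundedOn T (Fin 6) r :=
  ((h.pad (6 - Fintype.card κ)).reindex (Fintype.equivFinOfCardEq (by simp; omega))).mono hr

/-- Six generators and at most thirty-six relations, thirty-five in degrees four and five. -/
theorem su_six (hF : Fintype.card F = q ^ 2) (hn : 4 ≤ n) :
    BoundedOn (SU n F q) (Fin 6) 36 ∧ (n ≤ 5 → BoundedOn (SU n F q) (Fin 6) 35) := by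
  have hq := Classical.two_le_q hF
  suffices h : BoundedOn (SU n F q) (Fin 6) (if n ≤ 5 then 35 else 36) from
    ⟨h.mono (by split_ifs <;> omega), fun h5 => h.mono (by rw [if_pos h5])⟩
  rcases Nat.lt_or_ge q 3 with h3 | h3
  · obtain rfl : q = 2 := by omega
    have h4 : Fintype.card F = 4 := by rw [hF]; norm_num
    obtain ⟨U⟩ := UF.of_card (F := F) hF
    obtain ⟨R⟩ := Two.exists_root U h4
    rcases hn.eq_or_lt with rfl | h5
    · exact exact_six (Two.su_four h4 sym_four R) (by simp) (by simp)
    · have hS := (AltSeven.seven_sym_alt n h5).1.1.map Subgroup.topEquiv.symm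
      exact exact_six (Two.su_big h4 R h5 hS) (by simp) (by simp; split_ifs <;> omega)
  have hA := su3_boundedOn (F := F) hF h3
  rcases h3.eq_or_lt with rfl | h3
  · have h9 : Fintype.card F = 9 := by rw [hF]; norm_num
    rcases hn.eq_or_lt with rfl | h5
    · exact exact_six (Three.su_four h9 hA alt_four) (by simp) (by simp)
    rcases (show 5 ≤ n from h5).eq_or_lt with rfl | h6
    · exact exact_six (Three.su_big h9 le_rfl hA alt_five) (by simp) (by simp)
    · exact exact_six (Three.su_big h9 h5 hA (AltSeven.seven_sym_alt n h5).2.1) (by simp)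
        (by simp; split_ifs <;> omega)
  · rcases hn.eq_or_lt with rfl | h5
    · exact exact_six (su_four hF h3 hA alt_four) (by simp) (by simp)
    · exact exact_six (su_big hF h3 h5 hA (AltSeven.seven_sym_alt n h5).2.1) (by simp)
        (by simp; split_ifs <;> omega)

theorem psu_six (hF : Fintype.card F = q ^ 2) (hn : 4 ≤ n) :
    BoundedOn (PSU n F q) (Fin 6) 37 ∧ (n ≤ 5 → BoundedOn (PSU n F q) (Fin 6) 36) :=
  ⟨boundedOn_psu hF (by omega) (su_six hF hn).1, fun h5 => boundedOn_psu hF (by omega) ((su_six hF hn).2 h5)⟩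

/-- A bounded number of relations for all the projective groups. -/
theorem psu_bounded (hF : Fintype.card F = q ^ 2) (hn : 3 ≤ n) (h32 : ¬(n = 3 ∧ q = 2)) :
    Bounded (PSU n F q) 37 := by
  rcases hn.eq_or_lt with rfl | h4
  · have hq := Classical.two_le_q hF
    exact bounded_iff.2 ⟨_, (boundedOn_psu hF (by norm_num) (su3_boundedOn (F := F) hF (by omega))).mono (by norm_num)⟩
  · exact bounded_iff.2 ⟨_, (psu_six hF h4).1⟩

end CfsgLib.Presentations.SUPres
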