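/-
Numbers packed in lists of large numbers.
-/
import Mathlib.Data.Nat.Bitwise

set_option autoImplicit false

namespace CfsgLib.Presentations.SUPres

/-- The `k`th packed number. -/
def look (L : List ℕ) (bits per k : ℕ) : ℕ :=
  (L.getD (k / per) 0 >>> (bits * (k % per))) % 2 ^ bits

/-- The digits of a number packed with an offset of one, for words. -/
def unword (base : ℕ) : ℕ → ℕ → List ℕ
  | 0, _ => []
  | fuel + 1, x => if x = 0 then [] else (x % base - 1) :: unword base fuel (x / base)

/-- The digits of a packed word of bounded length. -/
def wordOf (base x : ℕ) : List ℕ := unword base 24 x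

/-- All packed numbers, decoded. -/
def unpack (L : List ℕ) (bits per : ℕ) {α : Type} (f : ℕ → α) (n : ℕ) : List α :=
  (List.range n).map fun k => f (look L bits per k - 1)

end CfsgLib.Presentations.SUPres
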